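import Groth.Agent.Ega3B.FibreSpreadIso
import Mathlib.AlgebraicGeometry.Morphisms.FlatDescent

/-!
# The open locus of the base over which a morphism of proper schemes is an isomorphism
-/

set_option autoImplicit false
universe u

open CategoryTheory CategoryTheory.Limits AlgebraicGeometry

namespace K921.IsoLocus

open Groth.Agent.Ega3B.FibreSpread

variable {X Y S : Scheme.{u}}

/-- the largest open of `S` over which `f` is an isomorphism. -/
noncomputable def locus (f : X ⟶ Y) (h : Y ⟶ S) : S.Opens := sSup {U | IsIso (f ∣_ (h ⁻¹ᵁ U))}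

theorem mem_locus {f : X ⟶ Y} {h : Y ⟶ S} {s : S} :
    s ∈ locus f h ↔ ∃ U : S.Opens, IsIso (f ∣_ (h ⁻¹ᵁ U)) ∧ s ∈ U := by
  unfold locus
  rw [TopologicalSpace.Opens.mem_sSup]
  rfl

theorem isIso_of_isPullback_of_range {X' Y' : Scheme.{u}} {f : X ⟶ Y} {p : X' ⟶ X} {f' : X' ⟶ Y'}
    {q : Y' ⟶ Y} (H : IsPullback p f' f q) (V : Y.Opens) [IsIso (f ∣_ V)] (hq : Set.range q ⊆ (V : Set Y)) :
    IsIso f' := by
  have hq' : Set.range q ⊆ Set.range V.ι := by simpa using hq
  have hfac : IsOpenImmersion.lift V.ι q hq' ≫ V.ι = q := IsOpenImmersion.lift_fac _ _ _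
  have H1 : IsPullback (f ⁻¹ᵁ V).ι (f ∣_ V) f V.ι := (isPullback_morphismRestrict f V).flip
  rw [← hfac] at H
  have h2 : IsPullback (H1.lift p (f' ≫ IsOpenImmersion.lift V.ι q hq') (by rw [Category.assoc, H.w]))
      f' (f ∣_ V) (IsOpenImmersion.lift V.ι q hq') := by
    refine IsPullback.of_right ?_ (H1.lift_snd _ _ _) H1
    rw [H1.lift_fst]
    exact H
  have : MorphismProperty.isomorphisms Scheme.{u} f' :=
    MorphismProperty.of_isPullback (P := MorphismProperty.isomorphisms Scheme.{u}) h2 ‹_›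
  exact this

/-- Being an isomorphism over a union of opens. -/
theorem isIso_locus (f : X ⟶ Y) (h : Y ⟶ S) : IsIso (f ∣_ (h ⁻¹ᵁ (locus f h))) := by
  set W := h ⁻¹ᵁ (locus f h) with hW
  let ι := {U : S.Opens // IsIso (f ∣_ (h ⁻¹ᵁ U))}
  let 𝒰 : ι → W.toScheme.Opens := fun U => W.ι ⁻¹ᵁ (h ⁻¹ᵁ U.1)
  have hcov : iSup 𝒰 = ⊤ := by
    rw [eq_top_iff]
    rintro ⟨y, hy⟩ -
    obtain ⟨U, hU, hyU⟩ := mem_locus.1 hy
    exact TopologicalSpace.Opens.mem_iSup.2 ⟨⟨U, hU⟩, hyU⟩
  have key : ∀ i : ι, MorphismProperty.isomorphisms Scheme.{u} ((f ∣_ W) ∣_ 𝒰 i) := by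
    intro i
    have h1 := i.2
    have H1 : IsPullback ((f ∣_ W) ⁻¹ᵁ 𝒰 i).ι ((f ∣_ W) ∣_ 𝒰 i) (f ∣_ W) (𝒰 i).ι :=
      (isPullback_morphismRestrict (f ∣_ W) (𝒰 i)).flip
    have H2 : IsPullback (f ⁻¹ᵁ W).ι (f ∣_ W) f W.ι := (isPullback_morphismRestrict f W).flip
    refine isIso_of_isPullback_of_range (H1.paste_horiz H2) (h ⁻¹ᵁ i.1) ?_
    rintro _ ⟨z, rfl⟩
    exact z.2
  exact (IsZariskiLocalAtTarget.iff_of_iSup_eq_top (P := MorphismProperty.isomorphisms Scheme.{u}) 𝒰 hcov).2 key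

/-- **The isomorphism locus**. -/
theorem isIso_baseChange_iff [IsLocallyNoetherian S] (f : X ⟶ Y) (g : X ⟶ S) (h : Y ⟶ S) (w : f ≫ h = g)
    [IsProper g] [IsProper h] [Flat g] {S' X' Y' : Scheme.{u}} {t : S' ⟶ S} {f' : X' ⟶ Y'}
    {pX : X' ⟶ X} {pY : Y' ⟶ Y} {h' : Y' ⟶ S'} (H : IsPullback pX f' f pY) (H' : IsPullback pY h' h t) :
    IsIso f' ↔ Set.range t ⊆ (locus f h : Set S) := by
  constructor
  · rintro hf' _ ⟨s, rfl⟩
    have h0 := Groth.Agent.Ega3B.FibreSpread.isPullback_fiberMapOver f g h w (t s)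
    have h1 := Groth.Agent.Ega3B.FibreSpread.isPullback_fiberMapOver f' (f' ≫ h') h' rfl s
    have e1 : IsIso (CohIII.fiberMapOver f' (f' ≫ h') h' rfl s) := by
      have : MorphismProperty.isomorphisms Scheme.{u} (CohIII.fiberMapOver f' (f' ≫ h') h' rfl s) :=
        MorphismProperty.of_isPullback (P := MorphismProperty.isomorphisms Scheme.{u}) h1.flip hf'
      exact this
    obtain ⟨q, hqι, h2⟩ : ∃ q : h'.fiber s ⟶ h.fiber (t s),
        q ≫ h.fiberι (t s) = h'.fiberι s ≫ pY ∧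
        IsPullback q (h'.fiberToSpecResidueField s) (h.fiberToSpecResidueField (t s))
          (Spec.map (t.residueFieldMap s)) :=
      ⟨_, pullback.lift_fst _ _ _, isPullback_fiberToSpecResidueField_of_isPullback H' s⟩
    -- the pasted square
    have h3 : IsPullback ((f' ≫ h').fiberι s ≫ pX) (CohIII.fiberMapOver f' (f' ≫ h') h' rfl s) f
        (q ≫ h.fiberι (t s)) := by
      rw [hqι]
      exact h1.flip.paste_horiz H
    have h4 : IsPullback (h0.flip.lift ((f' ≫ h').fiberι s ≫ pX)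
        (CohIII.fiberMapOver f' (f' ≫ h') h' rfl s ≫ q) (h3.w.trans (Category.assoc _ _ _).symm))
        (CohIII.fiberMapOver f' (f' ≫ h') h' rfl s) (CohIII.fiberMapOver f g h w (t s)) q := by
      refine IsPullback.of_right ?_ (h0.flip.lift_snd _ _ _) h0.flip
      rw [h0.flip.lift_fst]
      exact h3
    have hQ : (@Surjective ⊓ @Flat ⊓ @QuasiCompact : MorphismProperty Scheme.{u}) q := by
      have hP : (@Surjective ⊓ @Flat ⊓ @QuasiCompact : MorphismProperty Scheme.{u})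
          (Spec.map (t.residueFieldMap s)) := by
        refine ⟨⟨inferInstance, ?_⟩, inferInstance⟩
        rw [Flat.SpecMap_iff]
        exact RingHom.Flat.of_isField (Field.toIsField _) _
      exact ⟨⟨MorphismProperty.of_isPullback (P := @Surjective) h2.flip hP.1.1,
        MorphismProperty.of_isPullback (P := @Flat) h2.flip hP.1.2⟩,
        MorphismProperty.of_isPullback (P := @QuasiCompact) h2.flip hP.2⟩
    have h5 : MorphismProperty.isomorphisms Scheme.{u} (CohIII.fiberMapOver f g h w (t s)) :=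
      MorphismProperty.of_isPullback_of_descendsAlong
        (Q := (@Surjective ⊓ @Flat ⊓ @QuasiCompact : MorphismProperty Scheme.{u})) h4.flip hQ e1
    have h6 : IsIso (CohIII.fiberMapOver f g h w (t s)) := h5
    obtain ⟨U, hU, hU'⟩ := Groth.Agent.Ega3B.FibreSpreadIso.exists_isIso f g h w (t s)
    exact mem_locus.2 ⟨U, hU', hU⟩
  · intro ht
    have h1 := isIso_locus f h
    refine isIso_of_isPullback_of_range H (h ⁻¹ᵁ locus f h) ?_
    rintro _ ⟨y, rfl⟩
    change h (pY y) ∈ locus f h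
    rw [← Scheme.Hom.comp_apply, H'.w, Scheme.Hom.comp_apply]
    exact ht ⟨_, rfl⟩

end K921.IsoLocus
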