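import Groth.Agent.Dcoh.DualFLF
import Groth.Agent.Dcoh.FinLocFree
import Groth.Agent.Dcoh.MonPull292
import Groth.Agent.Sga2.PnHomAdj
import Groth.Agent.SDiv.K476.HomSh6
import Groth.Prelude.Def_RefHull

/-!
# The dual of a finite locally free module commutes with arbitrary pullback

* `homShIso`: `RefHull.homSh F L ≅ V ⊗ L` for an exact pairing `ExactPairing F V`;
* `nonempty_pullback_dual`: `f^* (dual F) ≅ dual (f^* F)` for `F` finite locally free, `f` arbitrary;
* `nonempty_tensor_dual`: `dual F ⊗ L ≅ homSh F L`;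
* `nonempty_tensor_pullback_dual`: `f^* (dual F) ⊗ L ≅ homSh (f^* F) L`.
-/

set_option autoImplicit false
universe u

open CategoryTheory CategoryTheory.Limits AlgebraicGeometry MonoidalCategory

namespace K921.PullDual

open scoped Groth.Agent.Dcoh.MonCat
open Groth.Agent

variable {X Y : Scheme.{u}}

/-- The sheaf Hom out of a dualizable module. -/
noncomputable def homSheafIso (F V L : X.Modules) [ExactPairing F V] :
    CohqB.HomSheaf.homSheaf F L ≅ CohB1.tensorMod V L :=
  letI := BraidedCategory.exactPairing_swap F V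
  let a : tensorLeft F ⊣ tensorLeft V := tensorLeftAdjunction V F
  let b : tensorLeft F ⊣ Sga2.PnHomAdj.homF F := Sga2.PnHomAdj.homAdj F
  (b.rightAdjointUniq a).app L

noncomputable def homShIso (F V L : X.Modules) [ExactPairing F V] :
    RefHull.homSh F L ≅ CohB1.tensorMod V L :=
  _root_.K476.HomSh6.cmpIso F L ≪≫ homSheafIso F V L

/-- The dual in the sense of exact pairings is the sheaf Hom into the structure sheaf. -/
noncomputable def dualIso (F V : X.Modules) [ExactPairing F V] : RefHull.dual F ≅ V :=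
  homShIso F V (Coh.structureModule X) ≪≫ ρ_ V

theorem isFinLocFree_dual {F : X.Modules} (hF : FlatMod.IsFinLocFree F) :
    FlatMod.IsFinLocFree (RefHull.dual F) := by
  obtain ⟨V, ⟨h⟩⟩ := Dcoh.DualFLF.exists_exactPairing hF
  exact Dcoh.FinLocFree.isFinLocFree_of_iso (dualIso F V).symm (Dcoh.DualFLF.isFinLocFree_dual hF V)

/-- Functoriality of the tensor product on isomorphisms. -/
noncomputable def tensMap {M M' N N' : X.Modules} (e : M ≅ M') (g : N ≅ N') :
    CohB1.tensorMod M N ≅ CohB1.tensorMod M' N' :=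
  MonoidalCategory.tensorIso e g

theorem nonempty_tensor_dual {F : X.Modules} (hF : FlatMod.IsFinLocFree F) (L : X.Modules) :
    Nonempty (CohB1.tensorMod (RefHull.dual F) L ≅ RefHull.homSh F L) := by
  obtain ⟨V, ⟨h⟩⟩ := Dcoh.DualFLF.exists_exactPairing hF
  exact ⟨tensMap (dualIso F V) (Iso.refl L) ≪≫ (homShIso F V L).symm⟩

/-- The dual of a finite locally free module commutes with arbitrary pullback. -/
theorem nonempty_pullback_dual (f : Y ⟶ X) {F : X.Modules} (hF : FlatMod.IsFinLocFree F) :
    Nonempty ((Scheme.Modules.pullback f).obj (RefHull.dual F) ≅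
      RefHull.dual ((Scheme.Modules.pullback f).obj F)) := by
  obtain ⟨V, ⟨h⟩⟩ := Dcoh.DualFLF.exists_exactPairing hF
  let _ := Dcoh.MonPull.monPull f
  let _ := Dcoh.MonDual.mapExactPairing (Scheme.Modules.pullback f) F V
  exact ⟨(Scheme.Modules.pullback f).mapIso (dualIso F V) ≪≫ (dualIso _ _).symm⟩

theorem nonempty_tensor_pullback_dual (f : Y ⟶ X) {F : X.Modules} (hF : FlatMod.IsFinLocFree F)
    (L : Y.Modules) :
    Nonempty (CohB1.tensorMod ((Scheme.Modules.pullback f).obj (RefHull.dual F)) L ≅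
      RefHull.homSh ((Scheme.Modules.pullback f).obj F) L) := by
  obtain ⟨V, ⟨h⟩⟩ := Dcoh.DualFLF.exists_exactPairing hF
  let _ := Dcoh.MonPull.monPull f
  let _ := Dcoh.MonDual.mapExactPairing (Scheme.Modules.pullback f) F V
  exact ⟨tensMap ((Scheme.Modules.pullback f).mapIso (dualIso F V)) (Iso.refl L) ≪≫
    (homShIso _ _ L).symm⟩

end K921.PullDual
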