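import Groth.Agent.Dix.Cast2
import Groth.Agent.Dix.IdealModCartier
import Groth.Agent.Picfga.PtEval
import Groth.Agent.CurvesB.TwistIdeal
import Groth.Agent.JacVar.K533.PtTwist
import Groth.Agent.Models.H58.P1Model
import Groth.Agent.S1697
import Groth.Agent.S0023
import Groth.Agent.CurvesA.DimOne
import Groth.Agent.CohqA.ProjDim

/-!
# Rational points of the projective line over a field

* `isIntegral`, `noetherianSpace`, `isClosed_of_ne`: `P^1_k` is integral, Noetherian of dimension one;
* `nonempty_idealMod_iso`: the ideal module of a rational point is isomorphic to `O(-1)`.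
-/

set_option autoImplicit false
universe u

open CategoryTheory CategoryTheory.Limits AlgebraicGeometry TopologicalSpace Opposite

namespace K921.P1Ideal

open Groth.Agent

variable (k : Type u) [Field k]

/-- `P^1_k`. -/
noncomputable abbrev P1 : Scheme.{u} := CohB1.ProjSpace 1 k

/-- `P^1_k ⟶ Spec k`. -/
noncomputable abbrev pP : P1 k ⟶ Spec (CommRingCat.of k) := CohB1.ProjSpace.toSpec 1 k

instance isIntegral : IsIntegral (P1 k) := inferInstance

instance isNoetherian : IsNoetherian (P1 k) := CohqA.ProjDim.isNoetherian k 1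

theorem noetherianSpace : NoetherianSpace (P1 k) := inferInstance

theorem isClosed_of_ne (x : P1 k) (hx : x ≠ genericPoint (P1 k)) : IsClosed ({x} : Set (P1 k)) := by
  let Z : TopologicalSpace.IrreducibleCloseds (P1 k) :=
    ⟨closure {x}, isIrreducible_singleton.closure, isClosed_closure⟩
  let W : TopologicalSpace.IrreducibleCloseds (P1 k) :=
    ⟨closure {genericPoint (P1 k)}, isIrreducible_singleton.closure, isClosed_closure⟩
  have hle : Z ≤ W := by
    intro y _
    change y ∈ closure {genericPoint (P1 k)}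
    rw [genericPoint_closure]
    trivial
  have hlt : Z < W := by
    refine lt_of_le_of_ne hle fun h => hx ?_
    have h1 : closure {x} = closure {genericPoint (P1 k)} :=
      congrArg (fun T : TopologicalSpace.IrreducibleCloseds (P1 k) => (T : Set (P1 k))) h
    exact (inseparable_iff_closure_eq.2 h1).eq
  have h2 := CurvesA.DimOne.subsingleton_of_lt (Models.H58.P1Model.topologicalKrullDim_P1 k).le hlt
  have h3 : closure {x} = ({x} : Set (P1 k)) :=
    h2.eq_singleton_of_mem (subset_closure (Set.mem_singleton x))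
  rw [← h3]
  exact isClosed_closure

theorem subsingleton_H1 : Subsingleton (Coh.HH (P1 k) (Coh.structureModule (P1 k)) 1) :=
  S0023.result 1 k 1 one_pos

instance isProper_toSpec : IsProper (pP k) := inferInstance

theorem isInvertible_ker (s : Spec (CommRingCat.of k) ⟶ P1 k) (hs : s ≫ pP k = 𝟙 _) :
    PicF.IsInvertible (ClSub.idealMod s.ker) :=
  Dix.IdealModCartier.isInvertible_idealMod (Picfga.PtEval.isEff_ker (f := pP k) hs).1

/-- The ideal of a rational point is `O(-1)`. -/
theorem nonempty_idealMod_iso (s : Spec (CommRingCat.of k) ⟶ P1 k) (hs : s ≫ pP k = 𝟙 _) :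
    Nonempty (ClSub.idealMod s.ker ≅ Twist.twistProjSpace 1 k (-1)) := by
  have hI := isInvertible_ker k s hs
  obtain ⟨d, ⟨e⟩⟩ := S1697.result k 1 _ hI
  have hO : PicF.IsInvertible (Coh.structureModule (P1 k)) := Fdesc.LocGen.isInvertible_structureModule
  have hp : IsProper (P1 k ↘ (Spec (CommRingCat.of k))) := isProper_toSpec k
  have hO' : Coh.IsCoh (Coh.structureModule (P1 k)) := CurvesB.UnitCoh.isCoh_structureModule _
  have hc := K533.PtTwist.isCoh_aux hI
  have hT := Fga.TwistCoh.isCoh_tensor hc hO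
  have f1 : Module.Finite k (Coh.HH (P1 k) (Coh.structureModule (P1 k)) 0) := S0002.result k _ _ hO' 0
  have f2 := S0002.result k _ _ (Fga.TwistCoh.isCoh_tensor (VarietyB.DegCartier.isCoh_quotMod s.ker) hO) 0
  have f3 := S0002.result k _ _ hT 1
  have h := CurvesB.TwistIdeal.finrank_twist k hO s.ker (K533.PtTwist.dim_support s hs)
  rw [K533.PtTwist.finrank_point s hs] at h
  let e1 : CohB1.tensorMod (ClSub.idealMod s.ker) (Coh.structureModule (P1 k)) ≅ Twist.twistProjSpace 1 k d :=
    Ega2.Tens.runit _ ≪≫ e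
  rw [(VarietyA.EulerLES.equivA k e1 0).finrank_eq, (VarietyA.EulerLES.equivA k e1 1).finrank_eq] at h
  have h1 := Dix.Cast2.eulerCharLE_twist k d
  rw [Dix.Cast2.eulerCharLE_eq] at h1
  obtain ⟨e0⟩ := Ega2.TwistInv.nonempty_unit_iso (CohB1.polyGrading 1 k)
  have h2 := Dix.Cast2.eulerCharLE_twist k 0
  rw [Dix.Cast2.eulerCharLE_eq] at h2
  let e0' : Coh.structureModule (P1 k) ≅ Twist.twistProjSpace 1 k 0 := e0
  rw [(VarietyA.EulerLES.equivA k e0' 0).finrank_eq, (VarietyA.EulerLES.equivA k e0' 1).finrank_eq] at h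
  have h1' : (Module.finrank k (Coh.HH (P1 k) (Twist.twistProjSpace 1 k d) 0) : ℤ) -
      Module.finrank k (Coh.HH (P1 k) (Twist.twistProjSpace 1 k d) 1) = d + 1 := h1
  have h2' : (Module.finrank k (Coh.HH (P1 k) (Twist.twistProjSpace 1 k 0) 0) : ℤ) -
      Module.finrank k (Coh.HH (P1 k) (Twist.twistProjSpace 1 k 0) 1) = 0 + 1 := h2
  have hd : d = -1 := by omega
  rw [hd] at e
  exact ⟨e⟩

end K921.P1Ideal
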