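import Groth.Prelude.Def_MorSch
import Mathlib.AlgebraicGeometry.Morphisms.Immersion
import Mathlib.AlgebraicGeometry.Morphisms.Proper
import Mathlib.AlgebraicGeometry.Noetherian

/-!
# The morphism scheme into an open subscheme

Let `p : Y ⟶ S` be universally closed, `j : X ⟶ Xb` an open immersion and `q : Xb ⟶ S`.  If the pair
`(M, u)` is universal for the families of morphisms `Y ⟶ Xb` over the locally Noetherian test schemes, then an open
subscheme of `M` is universal for the families of morphisms `Y ⟶ X`.  Consequence (`exists_quasiProj`): over a field the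
morphism scheme of a quasi-projective scheme exists if it exists for the projective ones.
-/

set_option autoImplicit false
universe u

open CategoryTheory CategoryTheory.Limits AlgebraicGeometry

namespace K921.MorQuasi

/-- universality for the locally Noetherian test schemes -/
def IsUniv {Y X S : Scheme.{u}} (p : Y ⟶ S) (q : X ⟶ S) (M : Over S) (u : MorSch.Obj p q M) : Prop :=
  ∀ (T : Over S) [IsLocallyNoetherian T.left] (φ : MorSch.Obj p q T), ∃! g : T ⟶ M, MorSch.pull p q g u = φ

section Aux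

variable {Y S : Scheme.{u}} (p : Y ⟶ S) {T T' : Over S} (g : T' ⟶ T)

theorem XTmap_proj : PicF.XTmap p g ≫ pullback.snd p T.hom = pullback.snd p T'.hom ≫ g.left := by
  simp only [PicF.XTmap, pullback.map, pullback.lift_snd]

theorem isPullback_XTmap :
    IsPullback (PicF.XTmap p g) (pullback.snd p T'.hom) (pullback.snd p T.hom) g.left := by
  have h1 : IsPullback (pullback.fst p T'.hom) (pullback.snd p T'.hom) p T'.hom := IsPullback.of_hasPullback _ _
  have h2 : IsPullback (pullback.fst p T.hom) (pullback.snd p T.hom) p T.hom := IsPullback.of_hasPullback _ _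
  have h1' : IsPullback (pullback.fst p T'.hom) (pullback.snd p T'.hom) p (g.left ≫ T.hom) := by
    rw [Over.w g]
    exact h1
  refine IsPullback.of_right (h₁₂ := pullback.fst p T.hom) (v₁₃ := p) (h₂₂ := T.hom) ?_
    (XTmap_proj p g) h2.flip.flip |>.flip.flip
  rw [MorSch.XTmap_fst]
  exact h1'

end Aux

section Open

variable {Y X Xb S : Scheme.{u}} (p : Y ⟶ S) [UniversallyClosed p] (q : Xb ⟶ S) (j : X ⟶ Xb) [IsOpenImmersion j]
  (M : Over S) (u : MorSch.Obj p q M)

/-- the parameters `m` such that `u_m` has its image in `X` -/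
noncomputable def openLocus : M.left.Opens :=
  ⟨((pullback.snd p M.hom).base '' (u.1.base ⁻¹' (Set.range j.base)ᶜ))ᶜ, by
    have h1 : IsClosedMap (pullback.snd p M.hom).base := (pullback.snd p M.hom).isClosedMap
    refine (h1 _ ?_).isOpen_compl
    exact (j.isOpenEmbedding.isOpen_range.isClosed_compl).preimage u.1.continuous⟩

theorem mem_openLocus (m : M.left) : m ∈ openLocus p q j M u ↔
    ∀ z : PicF.XT p M, (pullback.snd p M.hom).base z = m → u.1.base z ∈ Set.range j.base := by
  change m ∈ (_ : Set M.left)ᶜ ↔ _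
  rw [Set.mem_compl_iff, Set.mem_image]
  constructor
  · intro h z hz
    by_contra hc
    exact h ⟨z, hc, hz⟩
  · rintro h ⟨z, hz, hz'⟩
    exact hz (h z hz')

/-- the open subscheme as a scheme over `S` -/
noncomputable def M₀ : Over S := Over.mk ((openLocus p q j M u).ι ≫ M.hom)

/-- its inclusion -/
noncomputable def incl : M₀ p q j M u ⟶ M := Over.homMk (openLocus p q j M u).ι rfl

theorem incl_left : (incl p q j M u).left = (openLocus p q j M u).ι := rfl

theorem range_subset :
    Set.range (PicF.XTmap p (incl p q j M u) ≫ u.1).base ⊆ Set.range j.base := by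
  rintro _ ⟨z, rfl⟩
  rw [Scheme.Hom.comp_apply]
  refine (mem_openLocus p q j M u ((incl p q j M u).left.base ((pullback.snd p (M₀ p q j M u).hom).base z))).1 ?_ _ ?_
  · exact ((pullback.snd p (M₀ p q j M u).hom).base z).2
  · rw [← Scheme.Hom.comp_apply, ← Scheme.Hom.comp_apply, XTmap_proj]

/-- the universal family of the open subscheme -/
noncomputable def u₀ : MorSch.Obj p (j ≫ q) (M₀ p q j M u) :=
  ⟨IsOpenImmersion.lift j (PicF.XTmap p (incl p q j M u) ≫ u.1) (range_subset p q j M u), by
    rw [← Category.assoc, IsOpenImmersion.lift_fac, Category.assoc, u.2, ← Category.assoc, MorSch.XTmap_fst]⟩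

theorem u₀_j : (u₀ p q j M u).1 ≫ j = PicF.XTmap p (incl p q j M u) ≫ u.1 := IsOpenImmersion.lift_fac _ _ _

theorem isUniv_open (hM : IsUniv p q M u) : IsUniv p (j ≫ q) (M₀ p q j M u) (u₀ p q j M u) := by
  intro T _ φ
  let φ' : MorSch.Obj p q T := ⟨φ.1 ≫ j, by rw [Category.assoc]; exact φ.2⟩
  obtain ⟨g, hg, hg'⟩ := hM T φ'
  have hg1 : PicF.XTmap p g ≫ u.1 = φ.1 ≫ j := congrArg Subtype.val hg
  have hr : Set.range g.left.base ⊆ Set.range (openLocus p q j M u).ι.base := by
    rintro _ ⟨t, rfl⟩
    rw [Scheme.Opens.range_ι]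
    refine (mem_openLocus p q j M u _).2 fun z hz => ?_
    obtain ⟨z', hz1, hz2⟩ := Scheme.Pullback.exists_preimage_pullback z t hz
    let e := (isPullback_XTmap p g).isoPullback
    have h1 : (PicF.XTmap p g).base (e.inv z') = z := by
      rw [← Scheme.Hom.comp_apply, IsPullback.isoPullback_inv_fst, hz1]
    rw [← h1, ← Scheme.Hom.comp_apply, hg1, Scheme.Hom.comp_apply]
    exact ⟨_, rfl⟩
  let g₀l : T.left ⟶ (openLocus p q j M u).toScheme := IsOpenImmersion.lift (openLocus p q j M u).ι g.left hr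
  have hg₀l : g₀l ≫ (openLocus p q j M u).ι = g.left := IsOpenImmersion.lift_fac _ _ _
  let g₀ : T ⟶ M₀ p q j M u := Over.homMk g₀l (by
    change g₀l ≫ (openLocus p q j M u).ι ≫ M.hom = T.hom
    rw [← Category.assoc, hg₀l, Over.w g])
  have hg₀ : g₀ ≫ incl p q j M u = g := by
    ext1
    exact hg₀l
  refine ⟨g₀, ?_, ?_⟩
  · apply MorSch.Obj.ext
    rw [← cancel_mono j, MorSch.pull_val, Category.assoc, u₀_j, ← Category.assoc, ← MorSch.XTmap_comp, hg₀, hg1]
  · intro g₁ h₁
    have h2 : PicF.XTmap p g₁ ≫ (u₀ p q j M u).1 = φ.1 := congrArg Subtype.val h₁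
    have h3 : g₁ ≫ incl p q j M u = g := by
      apply hg'
      apply MorSch.Obj.ext
      rw [MorSch.pull_val, MorSch.XTmap_comp, Category.assoc, ← u₀_j, ← Category.assoc, h2]
    have h4 : g₁.left ≫ (openLocus p q j M u).ι = g₀.left ≫ (openLocus p q j M u).ι := by
      rw [← incl_left, ← Over.comp_left, ← Over.comp_left, h3, hg₀]
    ext1
    exact (cancel_mono (openLocus p q j M u).ι).1 h4

end Open

section Field

variable (k : Type u) [Field k]

/-- the morphism scheme exists for all closed subschemes of `P^N_k` (locally Noetherian test schemes) -/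
def Proj : Prop :=
  ∀ (X : Scheme.{u}) (pX : X ⟶ Spec (CommRingCat.of k)) (N : ℕ) (ι : X ⟶ CohB1.ProjSpace N k),
    IsClosedImmersion ι → ι ≫ CohB1.ProjSpace.toSpec N k = pX →
    ∃ (M : Over (Spec (CommRingCat.of k))) (u : MorSch.Obj (CohB1.ProjSpace.toSpec 1 k) pX M),
      LocallyOfFiniteType M.hom ∧ IsUniv (CohB1.ProjSpace.toSpec 1 k) pX M u

variable {k}

/-- the morphism scheme of a quasi-projective scheme -/
theorem exists_quasiProj (h : Proj k) [UniversallyClosed (CohB1.ProjSpace.toSpec 1 k)]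
    {X : Scheme.{u}} (pX : X ⟶ Spec (CommRingCat.of k)) {N : ℕ}
    [IsLocallyNoetherian (CohB1.ProjSpace N k)]
    (ι : X ⟶ CohB1.ProjSpace N k) [IsImmersion ι] (hι : ι ≫ CohB1.ProjSpace.toSpec N k = pX) :
    ∃ (M : Over (Spec (CommRingCat.of k))) (u : MorSch.Obj (CohB1.ProjSpace.toSpec 1 k) pX M),
      LocallyOfFiniteType M.hom ∧ IsUniv (CohB1.ProjSpace.toSpec 1 k) pX M u := by
  have hqc : QuasiCompact ι := by
    rw [← ι.liftCoborder_ι]
    infer_instance
  obtain ⟨M, u, h1, h2⟩ := h ι.image (ι.imageι ≫ CohB1.ProjSpace.toSpec N k) N ι.imageι inferInstance rfl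
  have h3 : ι.toImage ≫ (ι.imageι ≫ CohB1.ProjSpace.toSpec N k) = pX := by
    rw [← Category.assoc, Scheme.Hom.toImage_imageι, hι]
  subst h3
  refine ⟨_, u₀ (CohB1.ProjSpace.toSpec 1 k) _ ι.toImage M u, ?_, isUniv_open _ _ _ M u h2⟩
  change LocallyOfFiniteType ((openLocus _ _ _ M u).ι ≫ M.hom)
  infer_instance

end Field

end K921.MorQuasi
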