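import Groth.Agent.MorSch.K921.AffMor
import Mathlib.AlgebraicGeometry.Morphisms.Smooth
import Mathlib.RingTheory.Smooth.Basic

/-!
# Infinitesimal lifting for smooth morphisms

* `exists_lift_ring`: a ring homomorphism which is formally smooth lifts along surjections with nilpotent kernel;
* `exists_lift_aff`: `g : Y ⟶ X` smooth, `i : T₀ ⟶ T` with `Γ(T) ⟶ Γ(T₀)` surjective with nilpotent kernel, `y : T₀ ⟶ Y` with
  values in an affine open `W`, `v : T ⟶ X` with values in an affine open `V`;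
* `exists_lift_local`: the case of spectra of local rings, `g` smooth on an open neighbourhood of the point only.
-/

set_option autoImplicit false
universe u

open CategoryTheory CategoryTheory.Limits AlgebraicGeometry TopologicalSpace Opposite

namespace K921.SmLift

open K921.AffMor

theorem exists_lift_ring {R S A B : Type u} [CommRing R] [CommRing S] [CommRing A] [CommRing B]
    (g : R →+* S) (hg : g.FormallySmooth) (q : A →+* B) (hq : Function.Surjective q)
    (hn : IsNilpotent (RingHom.ker q)) (α : R →+* A) (β : S →+* B) (h : q.comp α = β.comp g) :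
    ∃ γ : S →+* A, γ.comp g = α ∧ q.comp γ = β := by
  algebraize [g, α, q.comp α]
  let q' : A →ₐ[R] B := { q with commutes' := fun r => rfl }
  let β' : S →ₐ[R] B := { β with commutes' := fun r => congr($h r).symm }
  have hn' : IsNilpotent (RingHom.ker (q' : A →+* B)) := hn
  let γ := Algebra.FormallySmooth.liftOfSurjective β' q' hq hn'
  refine ⟨γ.toRingHom, ?_, ?_⟩
  · ext r
    exact γ.commutes r
  · ext s
    exact Algebra.FormallySmooth.liftOfSurjective_apply β' q' hq hn' s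

theorem exists_lift_aff {Y X T₀ T : Scheme.{u}} (g : Y ⟶ X) [Smooth g] {V : X.Opens} {W : Y.Opens}
    (hV : IsAffineOpen V) (hW : IsAffineOpen W) (hWV : W ≤ g ⁻¹ᵁ V) (i : T₀ ⟶ T)
    (hi : Function.Surjective i.appTop) (hn : IsNilpotent (RingHom.ker i.appTop.hom))
    (y : T₀ ⟶ Y) (hy : ⊤ ≤ y ⁻¹ᵁ W) (v : T ⟶ X) (hv : ⊤ ≤ v ⁻¹ᵁ V) (h : i ≫ v = y ≫ g) :
    ∃ w : T ⟶ Y, ⊤ ≤ w ⁻¹ᵁ W ∧ w ≫ g = v ∧ i ≫ w = y := by
  have e1 : ⊤ ≤ (i ≫ v) ⁻¹ᵁ V := fun x _ => hv (show i x ∈ (⊤ : T.Opens) from trivial)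
  have h1 : v.appLE V ⊤ hv ≫ i.appTop = (i ≫ v).appLE V ⊤ e1 := by
    rw [Scheme.Hom.appTop, Scheme.Hom.app_eq_appLE]
    exact Scheme.Hom.appLE_comp_appLE i v V ⊤ ⊤ hv le_rfl
  have h2 : g.appLE V W hWV ≫ y.appLE W ⊤ hy = (y ≫ g).appLE V ⊤ (hy.trans (y.preimage_mono hWV)) :=
    Scheme.Hom.appLE_comp_appLE y g V W ⊤ hWV hy
  have h3 : v.appLE V ⊤ hv ≫ i.appTop = g.appLE V W hWV ≫ y.appLE W ⊤ hy := by
    rw [h1, h2]
    congr 1
  obtain ⟨γ, hγ1, hγ2⟩ := exists_lift_ring (g.appLE V W hWV).hom (g.smooth_appLE hV hW hWV).formallySmooth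
    i.appTop.hom hi hn (v.appLE V ⊤ hv).hom (y.appLE W ⊤ hy).hom (by
      ext s
      exact congr($h3 s))
  let γ' : Γ(Y, W) ⟶ Γ(T, ⊤) := CommRingCat.ofHom γ
  have hw := le_toAff hW γ'
  refine ⟨toAff hW γ', hw, ?_, ?_⟩
  · refine hom_ext_of_appLE hV (hw.trans ((toAff hW γ').preimage_mono hWV)) hv fun s => ?_
    have h4 := Scheme.Hom.appLE_comp_appLE (toAff hW γ') g V W ⊤ hWV hw
    rw [toAff_appLE] at h4
    rw [← h4]
    exact congr($hγ1 s)
  · have e2 : ⊤ ≤ (i ≫ toAff hW γ') ⁻¹ᵁ W := fun x _ => hw (show i x ∈ (⊤ : T.Opens) from trivial)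
    refine hom_ext_of_appLE hW e2 hy fun s => ?_
    have h4 : (toAff hW γ').appLE W ⊤ hw ≫ i.appTop = (i ≫ toAff hW γ').appLE W ⊤ e2 := by
      rw [Scheme.Hom.appTop, Scheme.Hom.app_eq_appLE]
      exact Scheme.Hom.appLE_comp_appLE i (toAff hW γ') W ⊤ ⊤ hw le_rfl
    rw [toAff_appLE] at h4
    rw [← h4]
    exact congr($hγ2 s)

theorem top_le_of_closedPoint {A : Type u} [CommRing A] [IsLocalRing A] {Y : Scheme.{u}}
    (v : Spec (CommRingCat.of A) ⟶ Y) {W : Y.Opens} (h : v (IsLocalRing.closedPoint A) ∈ W) : ⊤ ≤ v ⁻¹ᵁ W := by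
  intro x _
  have h1 : x ⤳ IsLocalRing.closedPoint A := IsLocalRing.specializes_closedPoint (R := A) x
  exact h1.mem_open (v ⁻¹ᵁ W).isOpen h

theorem exists_lift_local {Y X : Scheme.{u}} (g : Y ⟶ X) (U : Y.Opens) [Smooth (U.ι ≫ g)]
    {A B : Type u} [CommRing A] [CommRing B] [IsLocalRing A] [IsLocalRing B] (q : A →+* B)
    (hq : Function.Surjective q) (hn : IsNilpotent (RingHom.ker q))
    (y : Spec (CommRingCat.of B) ⟶ Y) (hy : y (IsLocalRing.closedPoint B) ∈ U) (v : Spec (CommRingCat.of A) ⟶ X)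
    (h : Spec.map (CommRingCat.ofHom q) ≫ v = y ≫ g) :
    ∃ w : Spec (CommRingCat.of A) ⟶ Y, w ≫ g = v ∧ Spec.map (CommRingCat.ofHom q) ≫ w = y := by
  have hyU : Set.range y ⊆ Set.range U.ι := by
    rw [Scheme.Opens.range_ι]
    rintro _ ⟨x, rfl⟩
    exact top_le_of_closedPoint y hy (show x ∈ (⊤ : (Spec (CommRingCat.of B)).Opens) from trivial)
  let y' := IsOpenImmersion.lift U.ι y hyU
  have hy' : y' ≫ U.ι = y := IsOpenImmersion.lift_fac _ _ _
  let x₀ := IsLocalRing.closedPoint B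
  obtain ⟨V, hV, hxV, -⟩ := exists_isAffineOpen_mem_and_subset (U := ⊤) (x := (y' ≫ U.ι ≫ g) x₀) trivial
  obtain ⟨W, hW, hxW, hWV⟩ := exists_isAffineOpen_mem_and_subset (U := (U.ι ≫ g) ⁻¹ᵁ V) (x := y' x₀) (by
    rw [Scheme.Hom.comp_apply] at hxV
    exact hxV)
  have hWV' : W ≤ (U.ι ≫ g) ⁻¹ᵁ V := hWV
  have hmax : ((IsLocalRing.maximalIdeal B).comap q).IsMaximal := Ideal.comap_isMaximal_of_surjective q hq
  have hcl : Spec.map (CommRingCat.ofHom q) x₀ = IsLocalRing.closedPoint A :=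
    PrimeSpectrum.ext (IsLocalRing.eq_maximalIdeal hmax)
  have hxv : v (IsLocalRing.closedPoint A) ∈ V := by
    rw [← hcl, ← Scheme.Hom.comp_apply, h, ← hy', Category.assoc]
    exact hxV
  have hnat : (Spec.map (CommRingCat.ofHom q)).appTop ≫ (Scheme.ΓSpecIso (CommRingCat.of B)).hom =
      (Scheme.ΓSpecIso (CommRingCat.of A)).hom ≫ CommRingCat.ofHom q :=
    Scheme.ΓSpecIso_naturality _
  have hbij : Function.Injective (Scheme.ΓSpecIso (CommRingCat.of B)).hom :=
    (Scheme.ΓSpecIso (CommRingCat.of B)).commRingCatIsoToRingEquiv.injective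
  have hbijA := (Scheme.ΓSpecIso (CommRingCat.of A)).commRingCatIsoToRingEquiv.bijective
  have hsurj : Function.Surjective (Spec.map (CommRingCat.ofHom q)).appTop := by
    intro b
    obtain ⟨a, ha⟩ := hq ((Scheme.ΓSpecIso (CommRingCat.of B)).hom b)
    obtain ⟨a', ha'⟩ := hbijA.2 a
    refine ⟨a', hbij ?_⟩
    refine (congr($hnat a')).trans ?_
    change q ((Scheme.ΓSpecIso (CommRingCat.of A)).hom a') = _
    rw [← ha]
    exact congrArg q ha'
  have hnil : IsNilpotent (RingHom.ker (Spec.map (CommRingCat.ofHom q)).appTop.hom) := by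
    have h1 : RingHom.ker (Spec.map (CommRingCat.ofHom q)).appTop.hom =
        (RingHom.ker q).comap (Scheme.ΓSpecIso (CommRingCat.of A)).commRingCatIsoToRingEquiv.toRingHom := by
      ext a
      rw [RingHom.mem_ker, Ideal.mem_comap, RingHom.mem_ker]
      have h2 : (Scheme.ΓSpecIso (CommRingCat.of B)).hom ((Spec.map (CommRingCat.ofHom q)).appTop a) =
        q ((Scheme.ΓSpecIso (CommRingCat.of A)).hom a) := congr($hnat a)
      constructor
      · intro h3
        refine h2.symm.trans ?_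
        have h4 : (Spec.map (CommRingCat.ofHom q)).appTop a = 0 := h3
        rw [h4, map_zero]
      · intro h3
        refine hbij ?_
        refine h2.trans (Eq.trans h3 (map_zero _).symm)
    obtain ⟨n, hn⟩ := hn
    refine ⟨n, ?_⟩
    rw [h1]
    rw [Ideal.zero_eq_bot, ← le_bot_iff]
    refine (Ideal.le_comap_pow _ n).trans ?_
    rw [hn]
    intro a ha
    exact hbijA.1 (Eq.trans ha (map_zero _).symm)
  obtain ⟨w, -, hw1, hw2⟩ := exists_lift_aff (U.ι ≫ g) hV hW hWV' (Spec.map (CommRingCat.ofHom q)) hsurj hnil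
    y' (top_le_of_closedPoint y' hxW) v (top_le_of_closedPoint v hxv) (by
      rw [h, ← hy', Category.assoc])
  exact ⟨w ≫ U.ι, by rw [Category.assoc, hw1], by rw [← Category.assoc, hw2, hy']⟩

end K921.SmLift
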