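import Mathlib.RingTheory.Ideal.Cotangent
import Mathlib.RingTheory.LocalRing.RingHom.Basic
import Mathlib.LinearAlgebra.Basis.VectorSpace

/-!
# Extension of point derivations along a local homomorphism which is injective on cotangent spaces
-/

set_option autoImplicit false

namespace K921.CotExt

open IsLocalRing

theorem exists_extend {A B k : Type*} [CommRing A] [CommRing B] [IsLocalRing A] [IsLocalRing B] [Field k]
    (φ : A →+* B) (hφ : maximalIdeal A ≤ (maximalIdeal B).comap φ.toIntAlgHom)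
    (κ : k →+* A) (σ : B →+* k) (hσ : ∀ b, σ b = 0 ↔ b ∈ maximalIdeal B) (hκ : ∀ c, σ (φ (κ c)) = c)
    (hinj : Function.Injective (Ideal.mapCotangent _ _ φ.toIntAlgHom hφ)) (δ : A →+ k)
    (hδ : ∀ a b, δ (a * b) = σ (φ a) * δ b + σ (φ b) * δ a) (hδ0 : ∀ c, δ (κ c) = 0) :
    ∃ δ' : B →+ k, (∀ a b, δ' (a * b) = σ a * δ' b + σ b * δ' a) ∧ ∀ a, δ' (φ a) = δ a := by
  let m1 : Module k (maximalIdeal A).Cotangent := Module.compHom _ κ
  let m2 : Module k (maximalIdeal B).Cotangent := Module.compHom _ (φ.comp κ)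
  let m3 : Module A k := Module.compHom k (σ.comp φ)
  have hs1 : ∀ (c : k) (x : (maximalIdeal A).Cotangent), c • x = κ c • x := fun _ _ => rfl
  have hs2 : ∀ (c : k) (x : (maximalIdeal B).Cotangent), c • x = φ (κ c) • x := fun _ _ => rfl
  have hs3 : ∀ (a : A) (x : k), a • x = σ (φ a) * x := fun _ _ => rfl
  -- the functional on the cotangent space of `A`
  let δm : maximalIdeal A →ₗ[A] k :=
    { toFun := fun m => δ m
      map_add' := fun m m' => map_add δ _ _
      map_smul' := fun a m => by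
        change δ (a * m) = _
        have h1 : σ (φ m) = 0 := (hσ _).2 (hφ m.2)
        rw [hδ, h1, zero_mul, add_zero, RingHom.id_apply, hs3] }
  let ℓA : (maximalIdeal A).Cotangent →ₗ[A] k := Submodule.liftQ _ δm (by
    rw [Submodule.smul_le]
    intro a ha m _
    rw [LinearMap.mem_ker, map_smul, hs3]
    have h1 : σ (φ a) = 0 := (hσ _).2 (hφ ha)
    rw [h1, zero_mul])
  have hℓA : ∀ m : maximalIdeal A, ℓA ((maximalIdeal A).toCotangent m) = δ m := fun m => rfl
  let ℓ : (maximalIdeal A).Cotangent →ₗ[k] k :=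
    { toFun := ℓA
      map_add' := map_add ℓA
      map_smul' := fun c x => by
        rw [hs1, map_smul, hs3, hκ]
        rfl }
  let c : (maximalIdeal A).Cotangent →ₗ[k] (maximalIdeal B).Cotangent :=
    { toFun := Ideal.mapCotangent _ _ φ.toIntAlgHom hφ
      map_add' := map_add _
      map_smul' := fun r x => by
        obtain ⟨x, rfl⟩ := Ideal.toCotangent_surjective _ x
        rw [hs1, RingHom.id_apply, hs2, ← map_smul, Ideal.mapCotangent_toCotangent,
          Ideal.mapCotangent_toCotangent, ← map_smul]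
        congr 1
        ext
        exact map_mul φ _ _ }
  obtain ⟨r, hr⟩ := c.exists_leftInverse_of_injective (LinearMap.ker_eq_bot.2 hinj)
  have hmem : ∀ b : B, b - φ (κ (σ b)) ∈ maximalIdeal B := by
    intro b
    rw [← hσ, map_sub, hκ, sub_self]
  let ρ : B → (maximalIdeal B).Cotangent := fun b => (maximalIdeal B).toCotangent ⟨b - φ (κ (σ b)), hmem b⟩
  have hρadd : ∀ a b, ρ (a + b) = ρ a + ρ b := by
    intro a b
    change (maximalIdeal B).toCotangent _ = (maximalIdeal B).toCotangent _ + (maximalIdeal B).toCotangent _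
    rw [← map_add]
    congr 1
    ext
    change a + b - φ (κ (σ (a + b))) = (a - φ (κ (σ a))) + (b - φ (κ (σ b)))
    rw [map_add, map_add, map_add]
    ring
  have hρmul : ∀ a b, ρ (a * b) = σ a • ρ b + σ b • ρ a := by
    intro a b
    have h1 : (⟨a * b - φ (κ (σ (a * b))), hmem (a * b)⟩ : maximalIdeal B) =
        (a - φ (κ (σ a))) • ⟨b - φ (κ (σ b)), hmem b⟩ + (φ (κ (σ a)) • ⟨b - φ (κ (σ b)), hmem b⟩ +
          φ (κ (σ b)) • ⟨a - φ (κ (σ a)), hmem a⟩) := by
      ext
      change a * b - φ (κ (σ (a * b))) = (a - φ (κ (σ a))) * (b - φ (κ (σ b))) +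
        (φ (κ (σ a)) * (b - φ (κ (σ b))) + φ (κ (σ b)) * (a - φ (κ (σ a))))
      rw [map_mul, map_mul, map_mul]
      ring
    change (maximalIdeal B).toCotangent _ = _
    rw [h1, map_add, map_smul, Ideal.Cotangent.smul_eq_zero_of_mem (hmem a), zero_add, map_add, map_smul,
      map_smul]
    rfl
  refine ⟨AddMonoidHom.mk' (fun b => ℓ (r (ρ b))) fun a b => by rw [hρadd, map_add, map_add], fun a b => ?_,
    fun a => ?_⟩
  · change ℓ (r (ρ (a * b))) = σ a * ℓ (r (ρ b)) + σ b * ℓ (r (ρ a))
    rw [hρmul, map_add, map_add, map_smul, map_smul, map_smul, map_smul]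
    rfl
  · change ℓ (r (ρ (φ a))) = δ a
    have hm : a - κ (σ (φ a)) ∈ maximalIdeal A := by
      by_contra h
      have h1 : IsUnit (a - κ (σ (φ a))) := by
        by_contra h2
        exact h ((mem_maximalIdeal _).2 h2)
      have h2 := h1.map (σ.comp φ)
      rw [RingHom.comp_apply, map_sub, map_sub, hκ, sub_self] at h2
      exact not_isUnit_zero h2
    have h1 : ρ (φ a) = c ((maximalIdeal A).toCotangent ⟨a - κ (σ (φ a)), hm⟩) := by
      change _ = Ideal.mapCotangent _ _ φ.toIntAlgHom hφ _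
      rw [Ideal.mapCotangent_toCotangent]
      change (maximalIdeal B).toCotangent _ = _
      congr 1
      ext
      exact (map_sub φ _ _).symm
    rw [h1]
    have h2 : r (c ((maximalIdeal A).toCotangent ⟨a - κ (σ (φ a)), hm⟩)) =
        (maximalIdeal A).toCotangent ⟨a - κ (σ (φ a)), hm⟩ := LinearMap.congr_fun hr _
    rw [h2]
    change δ (a - κ (σ (φ a))) = δ a
    rw [map_sub, hδ0, sub_zero]

end K921.CotExt
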