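import Groth.Agent.MorSch.K921.TanVec
import Groth.Agent.MorSch.K921.CotExt
import Groth.Prelude.Def_FixPt

/-!
# Lifting tangent vectors along a morphism which is injective on cotangent spaces

`e : Z ⟶ X`, `ζ : Spec k ⟶ Z` a rational point; if `m_x/m_x² ⟶ m_z/m_z²` is injective then every tangent vector
`v : Spec k[ε] ⟶ X` at `ζ ≫ e` is `w ≫ e` for a tangent vector `w` at `ζ`.
-/

set_option autoImplicit false
universe u

open CategoryTheory CategoryTheory.Limits AlgebraicGeometry TopologicalSpace Opposite OmegaSh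

namespace K921.TanExt

open Groth.Agent Groth.Agent.Fdesc.LocGen K921.EpsDer K921.DefDer K921.PtIdeal K921.FreeGen K921.AffMor
open K921.TanVec IsLocalRing

variable {k : Type u} [Field k] {X Z : Scheme.{u}}

theorem top_le_of_mem {Y : Scheme.{u}} (t : Spec (CommRingCat.of k) ⟶ Y) {W : Y.Opens}
    (h : t (closedPoint k) ∈ W) : ⊤ ≤ t ⁻¹ᵁ W := by
  intro x _
  have : x = closedPoint k := Subsingleton.elim (α := PrimeSpectrum k) _ _
  rw [this]
  exact h

theorem top_le_of_pt {Y : Scheme.{u}} (τ : T k ⟶ Y) {W : Y.Opens}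
    (h : (pt k ≫ τ) (closedPoint k) ∈ W) : ⊤ ≤ τ ⁻¹ᵁ W := by
  intro x _
  obtain ⟨y, rfl⟩ := (pt k).surjective x
  exact top_le_of_mem (pt k ≫ τ) h (show y ∈ (⊤ : (Spec (CommRingCat.of k)).Opens) from trivial)

theorem mem_basicOpen_iff {Y : Scheme.{u}} (t : Spec (CommRingCat.of k) ⟶ Y) {W : Y.Opens}
    (e : ⊤ ≤ t ⁻¹ᵁ W) (a : Γ(Y, W)) : t (closedPoint k) ∈ Y.basicOpen a ↔ evPt t e a ≠ 0 := by
  have h2 := Scheme.basicOpen_appLE t ⊤ W e a
  rw [top_inf_eq] at h2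
  have h4 : t (closedPoint k) ∈ Y.basicOpen a ↔
      closedPoint k ∈ (Spec (CommRingCat.of k)).basicOpen (t.appLE W ⊤ e a) := by
    rw [h2]
    rfl
  rw [h4]
  have h5 : t.appLE W ⊤ e a = (Scheme.ΓSpecIso (CommRingCat.of k)).inv (evPt t e a) :=
    congr($((Scheme.ΓSpecIso (CommRingCat.of k)).hom_inv_id) (t.appLE W ⊤ e a)).symm
  constructor
  · intro h h0
    rw [h5, h0, map_zero, Scheme.basicOpen_zero] at h
    exact h
  · intro h
    have h6 : IsUnit (evPt t e a) := isUnit_iff_ne_zero.2 h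
    have h7 : IsUnit (t.appLE W ⊤ e a) := by
      rw [h5]
      exact h6.map (Scheme.ΓSpecIso (CommRingCat.of k)).inv.hom
    rw [Scheme.basicOpen_of_isUnit _ h7]
    trivial

/-- Evaluation on the stalk at a rational point. -/
noncomputable def evStalk (ζ : Spec (CommRingCat.of k) ⟶ Z) :
    Z.presheaf.stalk (ζ (closedPoint k)) →+* k := (Scheme.stalkClosedPointTo ζ).hom

theorem evStalk_germ (ζ : Spec (CommRingCat.of k) ⟶ Z) {U : Z.Opens} (hU : ζ (closedPoint k) ∈ U)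
    (e : ⊤ ≤ ζ ⁻¹ᵁ U) (a : Γ(Z, U)) : evStalk ζ (Z.presheaf.germ U _ hU a) = evPt ζ e a := by
  have h1 := Scheme.germ_stalkClosedPointTo ζ U hU
  exact congr($h1 a)

theorem evStalk_eq_zero_iff (ζ : Spec (CommRingCat.of k) ⟶ Z) (b : Z.presheaf.stalk (ζ (closedPoint k))) :
    evStalk ζ b = 0 ↔ b ∈ maximalIdeal (Z.presheaf.stalk (ζ (closedPoint k))) := by
  have hl : IsLocalHom (evStalk ζ) := Scheme.isLocalHom_stalkClosedPointTo' ζ
  rw [mem_maximalIdeal, mem_nonunits_iff]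
  constructor
  · intro h hu
    have := hu.map (evStalk ζ)
    rw [h] at this
    exact not_isUnit_zero this
  · intro h
    by_contra h0
    exact h (IsLocalHom.map_nonunit b (isUnit_iff_ne_zero.2 h0))

theorem stalkMapAt_germ (e : Z ⟶ X) (z : Z) {V : X.Opens} {U : Z.Opens} (hUV : U ≤ e ⁻¹ᵁ V) (hz : z ∈ U)
    (hz' : e z ∈ V) (a : Γ(X, V)) :
    FixPt.stalkMapAt e z (e z) rfl (X.presheaf.germ V (e z) hz' a) =
      Z.presheaf.germ U z hz (e.appLE V U hUV a) := by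
  have h1 : X.presheaf.germ V (e z) hz' ≫ (X.presheaf.stalkCongr (Inseparable.of_eq rfl)).inv =
      X.presheaf.germ V (e z) hz' := TopCat.Presheaf.germ_stalkSpecializes _ _ (specializes_refl _)
  have h2 : FixPt.stalkMapAt e z (e z) rfl (X.presheaf.germ V (e z) hz' a) =
      e.stalkMap z ((X.presheaf.germ V (e z) hz' ≫ (X.presheaf.stalkCongr (Inseparable.of_eq rfl)).inv) a) := rfl
  rw [h2, h1, Scheme.Hom.germ_stalkMap_apply]
  rw [Scheme.Hom.appLE, ← TopCat.Presheaf.germ_res_apply _ (homOfLE hUV) z hz]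
  rfl

/-- Extension of the ring homomorphism of a tangent vector to the stalk. -/
theorem exists_stalk_dual {V : X.Opens} (hV : IsAffineOpen V) (v : T k ⟶ X) (ev : ⊤ ≤ v ⁻¹ᵁ V)
    (y : Spec (CommRingCat.of k) ⟶ X) (hy : pt k ≫ v = y) (x₀ : X) (hx₀ : y (closedPoint k) = x₀)
    (hyV : x₀ ∈ V) :
    ∃ L : X.presheaf.stalk x₀ →+* DualNumber k,
      ∀ a, L (X.presheaf.germ V _ hyV a) = toDual (v.appLE V ⊤ ev a) := by
  subst hx₀
  let x : V := ⟨y (closedPoint k), hyV⟩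
  let j := X.presheaf.algebra_section_stalk x
  have hl := hV.isLocalization_stalk x
  have ey := top_le_of_mem y hyV
  have hu : ∀ s : (hV.primeIdealOf x).asIdeal.primeCompl,
      IsUnit ((toDual (k := k)).comp (v.appLE V ⊤ ev).hom (s : Γ(X, V))) := by
    intro s
    rw [TrivSqZeroExt.isUnit_iff_isUnit_fst]
    change IsUnit (toDual (v.appLE V ⊤ ev (s : Γ(X, V)))).fst
    rw [fst_toDual_appLE v ev y hy ey, isUnit_iff_ne_zero, ← mem_basicOpen_iff]
    have h1 : IsUnit (algebraMap Γ(X, V) (X.presheaf.stalk x.1) (s : Γ(X, V))) :=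
      IsLocalization.map_units (X.presheaf.stalk x.1) s
    exact (X.mem_basicOpen (s : Γ(X, V)) x.1 x.2).2 h1
  refine ⟨IsLocalization.lift (M := (hV.primeIdealOf x).asIdeal.primeCompl) (S := X.presheaf.stalk x.1)
    (g := (toDual (k := k)).comp (v.appLE V ⊤ ev).hom) hu, fun a => ?_⟩
  exact IsLocalization.lift_eq hu a

/-- Lifting tangent vectors. -/
theorem exists_tan_ext (e : Z ⟶ X) {pX : X ⟶ Spec (CommRingCat.of k)} (ζ : Spec (CommRingCat.of k) ⟶ Z)
    (hζ : ζ ≫ e ≫ pX = 𝟙 _)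
    (hinj : Function.Injective (FixPt.cotangentMapAt e (ζ (closedPoint k)) (e (ζ (closedPoint k))) rfl))
    (v : T k ⟶ X) (hv : v ≫ pX = tT k) (hv' : pt k ≫ v = ζ ≫ e) :
    ∃ w : T k ⟶ Z, w ≫ e = v ∧ pt k ≫ w = ζ := by
  obtain ⟨V, hV, hxV, -⟩ := exists_isAffineOpen_mem_and_subset (U := ⊤) (x := e (ζ (closedPoint k))) trivial
  obtain ⟨U, hU, hzU, hUV⟩ := exists_isAffineOpen_mem_and_subset (U := e ⁻¹ᵁ V) (x := ζ (closedPoint k)) hxV
  have hUV' : U ≤ e ⁻¹ᵁ V := hUV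
  have eU := top_le_of_mem ζ hzU
  have eV : ⊤ ≤ (ζ ≫ e) ⁻¹ᵁ V := top_le_of_mem (ζ ≫ e) hxV
  have ev : ⊤ ≤ v ⁻¹ᵁ V := top_le_of_pt v (by rw [hv']; exact hxV)
  obtain ⟨L, hL⟩ := exists_stalk_dual hV v ev (ζ ≫ e) hv' (e (ζ (closedPoint k)))
    (Scheme.Hom.comp_apply _ _ _) hxV
  let φ := FixPt.stalkMapAt e (ζ (closedPoint k)) (e (ζ (closedPoint k))) rfl
  have hφ : ∀ a, φ (X.presheaf.germ V _ hxV a) = Z.presheaf.germ U _ hzU (e.appLE V U hUV' a) :=
    fun a => stalkMapAt_germ e _ hUV' hzU hxV a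
  let σ := evStalk ζ
  let κ : k →+* X.presheaf.stalk (e (ζ (closedPoint k))) := (X.presheaf.germ V _ hxV).hom.comp
    ((pX.appLE ⊤ V le_top).hom.comp (Scheme.ΓSpecIso (CommRingCat.of k)).inv.hom)
  have hfst : ∀ a, (L a).fst = σ (φ a) := by
    have key : (TrivSqZeroExt.fstHom k k k : DualNumber k →ₐ[k] k).toRingHom.comp L = σ.comp φ := by
      let x : V := ⟨e (ζ (closedPoint k)), hxV⟩
      let j := X.presheaf.algebra_section_stalk x
      have hl := hV.isLocalization_stalk x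
      refine IsLocalization.ringHom_ext (hV.primeIdealOf x).asIdeal.primeCompl ?_
      ext a
      change (L (X.presheaf.germ V _ hxV a)).fst = σ (φ (X.presheaf.germ V _ hxV a))
      rw [hL, hφ, evStalk_germ ζ hzU eU, evPt_comp ζ e hUV' eU eV]
      exact fst_toDual_appLE v ev (ζ ≫ e) hv' eV a
    exact fun a => congr($key a)
  have hκL : ∀ c, L (κ c) = algebraMap k (DualNumber k) c := by
    intro c
    change L (X.presheaf.germ V _ hxV (pX.appLE ⊤ V le_top ((Scheme.ΓSpecIso (CommRingCat.of k)).inv c))) = _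
    rw [hL]
    have h1 := appLE_comp v pX (V := ⊤) (W := V) (W' := ⊤) le_top ev le_top
      ((Scheme.ΓSpecIso (CommRingCat.of k)).inv c)
    rw [h1, congr_appLE hv le_top le_top]
    have h3 : (tT k).appLE ⊤ ⊤ le_top ((Scheme.ΓSpecIso (CommRingCat.of k)).inv c) =
        (tT k).appTop ((Scheme.ΓSpecIso (CommRingCat.of k)).inv c) :=
      congr($(((tT k).app_eq_appLE (U := ⊤)).symm) _)
    rw [h3]
    refine (tT_appTop _).trans ?_
    congr 1
    exact congr($((Scheme.ΓSpecIso (CommRingCat.of k)).inv_hom_id) c)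
  let δ : X.presheaf.stalk (e (ζ (closedPoint k))) →+ k := AddMonoidHom.mk' (fun a => (L a).snd)
    (fun a b => by rw [map_add, TrivSqZeroExt.snd_add])
  obtain ⟨δ', hδ', hδφ⟩ := K921.CotExt.exists_extend φ
    (FixPt.maximalIdeal_le_comap_stalkMapAt e (ζ (closedPoint k)) (e (ζ (closedPoint k))) rfl) κ σ
    (evStalk_eq_zero_iff ζ) (fun c => by rw [← hfst, hκL]; rfl) hinj δ (fun a b => by
      change (L (a * b)).snd = _ * (L b).snd + _ * (L a).snd
      rw [map_mul, TrivSqZeroExt.snd_mul, hfst, hfst, smul_eq_mul, MulOpposite.smul_eq_mul_unop,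
        MulOpposite.unop_op]
      ring) (fun c => by
      change (L (κ c)).snd = 0
      rw [hκL]
      rfl)
  let δU : Γ(Z, U) →+ k := δ'.comp (Z.presheaf.germ U _ hzU).hom.toAddMonoidHom
  have hδU : IsPtDer (e ≫ pX) (evPt ζ eU) δU := by
    refine ⟨fun a b => ?_, fun c => ?_⟩
    · change δ' (Z.presheaf.germ U _ hzU (a * b)) = _
      rw [map_mul, hδ', evStalk_germ ζ hzU eU, evStalk_germ ζ hzU eU]
      rfl
    · change δ' (Z.presheaf.germ U _ hzU ((e ≫ pX).appLE ⊤ U le_top c)) = 0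
      have h1 := appLE_comp e pX (V := ⊤) (W := V) (W' := U) le_top hUV' le_top c
      rw [← h1, ← hφ, hδφ]
      obtain ⟨c', rfl⟩ : ∃ c', (Scheme.ΓSpecIso (CommRingCat.of k)).inv c' = c :=
        ⟨(Scheme.ΓSpecIso (CommRingCat.of k)).hom c,
          congr($((Scheme.ΓSpecIso (CommRingCat.of k)).hom_inv_id) c)⟩
      change (L (κ c')).snd = 0
      rw [hκL]
      rfl
  obtain ⟨w, ew, hw1, hw2, hw3⟩ := exists_tan hU ζ hζ eU hδU
  refine ⟨w, ?_, hw2⟩
  have ewe : ⊤ ≤ (w ≫ e) ⁻¹ᵁ V := by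
    rw [Scheme.Hom.comp_preimage]
    exact ew.trans (w.preimage_mono hUV')
  refine hom_ext_of_appLE hV ewe ev fun a => toDual_injective ?_
  rw [← hL a]
  have h1 := appLE_comp w e (V := V) (W := U) (W' := ⊤) hUV' ew ewe a
  rw [← h1, hw3]
  have h2 : (L (X.presheaf.germ V _ hxV a)).fst = evPt ζ eU (e.appLE V U hUV' a) := by
    rw [hfst, hφ, evStalk_germ ζ hzU eU]
  have h3 : (L (X.presheaf.germ V _ hxV a)).snd = δU (e.appLE V U hUV' a) := by
    change δ (X.presheaf.germ V _ hxV a) = δ' (Z.presheaf.germ U _ hzU (e.appLE V U hUV' a))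
    rw [← hφ, hδφ]
  ext
  · rw [TrivSqZeroExt.fst_add, TrivSqZeroExt.fst_inl, TrivSqZeroExt.fst_inr, add_zero, h2]
  · rw [TrivSqZeroExt.snd_add, TrivSqZeroExt.snd_inl, TrivSqZeroExt.snd_inr, zero_add, h3]

end K921.TanExt
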