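import Groth.Agent.MorSch.K921.P1Ideal
import Groth.Agent.MorSch.K921.TanExt
import Mathlib.Algebra.MvPolynomial.Funext
import Mathlib.AlgebraicGeometry.Geometrically.Integral
import Groth.Agent.CohqB.ProjBC

/-!
# The projective line over a field: rational points, products

* `exists_point_mem`: over an infinite field every nonempty open of `P^1` contains a rational point;
* `isIntegral_prod`: `P^1 × M` is integral for `M` integral;
* `point_ext`: a rational point is determined by its image.
-/

set_option autoImplicit false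
universe u

open CategoryTheory CategoryTheory.Limits AlgebraicGeometry TopologicalSpace Opposite

namespace K921.P1Pts

open K921.P1Ideal Groth.Agent.Sga5.ProjChart Groth.Agent.Sga5.ProjSmooth K921.TanExt K921.AffMor K921.PtIdeal

variable {k : Type u} [Field k]

theorem exists_point_mem [Infinite k] (W : (P1 k).Opens) (hW : (W : Set (P1 k)).Nonempty) :
    ∃ t : Spec (CommRingCat.of k) ⟶ P1 k, t ≫ pP k = 𝟙 _ ∧ t (IsLocalRing.closedPoint k) ∈ W := by
  have h1 : ((chart 1 k 0).opensRange : Set (P1 k)).Nonempty := by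
    have : Nonempty (Spec (CommRingCat.of (MvPolynomial (Fin 1) k))) :=
      inferInstanceAs (Nonempty (PrimeSpectrum (MvPolynomial (Fin 1) k)))
    exact ⟨chart 1 k 0 (Classical.arbitrary _), Set.mem_range_self _⟩
  obtain ⟨x, hxW, ⟨y, rfl⟩⟩ := nonempty_preirreducible_inter W.isOpen (chart 1 k 0).opensRange.isOpen hW h1
  obtain ⟨_, ⟨_, ⟨f, rfl⟩, rfl⟩, hyf, hfW⟩ := PrimeSpectrum.isBasis_basic_opens.exists_subset_of_mem_open
    (show y ∈ ((chart 1 k 0) ⁻¹ᵁ W : Set _) from hxW) ((chart 1 k 0) ⁻¹ᵁ W).isOpen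
  have hf : f ≠ 0 := by
    rintro rfl
    exact hyf (Ideal.zero_mem _)
  obtain ⟨a, ha⟩ : ∃ a : Fin 1 → k, MvPolynomial.eval a f ≠ 0 := by
    by_contra! h
    exact hf (MvPolynomial.funext fun a => (h a).trans (map_zero _).symm)
  let q : CommRingCat.of (MvPolynomial (Fin 1) k) ⟶ CommRingCat.of k := CommRingCat.ofHom (MvPolynomial.eval a)
  refine ⟨Spec.map q ≫ chart 1 k 0, ?_, ?_⟩
  · rw [Category.assoc, chart_toSpec, ← Spec.map_comp]
    have h2 : CommRingCat.ofHom (MvPolynomial.C : k →+* MvPolynomial (Fin 1) k) ≫ q = 𝟙 _ := by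
      ext c
      exact MvPolynomial.eval_C c
    rw [h2]
    exact Spec.map_id _
  · rw [Scheme.Hom.comp_apply]
    refine hfW ?_
    change (MvPolynomial.eval a f) ∉ IsLocalRing.maximalIdeal k
    rw [IsLocalRing.mem_maximalIdeal, mem_nonunits_iff, not_not, isUnit_iff_ne_zero]
    exact ha

/-- A rational point is determined by its image. -/
theorem point_ext {X : Scheme.{u}} (pX : X ⟶ Spec (CommRingCat.of k)) (s t : Spec (CommRingCat.of k) ⟶ X)
    (hs : s ≫ pX = 𝟙 _) (ht : t ≫ pX = 𝟙 _)
    (h : s (IsLocalRing.closedPoint k) = t (IsLocalRing.closedPoint k)) : s = t := by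
  obtain ⟨V, hV, hxV, -⟩ := exists_isAffineOpen_mem_and_subset (U := ⊤)
    (x := s (IsLocalRing.closedPoint k)) trivial
  have es := top_le_of_mem s hxV
  have et : ⊤ ≤ t ⁻¹ᵁ V := top_le_of_mem t (by rw [← h]; exact hxV)
  refine hom_ext_of_appLE hV es et fun a => ?_
  have hinj : Function.Injective (Scheme.ΓSpecIso (CommRingCat.of k)).hom :=
    (ConcreteCategory.bijective_of_isIso _).1
  refine hinj ?_
  change evPt s es a = evPt t et a
  let c := pX.appLE ⊤ V le_top ((Scheme.ΓSpecIso (CommRingCat.of k)).inv (evPt s es a))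
  have hcs : evPt s es c = evPt s es a := by
    rw [evPt_base s pX hs es]
    exact congr($((Scheme.ΓSpecIso (CommRingCat.of k)).inv_hom_id) _)
  have hct : evPt t et c = evPt s es a := by
    rw [evPt_base t pX ht et]
    exact congr($((Scheme.ΓSpecIso (CommRingCat.of k)).inv_hom_id) _)
  have h1 : evPt t et (a - c) = 0 := by
    by_contra h2
    rw [← ne_eq, ← mem_basicOpen_iff t et (a - c), ← h, mem_basicOpen_iff s es, map_sub, hcs] at h2
    exact h2 (sub_self _)
  rw [map_sub, hct, sub_eq_zero] at h1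
  exact h1.symm

instance geometricallyIntegral (n : ℕ) : GeometricallyIntegral (CohB1.ProjSpace.toSpec n k) := by
  refine ⟨?_⟩
  intro κ _ g Z a b hZ
  obtain ⟨φ, rfl⟩ := Spec.map_surjective g
  have h := Groth.Agent.CohqB.ProjBC.isPullback_pmap φ.hom n
  have h1 : IsIntegral (CohB1.ProjSpace n κ) := inferInstance
  have h2 : Nonempty Z := ⟨(h.isoIsPullback _ _ hZ).hom (Classical.arbitrary _)⟩
  exact isIntegral_of_isOpenImmersion (hZ.isoIsPullback _ _ h).hom

instance smooth_pP : Smooth (pP k) := SmoothOfRelativeDimension.smooth 1 _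

theorem isIntegral_prod {M : Scheme.{u}} (q : M ⟶ Spec (CommRingCat.of k)) [LocallyOfFiniteType q]
    [IsIntegral M] : IsIntegral (pullback (pP k) q) := by
  have : IsLocallyNoetherian M := LocallyOfFiniteType.isLocallyNoetherian q
  infer_instance

end K921.P1Pts
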