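import Mathlib.AlgebraicGeometry.AffineScheme

/-!
# Morphisms into an affine open given by ring homomorphisms

`hV : IsAffineOpen V`, `V ⊆ X`:
* `toAff hV ρ : T ⟶ X` for `ρ : Γ(X, V) ⟶ Γ(T, ⊤)`; `le_toAff`, `toAff_appLE`;
* `hom_ext_of_appLE`, `toAff_eq`.
-/

set_option autoImplicit false
universe u

open CategoryTheory CategoryTheory.Limits AlgebraicGeometry TopologicalSpace Opposite

namespace K921.AffMor

variable {T X : Scheme.{u}} {V : X.Opens} (hV : IsAffineOpen V)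

/-- The morphism into an affine open given by a ring homomorphism. -/
noncomputable def toAff (ρ : Γ(X, V) ⟶ Γ(T, ⊤)) : T ⟶ X := T.toSpecΓ ≫ Spec.map ρ ≫ hV.fromSpec

theorem toAff_eq (p : T ⟶ X) (hp : ⊤ ≤ p ⁻¹ᵁ V) : toAff hV (p.appLE V ⊤ hp) = p := by
  have hr : Set.range p ⊆ Set.range V.ι := by
    rw [Scheme.Opens.range_ι]
    rintro _ ⟨w, rfl⟩
    exact hp (show w ∈ (⊤ : T.Opens) from trivial)
  let q := IsOpenImmersion.lift V.ι p hr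
  have hq : q ≫ V.ι = p := IsOpenImmersion.lift_fac _ _ _
  have h1 : p.appLE V ⊤ hp = (V.ι).appLE V ⊤ (by simp) ≫ q.appTop := by
    have h2 : p.appLE V ⊤ hp = (q ≫ V.ι).appLE V ⊤ (by rw [hq]; exact hp) := by
      congr 1
      exact hq.symm
    have h3 : q.appTop = q.appLE ⊤ ⊤ le_rfl := by
      rw [Scheme.Hom.appTop, Scheme.Hom.app_eq_appLE]; rfl
    rw [h2, h3, Scheme.Hom.appLE_comp_appLE q V.ι V ⊤ ⊤ (by simp) le_rfl]
  have h3 : V.toSpecΓ = (V : Scheme.{u}).toSpecΓ ≫ Spec.map ((V.ι).appLE V ⊤ (by simp)) := by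
    rw [Scheme.Opens.toSpecΓ]
    congr 2
    simp
    rfl
  rw [toAff, h1, Spec.map_comp, Category.assoc]
  rw [← Scheme.toSpecΓ_naturality_assoc]
  have h4 := hV.toSpecΓ_fromSpec
  rw [h3, Category.assoc] at h4
  rw [h4, hq]

include hV in
/-- Morphisms landing in an affine open agree if they agree on functions. -/
theorem hom_ext_of_appLE {p p' : T ⟶ X} (hp : ⊤ ≤ p ⁻¹ᵁ V) (hp' : ⊤ ≤ p' ⁻¹ᵁ V)
    (h : ∀ s : Γ(X, V), p.appLE V ⊤ hp s = p'.appLE V ⊤ hp' s) : p = p' := by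
  rw [← toAff_eq hV p hp, ← toAff_eq hV p' hp']
  have : p.appLE V ⊤ hp = p'.appLE V ⊤ hp' := by
    ext s
    exact h s
  rw [this]

theorem fromSpec_le : ⊤ ≤ hV.fromSpec ⁻¹ᵁ V := by
  intro w _
  have : hV.fromSpec w ∈ Set.range hV.fromSpec := ⟨_, rfl⟩
  rw [hV.range_fromSpec] at this
  exact this

theorem le_toAff (ρ : Γ(X, V) ⟶ Γ(T, ⊤)) : ⊤ ≤ (toAff hV ρ) ⁻¹ᵁ V := by
  intro w _
  exact fromSpec_le hV (show (Spec.map ρ) (T.toSpecΓ w) ∈ (⊤ : (Spec Γ(X, V)).Opens) from trivial)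

theorem fromSpec_appLE : hV.fromSpec.appLE V ⊤ (fromSpec_le hV) = (Scheme.ΓSpecIso Γ(X, V)).inv := by
  have h4 := hV.fromSpec_app_self
  rw [Scheme.Hom.appLE, h4]
  rw [Category.assoc, ← Functor.map_comp]
  have h6 : (eqToHom hV.fromSpec_preimage_self).op ≫ (homOfLE (fromSpec_le hV)).op = 𝟙 _ :=
    Subsingleton.elim _ _
  rw [h6, CategoryTheory.Functor.map_id, Category.comp_id]

theorem toAff_appLE (ρ : Γ(X, V) ⟶ Γ(T, ⊤)) (e : ⊤ ≤ (toAff hV ρ) ⁻¹ᵁ V) :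
    (toAff hV ρ).appLE V ⊤ e = ρ := by
  have h1 : (toAff hV ρ).appLE V ⊤ e = hV.fromSpec.appLE V ⊤ (fromSpec_le hV) ≫
      (T.toSpecΓ ≫ Spec.map ρ).appLE ⊤ ⊤ le_top := by
    rw [Scheme.Hom.appLE_comp_appLE]
    simp only [toAff, Category.assoc]
  have h2 : (T.toSpecΓ ≫ Spec.map ρ).appLE ⊤ ⊤ le_top = (T.toSpecΓ ≫ Spec.map ρ).appTop := by
    rw [Scheme.Hom.appTop, Scheme.Hom.app_eq_appLE]
    rfl
  rw [h1, fromSpec_appLE, h2, Scheme.Hom.comp_appTop, ← Scheme.ΓSpecIso_inv_naturality_assoc,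
    Scheme.toSpecΓ_appTop, Iso.inv_hom_id, Category.comp_id]

end K921.AffMor
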