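import Groth.Agent.MorSch.K921.EpsDer
import Groth.Agent.Flat2H.AlgProp

/-!
# The derivation of a first order deformation, continued

`eps_eval`: `h : P ×_k k[ε] ⟶ X` over `k`, `f = i₀ ≫ h`, `∂h : O_X → f_* O_P` its derivation, `τ : Spec k[ε] ⟶ P`;
the `ε`-coefficient of `(τ, id)^# h^# a` is the sum of the `ε`-coefficient of `τ^# f^# a` and of `∂h a` at the point.
-/

set_option autoImplicit false
universe u

open CategoryTheory CategoryTheory.Limits AlgebraicGeometry TopologicalSpace Opposite OmegaSh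

namespace K921.DefDer

open Groth.Agent.Fdesc.LocGen K583.DerAffine K583.DerFunct K583.AlgUniv K921.EpsDer

variable {k : Type u} [CommRing k] {P : Scheme.{u}} (pP : P ⟶ Spec (CommRingCat.of k))

theorem exists_toDual (z : DualNumber k) : ∃ x : Γ(T k, ⊤), toDual x = z :=
  ⟨(Scheme.ΓSpecIso (CommRingCat.of (DualNumber k))).inv z,
    congr($((Scheme.ΓSpecIso (CommRingCat.of (DualNumber k))).inv_hom_id).hom z)⟩

theorem toDual_injective : Function.Injective (toDual (k := k)) := by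
  intro x y hxy
  have h := congrArg (Scheme.ΓSpecIso (CommRingCat.of (DualNumber k))).inv.hom hxy
  have h1 : ∀ x, (Scheme.ΓSpecIso (CommRingCat.of (DualNumber k))).inv.hom (toDual x) = x :=
    fun x => congr($((Scheme.ΓSpecIso (CommRingCat.of (DualNumber k))).hom_inv_id).hom x)
  rwa [h1, h1] at h

/-- The function `ε` on `Spec k[ε]`. -/
noncomputable def epsT : Γ(T k, ⊤) := (exists_toDual (DualNumber.eps : DualNumber k)).choose

theorem toDual_epsT : toDual (epsT : Γ(T k, ⊤)) = (DualNumber.eps : DualNumber k) :=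
  (exists_toDual (DualNumber.eps : DualNumber k)).choose_spec

/-- The function `ε` on `P_T`. -/
noncomputable def eps (U : (PT pP).Opens) : Γ(PT pP, U) := ores le_top ((qT pP).appTop epsT)

/-- The coefficient of `ε`. -/
noncomputable def dEps : Der (pr pP) ((Scheme.Modules.pushforward (i0 pP)).obj
    (Coh.structureModule P)) := (exists_partial pP).choose

theorem dEps_qT (x : Γ(T k, ⊤)) :
    (show Γ(P, ⊤) from (dEps pP).app ⊤ ((qT pP).appTop x)) = epsFun pP x :=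
  (exists_partial pP).choose_spec x

theorem exists_decomp_affine {W : P.Opens} (hW : IsAffineOpen W) (b : Γ(PT pP, pr pP ⁻¹ᵁ W)) :
    ∃ x y : Γ(P, W), b = (pr pP).app W x + eps pP _ * (pr pP).app W y := by
  have hsq : IsPullback (pr pP) (qT pP) pP (tT k) := IsPullback.of_hasPullback pP (tT k)
  obtain ⟨-, hp⟩ := Groth.Agent.Flat2H.AlgProp.isPushout_algebra hsq
    (isAffineOpen_top (Spec (CommRingCat.of k))) hW (isAffineOpen_top (T k)) le_top le_top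
  have hU : pr pP ⁻¹ᵁ W ⊓ qT pP ⁻¹ᵁ ⊤ = pr pP ⁻¹ᵁ W := inf_top_eq _
  obtain ⟨x, y, hxy⟩ := EpsDer.exists_decomp hp (epsT : Γ(T k, ⊤)) (fun z => by
    obtain ⟨r, hr⟩ : ∃ r : Γ(Spec (CommRingCat.of k), ⊤),
        (Scheme.ΓSpecIso (CommRingCat.of k)).hom r = (toDual z).fst :=
      ⟨(Scheme.ΓSpecIso (CommRingCat.of k)).inv (toDual z).fst,
        congr($((Scheme.ΓSpecIso (CommRingCat.of k)).inv_hom_id).hom _)⟩
    obtain ⟨s, hs⟩ : ∃ r : Γ(Spec (CommRingCat.of k), ⊤),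
        (Scheme.ΓSpecIso (CommRingCat.of k)).hom r = (toDual z).snd :=
      ⟨(Scheme.ΓSpecIso (CommRingCat.of k)).inv (toDual z).snd,
        congr($((Scheme.ΓSpecIso (CommRingCat.of k)).inv_hom_id).hom _)⟩
    refine ⟨r, s, toDual_injective ?_⟩
    have h1 : ∀ c : Γ(Spec (CommRingCat.of k), ⊤), toDual (((tT k).appLE ⊤ ⊤ le_top).hom c) =
        algebraMap k (DualNumber k) ((Scheme.ΓSpecIso (CommRingCat.of k)).hom c) := by
      intro c
      rw [← tT_appTop c]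
      congr 1
    have h6 : ∀ c : k, algebraMap k (DualNumber k) c = TrivSqZeroExt.inl c := fun c => rfl
    rw [map_add, map_mul, h1, h1, hr, hs, toDual_epsT, h6, h6]
    ext
    · simp
    · simp) (ores hU.le b)
  refine ⟨x, y, ?_⟩
  have h2 := congrArg (ores hU.ge) hxy
  rw [ores_ores, ores_refl, map_add, map_mul] at h2
  rw [h2]
  have h3 : ∀ x : Γ(P, W), ores hU.ge (((pr pP).appLE W (pr pP ⁻¹ᵁ W ⊓ qT pP ⁻¹ᵁ ⊤) inf_le_left).hom x) =
      (pr pP).app W x := by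
    intro x
    have h4 := (pr pP).appLE_map (U := W) (V := pr pP ⁻¹ᵁ W ⊓ qT pP ⁻¹ᵁ ⊤) inf_le_left (homOfLE hU.ge).op
    rw [Scheme.Hom.app_eq_appLE]
    exact congr($h4 x)
  have h5 : ores hU.ge (((qT pP).appLE ⊤ (pr pP ⁻¹ᵁ W ⊓ qT pP ⁻¹ᵁ ⊤) inf_le_right).hom epsT) = eps pP _ := by
    have h4 := (qT pP).appLE_map (U := ⊤) (V := pr pP ⁻¹ᵁ W ⊓ qT pP ⁻¹ᵁ ⊤) inf_le_right (homOfLE hU.ge).op
    exact congr($h4 epsT)
  rw [h3, h3, h5]

theorem i0_eps : (i0 pP).appTop ((qT pP).appTop epsT) = 0 := by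
  have h1 : (i0 pP).appTop ((qT pP).appTop epsT) = (i0 pP ≫ qT pP).appTop epsT := rfl
  rw [h1, i0_qT, pP_pt_appTop, toDual_epsT, DualNumber.fst_eps, map_zero]

variable {X : Scheme.{u}} {pX : X ⟶ Spec (CommRingCat.of k)} (h : PT pP ⟶ X)
  (w : pr pP ≫ pP = h ≫ pX)

/-- The derivation of a first order deformation. -/
noncomputable def defDer : Der pX ((Scheme.Modules.pushforward (i0 pP ≫ h)).obj
    (Coh.structureModule P)) := pushDer (f := pX) (f' := pr pP) (h := h) (b := pP) w (dEps pP)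

theorem le_preimage {V : X.Opens} {W : P.Opens} (e : W ≤ (i0 pP ≫ h) ⁻¹ᵁ V) : pr pP ⁻¹ᵁ W ≤ h ⁻¹ᵁ V := by
  intro x hx
  obtain ⟨y, rfl⟩ := (i0 pP).surjective x
  have h1 : y ∈ W := by
    have h2 : (pr pP) (i0 pP y) ∈ W := hx
    rw [← Scheme.Hom.comp_apply, i0_pr] at h2
    exact h2
  have h3 := e h1
  exact h3

/-- The coefficient of `ε`, as a function. -/
noncomputable def dVal {U : (PT pP).Opens} {W : P.Opens} (e : W ≤ i0 pP ⁻¹ᵁ U) : Γ(PT pP, U) →+ Γ(P, W) :=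
  AddMonoidHom.comp (ores e).toAddMonoidHom
    (show Γ(PT pP, U) →+ Γ(P, i0 pP ⁻¹ᵁ U) from (dEps pP).app U)

theorem dVal_mul {U : (PT pP).Opens} {W : P.Opens} (e : W ≤ i0 pP ⁻¹ᵁ U) (a b : Γ(PT pP, U)) :
    dVal pP e (a * b) = (i0 pP).appLE U W e a * dVal pP e b + (i0 pP).appLE U W e b * dVal pP e a := by
  have h1 := app_mul (dEps pP) U a b
  have h2 : dVal pP e (a * b) = ores e ((i0 pP).app U a * (show Γ(P, i0 pP ⁻¹ᵁ U) from (dEps pP).app U b) +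
      (i0 pP).app U b * (show Γ(P, i0 pP ⁻¹ᵁ U) from (dEps pP).app U a)) :=
    congrArg (fun z : Γ(P, i0 pP ⁻¹ᵁ U) => ores e z) h1
  rw [h2, map_add, map_mul, map_mul]
  rfl

theorem dVal_pr {W : P.Opens} (e : W ≤ i0 pP ⁻¹ᵁ (pr pP ⁻¹ᵁ W)) (a : Γ(P, W)) :
    dVal pP e ((pr pP).app W a) = 0 := by
  have h1 := app_base (dEps pP) W a
  have h2 : dVal pP e ((pr pP).app W a) = ores e 0 :=
    congrArg (fun z : Γ(P, i0 pP ⁻¹ᵁ (pr pP ⁻¹ᵁ W)) => ores e z) h1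
  rw [h2, map_zero]

theorem dVal_res {U U' : (PT pP).Opens} {W W' : P.Opens} (e : W ≤ i0 pP ⁻¹ᵁ U) (e' : W' ≤ i0 pP ⁻¹ᵁ U')
    (hU : U' ≤ U) (hW : W' ≤ W) (a : Γ(PT pP, U)) :
    ores hW (dVal pP e a) = dVal pP e' (ores hU a) := by
  have h1 := app_map (dEps pP) hU a
  have h2 : dVal pP e' (ores hU a) = ores e' (ores ((i0 pP).preimage_mono hU)
      (show Γ(P, i0 pP ⁻¹ᵁ U) from (dEps pP).app U a)) :=
    congrArg (fun z : Γ(P, i0 pP ⁻¹ᵁ U') => ores e' z) h1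
  rw [h2, ores_ores]
  change ores hW (ores e _) = _
  rw [ores_ores]
  rfl

theorem dVal_eps {U : (PT pP).Opens} {W : P.Opens} (e : W ≤ i0 pP ⁻¹ᵁ U) :
    dVal pP e (eps pP U) = 1 := by
  have h1 := dVal_res pP (U := ⊤) (W := ⊤) le_top e le_top le_top ((qT pP).appTop epsT)
  rw [eps, ← h1]
  have h2 : dVal pP (U := ⊤) (W := ⊤) le_top ((qT pP).appTop epsT) = epsFun pP epsT := by
    refine Eq.trans ?_ (dEps_qT pP epsT)
    exact ores_refl _
  rw [h2]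
  change ores _ (cst pP (toDual epsT).snd) = 1
  rw [toDual_epsT, DualNumber.snd_eps, map_one, map_one]

theorem i0_appLE_pr {W : P.Opens} (e : W ≤ i0 pP ⁻¹ᵁ (pr pP ⁻¹ᵁ W)) (z : Γ(P, W)) :
    (i0 pP).appLE (pr pP ⁻¹ᵁ W) W e ((pr pP).app W z) = z := by
  have h2 : (pr pP).app W ≫ (i0 pP).appLE (pr pP ⁻¹ᵁ W) W e = 𝟙 _ := by
    rw [Scheme.Hom.app_eq_appLE, Scheme.Hom.appLE_comp_appLE]
    have h3 : ∀ (g : P ⟶ P) (e' : W ≤ g ⁻¹ᵁ W), g = 𝟙 P → g.appLE W W e' = 𝟙 _ := by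
      rintro g e' rfl
      exact P.presheaf.map_id _
    exact h3 _ _ (i0_pr pP)
  exact congr($h2 z)

theorem i0_appLE_eps {U : (PT pP).Opens} {W : P.Opens} (e : W ≤ i0 pP ⁻¹ᵁ U) :
    (i0 pP).appLE U W e (eps pP U) = 0 := by
  have h3 : (i0 pP).appLE U W e (eps pP U) =
      ores (le_top : W ≤ ⊤) ((i0 pP).appTop ((qT pP).appTop epsT)) := by
    have h4 := (i0 pP).map_appLE (U := U) (V := W) (U' := ⊤) e (homOfLE le_top).op
    have h5 := (i0 pP).appLE_map (U := ⊤) (V := ⊤) (V' := W) le_top (homOfLE le_top).op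
    have h6 := congr($h4 ((qT pP).appTop epsT))
    have h7 := congr($h5 ((qT pP).appTop epsT))
    refine Eq.trans h6 (Eq.trans h7.symm ?_)
    change ores _ _ = _
    congr 1
    exact congr($((i0 pP).app_eq_appLE) ((qT pP).appTop epsT)).symm
  rw [h3, i0_eps, map_zero]

/-- `∂` on functions. -/
theorem dEps_decomp {W : P.Opens} {b : Γ(PT pP, pr pP ⁻¹ᵁ W)} {x y : Γ(P, W)}
    (hb : b = (pr pP).app W x + eps pP _ * (pr pP).app W y) (e : W ≤ i0 pP ⁻¹ᵁ (pr pP ⁻¹ᵁ W)) :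
    (i0 pP).appLE (pr pP ⁻¹ᵁ W) W e b = x ∧ dVal pP e b = y := by
  constructor
  · rw [hb, map_add, map_mul, i0_appLE_pr, i0_appLE_eps, zero_mul, add_zero]
  · rw [hb, map_add, dVal_mul, dVal_pr, dVal_pr, i0_appLE_eps, dVal_eps, zero_mul, mul_one, zero_add,
      zero_add, i0_appLE_pr]

/-- The values of `defDer` as functions. -/
noncomputable def defVal {V : X.Opens} {W : P.Opens} (e : W ≤ (i0 pP ≫ h) ⁻¹ᵁ V) : Γ(X, V) →+ Γ(P, W) :=
  (dVal pP (U := h ⁻¹ᵁ V) e).comp (h.app V).hom.toAddMonoidHom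

theorem congr_appLE {X Y : Scheme.{u}} {g g' : X ⟶ Y} (hg : g = g') {V : Y.Opens} {W : X.Opens}
    (e : W ≤ g ⁻¹ᵁ V) (e' : W ≤ g' ⁻¹ᵁ V) (a : Γ(Y, V)) : g.appLE V W e a = g'.appLE V W e' a := by
  subst hg
  rfl

theorem appLE_comp {X Y Z : Scheme.{u}} (g : X ⟶ Y) (g' : Y ⟶ Z) {V : Z.Opens} {W : Y.Opens} {W' : X.Opens}
    (e : W ≤ g' ⁻¹ᵁ V) (e' : W' ≤ g ⁻¹ᵁ W) (e'' : W' ≤ (g ≫ g') ⁻¹ᵁ V) (a : Γ(Z, V)) :
    g.appLE W W' e' (g'.appLE V W e a) = (g ≫ g').appLE V W' e'' a := by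
  have h1 := Scheme.Hom.appLE_comp_appLE g g' V W W' e e'
  exact congr($h1 a)

/-- The value of a deformation at a `k[ε]`-point. -/
theorem eps_eval {V : X.Opens} {W : P.Opens} (hW : IsAffineOpen W) (e : W ≤ (i0 pP ≫ h) ⁻¹ᵁ V)
    (τ : T k ⟶ P) (hτ : τ ≫ pP = tT k) (eτ : ⊤ ≤ τ ⁻¹ᵁ W) (v : T k ⟶ X)
    (hv : pullback.lift τ (𝟙 _) (by rw [hτ, Category.id_comp]) ≫ h = v) (ev : ⊤ ≤ v ⁻¹ᵁ V) (a : Γ(X, V)) :
    toDual (v.appLE V ⊤ ev a) = toDual (τ.appLE W ⊤ eτ ((i0 pP ≫ h).appLE V W e a)) +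
      DualNumber.eps * toDual (τ.appLE W ⊤ eτ (defVal pP h e a)) := by
  subst hv
  let s : T k ⟶ PT pP := pullback.lift τ (𝟙 _) (by rw [hτ, Category.id_comp])
  have hs1 : s ≫ pr pP = τ := pullback.lift_fst _ _ _
  have hs2 : s ≫ qT pP = 𝟙 _ := pullback.lift_snd _ _ _
  have hle := le_preimage pP h e
  have es : ⊤ ≤ s ⁻¹ᵁ (pr pP ⁻¹ᵁ W) := by
    rw [← Scheme.Hom.comp_preimage, hs1]
    exact eτ
  have ei : W ≤ i0 pP ⁻¹ᵁ (pr pP ⁻¹ᵁ W) := by
    rw [← Scheme.Hom.comp_preimage, i0_pr]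
    exact le_rfl
  obtain ⟨x, y, hb⟩ := exists_decomp_affine pP hW (h.appLE V (pr pP ⁻¹ᵁ W) hle a)
  obtain ⟨hx, hy⟩ := dEps_decomp pP hb ei
  have hx' : (i0 pP ≫ h).appLE V W e a = x := by
    rw [← hx]
    exact (appLE_comp _ _ _ _ _ _).symm
  have hy' : defVal pP h e a = y := by
    rw [← hy]
    have h1 := dVal_res pP (U := h ⁻¹ᵁ V) (W := W) e ei hle le_rfl (h.app V a)
    rw [ores_refl] at h1
    exact h1
  rw [hx', hy']
  have h1 : s.appLE (pr pP ⁻¹ᵁ W) ⊤ es (h.appLE V (pr pP ⁻¹ᵁ W) hle a) = (s ≫ h).appLE V ⊤ ev a :=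
    appLE_comp _ _ _ _ _ _
  have h2 : ∀ z, s.appLE (pr pP ⁻¹ᵁ W) ⊤ es ((pr pP).app W z) = τ.appLE W ⊤ eτ z := by
    intro z
    have h3 := appLE_comp s (pr pP) (V := W) (W := pr pP ⁻¹ᵁ W) (W' := ⊤) le_rfl es
      (by rw [hs1]; exact eτ) z
    rw [(pr pP).app_eq_appLE]
    exact h3.trans (congr_appLE hs1 _ _ z)
  have h3 : s.appLE (pr pP ⁻¹ᵁ W) ⊤ es (eps pP _) = epsT := by
    have h4 : eps pP (pr pP ⁻¹ᵁ W) = (qT pP).appLE ⊤ (pr pP ⁻¹ᵁ W) le_top epsT := rfl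
    rw [h4]
    refine (appLE_comp s (qT pP) le_top es le_top epsT).trans ?_
    refine (congr_appLE hs2 _ le_top epsT).trans ?_
    have h5 := (𝟙 (T k) : T k ⟶ T k).app_eq_appLE (U := ⊤)
    have h6 := congr($h5 (epsT : Γ(T k, ⊤)))
    refine h6.symm.trans ?_
    rw [Scheme.Hom.id_app]
    rfl
  change toDual ((s ≫ h).appLE V ⊤ ev a) = _
  rw [← h1, hb, map_add, map_mul, h2, h2, h3, map_add, map_mul, toDual_epsT]

end K921.DefDer
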