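import Groth.Agent.OmegaSh.K583.UnivAffine
import Groth.Agent.VarietyB.PullSec
import Groth.Agent.Fdesc.LocGen

/-!
# Derivations along a morphism

`p : X ⟶ S`, `f : Y ⟶ X`, `d : O_X → Ω` a universal `S`-derivation, `G = f^* Ω`.

* `IsLocDer p f e δ`: `δ : Γ(X, V) → N` (`N` a `Γ(Y, W)`-module, `e : W ≤ f⁻¹ V`) is a derivation along
  `f`, zero on the functions of `S`;
* `exists_lift`, `lift_ext`: for `V`, `W`, `S` affine, such derivations are the same as `Γ(Y, W)`-linear maps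
  `Γ(G, W) → N`;
* `ev φ e a`: for `φ : G ⟶ L`, the derivation `a ↦ φ (f^* d a)` on `Γ(X, V)` with values in `Γ(L, W)`;
* `isLocDer_ev`, `ev_res`;
* `homOf D : G ⟶ L` for a derivation `D : O_X → f_* L`, `ev_homOf`.
-/

set_option autoImplicit false
universe u

open CategoryTheory CategoryTheory.Limits AlgebraicGeometry TopologicalSpace Opposite OmegaSh

namespace K921.DerLoc

open Groth.Agent.Fdesc.LocGen Groth.Agent.VarietyB K583.DerAffine K583.DerFunct K583.AlgUniv

variable {X Y S : Scheme.{u}} (p : X ⟶ S) (f : Y ⟶ X)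

/-- Derivations along `f` on sections over an open. -/
structure IsLocDer {V : X.Opens} {W : Y.Opens} (e : W ≤ f ⁻¹ᵁ V) {N : Type*} [AddCommGroup N]
    [Module Γ(Y, W) N] (δ : Γ(X, V) →+ N) : Prop where
  leibniz : ∀ a b, δ (a * b) = f.appLE V W e a • δ b + f.appLE V W e b • δ a
  zero : ∀ c : Γ(S, ⊤), δ (p.appLE ⊤ V le_top c) = 0

variable {p f} {Ω : X.Modules} {d : Der p Ω}

section local_lift

variable {V : X.Opens} {W : Y.Opens} (e : W ≤ f ⁻¹ᵁ V)
variable {N : Type u} [AddCommGroup N] [Module Γ(Y, W) N]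

theorem exists_lift [IsAffine S] (hd : IsUniversal d) (hV : IsAffineOpen V) (hW : IsAffineOpen W)
    {δ : Γ(X, V) →+ N} (hδ : IsLocDer p f e δ) :
    ∃ h : Γ((Scheme.Modules.pullback f).obj Ω, W) →ₗ[Γ(Y, W)] N,
      ∀ a, h (PullSec.sec f Ω e (d.app V a)) = δ a := by
  have hΩ : Coh.IsQCoh Ω := K583.UnivAffine.isQuasicoherent_of_isUniversal hd
  have hu := K583.UnivAffine.isAlgUniv_app hd hV (isAffineOpen_top S) le_top
  let j0 : Module Γ(X, V) N := Module.compHom N (f.appLE V W e).hom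
  obtain ⟨g, hg, -⟩ := hu.lift N δ ⟨fun a b => hδ.leibniz a b, fun c => hδ.zero c⟩
  let j1 : Algebra Γ(X, V) Γ(Y, W) := (f.appLE V W e).hom.toAlgebra
  let j2 := PullSec.secModule f Ω e
  have j3 : IsScalarTower Γ(X, V) Γ(Y, W) Γ((Scheme.Modules.pullback f).obj Ω, W) :=
      ⟨fun a b c => by rw [Algebra.smul_def, mul_smul]; rfl⟩
  have j4 : IsScalarTower Γ(X, V) Γ(Y, W) N :=
      ⟨fun a b c => by rw [Algebra.smul_def, mul_smul]; rfl⟩
  have hbc := PullSec.isBaseChange_secₗ f Ω e hΩ hV hW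
  refine ⟨hbc.lift g, fun a => ?_⟩
  have h1 := hbc.lift_eq g (d.app V a)
  rw [hg] at h1
  exact h1

theorem lift_ext [IsAffine S] (hd : IsUniversal d) (hV : IsAffineOpen V) (hW : IsAffineOpen W)
    {h h' : Γ((Scheme.Modules.pullback f).obj Ω, W) →ₗ[Γ(Y, W)] N}
    (H : ∀ a, h (PullSec.sec f Ω e (d.app V a)) = h' (PullSec.sec f Ω e (d.app V a))) : h = h' := by
  have hΩ : Coh.IsQCoh Ω := K583.UnivAffine.isQuasicoherent_of_isUniversal hd
  have hu := K583.UnivAffine.isAlgUniv_app hd hV (isAffineOpen_top S) le_top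
  let j0 : Module Γ(X, V) N := Module.compHom N (f.appLE V W e).hom
  let j1 : Algebra Γ(X, V) Γ(Y, W) := (f.appLE V W e).hom.toAlgebra
  let j2 := PullSec.secModule f Ω e
  have j3 : IsScalarTower Γ(X, V) Γ(Y, W) Γ((Scheme.Modules.pullback f).obj Ω, W) :=
      ⟨fun a b c => by rw [Algebra.smul_def, mul_smul]; rfl⟩
  have j4 : IsScalarTower Γ(X, V) Γ(Y, W) N :=
      ⟨fun a b c => by rw [Algebra.smul_def, mul_smul]; rfl⟩
  have hbc := PullSec.isBaseChange_secₗ f Ω e hΩ hV hW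
  refine hbc.algHom_ext h h' fun m => ?_
  have h2 : (h.restrictScalars Γ(X, V)).comp (PullSec.secₗ f Ω e) =
      (h'.restrictScalars Γ(X, V)).comp (PullSec.secₗ f Ω e) :=
    hu.hom_ext fun b => H b
  exact LinearMap.congr_fun h2 m

theorem span_sec_d [IsAffine S] (hd : IsUniversal d) (hV : IsAffineOpen V) (hW : IsAffineOpen W) :
    Submodule.span Γ(Y, W) (Set.range fun a => PullSec.sec f Ω e (d.app V a)) = ⊤ := by
  have h := lift_ext (f := f) e hd hV hW
    (h := (Submodule.span Γ(Y, W) (Set.range fun a => PullSec.sec f Ω e (d.app V a))).mkQ) (h' := 0)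
    (fun a => by
      rw [Submodule.mkQ_apply, LinearMap.zero_apply, Submodule.Quotient.mk_eq_zero]
      exact Submodule.subset_span ⟨a, rfl⟩)
  rw [← Submodule.ker_mkQ (Submodule.span _ _), h, LinearMap.ker_zero]

end local_lift

section ev

variable {L : Y.Modules} (φ : (Scheme.Modules.pullback f).obj Ω ⟶ L)

/-- The value of the derivation defined by `φ : f^* Ω ⟶ L`. -/
noncomputable def ev (d : Der p Ω) {V : X.Opens} {W : Y.Opens} (e : W ≤ f ⁻¹ᵁ V) : Γ(X, V) →+ Γ(L, W) :=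
  (φ.app W).hom.comp ((PullSec.sec f Ω e).comp (d.app V))

theorem ev_apply {V : X.Opens} {W : Y.Opens} (e : W ≤ f ⁻¹ᵁ V) (a : Γ(X, V)) :
    ev φ d e a = φ.app W (PullSec.sec f Ω e (d.app V a)) := rfl

theorem isLocDer_ev {V : X.Opens} {W : Y.Opens} (e : W ≤ f ⁻¹ᵁ V) : IsLocDer p f e (ev φ d e) where
  leibniz a b := by
    rw [ev_apply, ev_apply, ev_apply, app_mul, map_add, PullSec.sec_smul, PullSec.sec_smul, map_add,
      Scheme.Modules.Hom.app_smul, Scheme.Modules.Hom.app_smul]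
  zero c := by
    rw [ev_apply, app_appLE, map_zero, map_zero]

theorem ev_res {V V' : X.Opens} {W W' : Y.Opens} (e : W ≤ f ⁻¹ᵁ V) (e' : W' ≤ f ⁻¹ᵁ V') (hV : V' ≤ V)
    (hW : W' ≤ W) (a : Γ(X, V)) :
    res L hW (ev φ d e a) = ev φ d e' (X.presheaf.map (homOfLE hV).op a) := by
  rw [ev_apply, ev_apply, ← app_res, app_map]
  congr 1
  exact PullSec.sec_res f Ω e e' hV hW _

theorem ev_comp {L' : Y.Modules} (ψ : L ⟶ L') {V : X.Opens} {W : Y.Opens} (e : W ≤ f ⁻¹ᵁ V) (a : Γ(X, V)) :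
    ev (φ ≫ ψ) d e a = ψ.app W (ev φ d e a) := rfl

/-- The morphism defined by a derivation. -/
noncomputable def homOf (hd : IsUniversal d) {L : Y.Modules}
    (D : Der p ((Scheme.Modules.pushforward f).obj L)) : (Scheme.Modules.pullback f).obj Ω ⟶ L :=
  adj f (univLift hd D)

theorem ev_homOf (hd : IsUniversal d) {L : Y.Modules}
    (D : Der p ((Scheme.Modules.pushforward f).obj L)) {V : X.Opens} {W : Y.Opens} (e : W ≤ f ⁻¹ᵁ V)
    (a : Γ(X, V)) :
    ev (homOf hd D) d e a = res L e (show Γ(L, f ⁻¹ᵁ V) from D.app V a) := by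
  rw [ev_apply]
  have h1 : PullSec.sec f Ω e (d.app V a) = res _ e (pullSect f Ω V (d.app V a)) := rfl
  rw [h1, app_res]
  congr 1
  unfold homOf
  rw [adj_pullSect, univLift_app]

end ev

end K921.DerLoc
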