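import Groth.Agent.MorSch.K921.TanLift
import Groth.Agent.MorSch.K921.SmLift

/-!
# Members of a family of rational curves along which tangent vectors lift are free

`e : P^1 × M ⟶ X` a family of morphisms over the field `k`, `X` smooth and separated, `m` a rational point of `M`,
`i : P^1 ⟶ P^1 × M` the fibre over `m`, `t` a rational point of `P^1`.

* `isFree_of_tan`: if all tangent vectors of `X` at `e(t, m)` are images of tangent vectors at `(t, m)`, then `i ≫ e` is free;
* `isFree_of_smooth`: the case of `e` smooth near `(t, m)`.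
-/

set_option autoImplicit false
universe u

open CategoryTheory CategoryTheory.Limits AlgebraicGeometry TopologicalSpace Opposite OmegaSh

namespace K921.FamFree

open K921.P1Ideal K921.EpsDer

variable {k : Type u} [Field k] {X : Scheme.{u}} {pX : X ⟶ Spec (CommRingCat.of k)}

theorem isFree_of_tan [Smooth pX] [IsSeparated pX] (f : P1 k ⟶ X) (hf : f ≫ pX = pP k)
    {M : Scheme.{u}} {qM : M ⟶ Spec (CommRingCat.of k)} (m : Spec (CommRingCat.of k) ⟶ M)
    (e : pullback (pP k) qM ⟶ X) (he : e ≫ pX = pullback.fst (pP k) qM ≫ pP k)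
    (i : P1 k ⟶ pullback (pP k) qM) (hi₁ : i ≫ pullback.fst (pP k) qM = 𝟙 _)
    (hi₂ : i ≫ pullback.snd (pP k) qM = pP k ≫ m) (hie : i ≫ e = f)
    (t : Spec (CommRingCat.of k) ⟶ P1 k) (ht : t ≫ pP k = 𝟙 _)
    (H : ∀ v : T k ⟶ X, v ≫ pX = tT k → pt k ≫ v = t ≫ f →
      ∃ w : T k ⟶ pullback (pP k) qM, w ≫ e = v ∧ pt k ≫ w = t ≫ i) : MorSch.IsFree pX f := by
  refine TanLift.isFree_of_lift f hf t ht fun v hv hv' => ?_
  obtain ⟨w, hw, hw'⟩ := H v hv hv'
  have hwT : w ≫ pullback.fst (pP k) qM ≫ pP k = tT k := by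
    rw [← he, reassoc_of% hw, hv]
  have hwM : (w ≫ pullback.snd (pP k) qM) ≫ qM = tT k := by
    rw [Category.assoc, ← pullback.condition, hwT]
  let g : PT (pP k) ⟶ pullback (pP k) qM :=
    pullback.lift (pr (pP k)) (qT (pP k) ≫ w ≫ pullback.snd (pP k) qM)
      (((pullback.condition (f := pP k) (g := tT k)).trans
        (congrArg (qT (pP k) ≫ ·) hwM.symm)).trans (Category.assoc _ _ _).symm)
  have hg1 : g ≫ pullback.fst (pP k) qM = pr (pP k) := pullback.lift_fst _ _ _
  have hg2 : g ≫ pullback.snd (pP k) qM = qT (pP k) ≫ w ≫ pullback.snd (pP k) qM :=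
    pullback.lift_snd _ _ _
  refine ⟨g ≫ e, w ≫ pullback.fst (pP k) qM, ?_, ?_, ?_, ?_, ?_⟩
  · rw [Category.assoc, he, reassoc_of% hg1]
  · have h1 : i0 (pP k) ≫ g = i := by
      apply pullback.hom_ext
      · rw [Category.assoc, hg1, i0_pr, hi₁]
      · rw [Category.assoc, hg2, i0_qT_assoc, hi₂, reassoc_of% hw', hi₂, reassoc_of% ht]
    rw [← Category.assoc, h1, hie]
  · rw [Category.assoc, hwT]
  · rw [reassoc_of% hw', hi₁, Category.comp_id]
  · intro hh
    have h1 : pullback.lift (w ≫ pullback.fst (pP k) qM) (𝟙 _) hh ≫ g = w := by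
      apply pullback.hom_ext
      · rw [Category.assoc, hg1]
        exact pullback.lift_fst _ _ _
      · rw [Category.assoc, hg2]
        exact (pullback.lift_snd_assoc _ _ _ _).trans (Category.id_comp _)
    rw [← Category.assoc, h1, hw]

theorem isNilpotent_ker {A B : Type u} [CommRing A] [CommRing B] (q : A →+* B)
    (h : ∀ a b : A, q a = 0 → q b = 0 → a * b = 0) : IsNilpotent (RingHom.ker q) := by
  refine ⟨2, ?_⟩
  rw [pow_succ, pow_one]
  refine le_bot_iff.1 (Ideal.mul_le.2 fun a ha b hb => ?_)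
  exact h a b ha hb

/-- Lifting tangent vectors at a point where the morphism is smooth. -/
theorem exists_tan_of_smooth {Z : Scheme.{u}} (e : Z ⟶ X) (U : Z.Opens) [Smooth (U.ι ≫ e)]
    (ζ : Spec (CommRingCat.of k) ⟶ Z) (hζ : ζ (IsLocalRing.closedPoint k) ∈ U) (v : T k ⟶ X)
    (hv : pt k ≫ v = ζ ≫ e) : ∃ w : T k ⟶ Z, w ≫ e = v ∧ pt k ≫ w = ζ := by
  let q : DualNumber k →+* k := (TrivSqZeroExt.fstHom k k k : DualNumber k →ₐ[k] k).toRingHom
  have hq : Function.Surjective q := TrivSqZeroExt.fst_surjective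
  have hn : IsNilpotent (RingHom.ker q) := by
    refine isNilpotent_ker q fun a b ha hb => ?_
    have ha' : a.fst = 0 := ha
    have hb' : b.fst = 0 := hb
    ext
    · rw [TrivSqZeroExt.fst_mul, ha', zero_mul]
      rfl
    · rw [TrivSqZeroExt.snd_mul, ha', hb', zero_smul, MulOpposite.op_zero, zero_smul, add_zero]
      rfl
  exact SmLift.exists_lift_local e U q hq hn ζ hζ v hv

theorem isFree_of_smooth [Smooth pX] [IsSeparated pX] (f : P1 k ⟶ X) (hf : f ≫ pX = pP k)
    {M : Scheme.{u}} {qM : M ⟶ Spec (CommRingCat.of k)} (m : Spec (CommRingCat.of k) ⟶ M)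
    (e : pullback (pP k) qM ⟶ X) (he : e ≫ pX = pullback.fst (pP k) qM ≫ pP k)
    (i : P1 k ⟶ pullback (pP k) qM) (hi₁ : i ≫ pullback.fst (pP k) qM = 𝟙 _)
    (hi₂ : i ≫ pullback.snd (pP k) qM = pP k ≫ m) (hie : i ≫ e = f)
    (t : Spec (CommRingCat.of k) ⟶ P1 k) (ht : t ≫ pP k = 𝟙 _)
    (U : (pullback (pP k) qM).Opens) [Smooth (U.ι ≫ e)]
    (hU : (t ≫ i) (IsLocalRing.closedPoint k) ∈ U) : MorSch.IsFree pX f :=
  isFree_of_tan f hf m e he i hi₁ hi₂ hie t ht fun v _ hv =>
    exists_tan_of_smooth e U (t ≫ i) hU v (by rw [hv, Category.assoc, hie])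

end K921.FamFree
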