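import Groth.Agent.MorSch.K921.ExtFam
import Groth.Agent.MorSch.K921.FamFree
import Mathlib.AlgebraicGeometry.AlgClosed.Basic

/-!
# Partially defined families of rational curves

`M` a variety over `k`, `U` open in `P^1 × M`, `g : U ⟶ X` over `k`, `N` open in `M`, `e : P^1 × N ⟶ X` an extension of `g`.
* `exists_kpoint`: rational points of locally closed subsets, `k` algebraically closed;
* `exists_lift_fam`: points of `U` over `N` as points of `P^1 × N`;
* `isIntegral_double`: `U ×_M U` is integral;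
* `exists_nonconst`: if `g` does not contract some curve of the family then some member `e(-, n)` is not constant;
* `isFree_of_fam`: members through the points where `g` is smooth are free.
-/

set_option autoImplicit false
universe u

open CategoryTheory CategoryTheory.Limits AlgebraicGeometry TopologicalSpace Opposite

namespace K921.DoubFam

open K921.P1Ideal K921.P1Pts K921.ExtFam K921.NonConst K921.EpsDer

variable {k : Type u} [Field k]

/-- Rational points of nonempty locally closed subsets. -/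
theorem exists_kpoint [IsAlgClosed k] {Y : Scheme.{u}} (q : Y ⟶ Spec (CommRingCat.of k)) [LocallyOfFiniteType q]
    {Z : Set Y} (hZ : IsLocallyClosed Z) (hne : Z.Nonempty) :
    ∃ y : Spec (CommRingCat.of k) ⟶ Y, y ≫ q = 𝟙 _ ∧ y (IsLocalRing.closedPoint k) ∈ Z := by
  have : JacobsonSpace Y := LocallyOfFiniteType.jacobsonSpace q
  obtain ⟨z, hzZ, hz⟩ := nonempty_inter_closedPoints hne hZ
  refine ⟨pointOfClosedPoint q z hz, pointOfClosedPoint_comp q z hz, ?_⟩
  rw [pointOfClosedPoint_apply q z hz]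
  exact hzZ

theorem exists_field_point (Y : Scheme.{u}) (y : Y) :
    ∃ (K : Type u) (_ : Field K) (r : Spec (CommRingCat.of K) ⟶ Y), r (IsLocalRing.closedPoint K) = y :=
  ⟨Y.residueField y, inferInstance, Y.fromSpecResidueField y, Y.fromSpecResidueField_apply y _⟩

section general

variable {M : Scheme.{u}} {m : M ⟶ Spec (CommRingCat.of k)} {X : Scheme.{u}}
  {pX : X ⟶ Spec (CommRingCat.of k)} {U : (pullback (pP k) m).Opens} {g : (U : Scheme.{u}) ⟶ X} {N : M.Opens}
  {e : pullback (pP k) (N.ι ≫ m) ⟶ X}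

theorem exists_lift_fam
    (hext : ∀ (T : Scheme.{u}) (a : T ⟶ pullback (pP k) (N.ι ≫ m)) (a' : T ⟶ U),
          a ≫ prodMap N.ι m = a' ≫ U.ι → a ≫ e = a' ≫ g)
    {T : Scheme.{u}} (w : T ⟶ U) (μ : T ⟶ N) (h : μ ≫ N.ι = w ≫ U.ι ≫ pullback.snd (pP k) m) :
    ∃ a : T ⟶ pullback (pP k) (N.ι ≫ m), a ≫ pullback.fst _ _ = w ≫ U.ι ≫ pullback.fst (pP k) m ∧
      a ≫ pullback.snd _ _ = μ ∧ a ≫ e = w ≫ g := by
  have h1 : (w ≫ U.ι ≫ pullback.fst (pP k) m) ≫ pP k = μ ≫ N.ι ≫ m := by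
    rw [reassoc_of% h, Category.assoc, Category.assoc, pullback.condition]
  refine ⟨pullback.lift _ _ h1, pullback.lift_fst _ _ _, pullback.lift_snd _ _ _, ?_⟩
  refine hext T _ w ?_
  apply pullback.hom_ext
  · rw [Category.assoc, prodMap_fst, pullback.lift_fst, Category.assoc]
  · rw [Category.assoc, prodMap_snd, pullback.lift_snd_assoc, h, Category.assoc]

/-- Points of an open subset with values in local schemes. -/
theorem exists_lift_open {A : Type u} [CommRing A] [IsLocalRing A] (w : Spec (CommRingCat.of A) ⟶ M)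
    (h : w (IsLocalRing.closedPoint A) ∈ N) : ∃ μ : Spec (CommRingCat.of A) ⟶ N, μ ≫ N.ι = w := by
  have hr : Set.range w ⊆ Set.range N.ι := by
    rw [Scheme.Opens.range_ι]
    rintro _ ⟨x, rfl⟩
    exact K921.SmLift.top_le_of_closedPoint w h (show x ∈ (⊤ : (Spec (CommRingCat.of A)).Opens) from trivial)
  exact ⟨IsOpenImmersion.lift N.ι w hr, IsOpenImmersion.lift_fac _ _ _⟩

/-- `U ×_M U` is integral. -/
theorem isIntegral_double [IsIntegral M] [LocallyOfFiniteType m] (hU : (U : Set ↥(pullback (pP k) m)).Nonempty) :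
    IsIntegral (pullback (U.ι ≫ pullback.snd (pP k) m) (U.ι ≫ pullback.snd (pP k) m)) := by
  have hP := isIntegral_prod m
  have hMn : IsLocallyNoetherian M := LocallyOfFiniteType.isLocallyNoetherian m
  have hPn : IsLocallyNoetherian (pullback (pP k) m) :=
    LocallyOfFiniteType.isLocallyNoetherian (pullback.snd (pP k) m ≫ m)
  have hPP : IsIntegral (pullback (pullback.snd (pP k) m) (pullback.snd (pP k) m)) := inferInstance
  let c : pullback (U.ι ≫ pullback.snd (pP k) m) (U.ι ≫ pullback.snd (pP k) m) ⟶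
      pullback (pullback.snd (pP k) m) (pullback.snd (pP k) m) :=
    pullback.map _ _ _ _ U.ι U.ι (𝟙 M) (by rw [Category.comp_id]) (by rw [Category.comp_id])
  have hc : IsOpenImmersion c := inferInstance
  obtain ⟨x, hx⟩ := hU
  have hne : Nonempty ↥(pullback (U.ι ≫ pullback.snd (pP k) m) (U.ι ≫ pullback.snd (pP k) m)) :=
    ⟨(pullback.lift (f := U.ι ≫ pullback.snd (pP k) m) (g := U.ι ≫ pullback.snd (pP k) m)
      (𝟙 (U : Scheme.{u})) (𝟙 (U : Scheme.{u})) rfl) (⟨x, hx⟩ : U)⟩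
  exact isIntegral_of_isOpenImmersion c

/-- The inclusion of the fibre of `P^1 × N` over a rational point. -/
theorem exists_fibre {q : (N : Scheme.{u}) ⟶ Spec (CommRingCat.of k)} (n : Spec (CommRingCat.of k) ⟶ N)
    (hn : n ≫ q = 𝟙 _) : ∃ i : P1 k ⟶ pullback (pP k) q, i ≫ pullback.fst _ _ = 𝟙 _ ∧
      i ≫ pullback.snd _ _ = pP k ≫ n :=
  ⟨pullback.lift (𝟙 _) (pP k ≫ n) (by rw [Category.id_comp, Category.assoc, hn, Category.comp_id]),
    pullback.lift_fst _ _ _, pullback.lift_snd _ _ _⟩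

/-- Points of `U` over a rational point `n` of `N` lie on the member `e(-, n)`. -/
theorem comp_fibre
    (hext : ∀ (T : Scheme.{u}) (a : T ⟶ pullback (pP k) (N.ι ≫ m)) (a' : T ⟶ U),
          a ≫ prodMap N.ι m = a' ≫ U.ι → a ≫ e = a' ≫ g)
    (n : Spec (CommRingCat.of k) ⟶ N) (i : P1 k ⟶ pullback (pP k) (N.ι ≫ m))
    (hi₁ : i ≫ pullback.fst _ _ = 𝟙 _) (hi₂ : i ≫ pullback.snd _ _ = pP k ≫ n)
    (w : Spec (CommRingCat.of k) ⟶ U) (hw : w ≫ U.ι ≫ pullback.snd (pP k) m = n ≫ N.ι)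
    (hw' : (w ≫ U.ι ≫ pullback.fst (pP k) m) ≫ pP k = 𝟙 _) :
    (w ≫ U.ι ≫ pullback.fst (pP k) m) ≫ i ≫ e = w ≫ g := by
  rw [← Category.assoc]
  refine hext _ _ w ?_
  apply pullback.hom_ext
  · rw [Category.assoc, prodMap_fst, Category.assoc, Category.assoc, hi₁, Category.assoc]
    simp only [Category.assoc, Category.comp_id]
  · rw [Category.assoc, prodMap_snd, Category.assoc, reassoc_of% hi₂]
    rw [← Category.assoc (w ≫ U.ι ≫ pullback.fst (pP k) m) (pP k), hw', Category.id_comp, Category.assoc, hw]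

/-- Members through the points where `g` is smooth are free. -/
theorem isFree_of_fam [Smooth pX] [IsSeparated pX]
    (he : e ≫ pX = pullback.fst _ _ ≫ pP k)
    (hext : ∀ (T : Scheme.{u}) (a : T ⟶ pullback (pP k) (N.ι ≫ m)) (a' : T ⟶ U),
          a ≫ prodMap N.ι m = a' ≫ U.ι → a ≫ e = a' ≫ g)
    (n : Spec (CommRingCat.of k) ⟶ N) (i : P1 k ⟶ pullback (pP k) (N.ι ≫ m))
    (hi₁ : i ≫ pullback.fst _ _ = 𝟙 _) (hi₂ : i ≫ pullback.snd _ _ = pP k ≫ n)
    (w : Spec (CommRingCat.of k) ⟶ U) (hw : w ≫ U.ι ≫ pullback.snd (pP k) m = n ≫ N.ι)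
    (hw' : (w ≫ U.ι ≫ pullback.fst (pP k) m) ≫ pP k = 𝟙 _)
    (V : (U : Scheme.{u}).Opens) [Smooth (V.ι ≫ g)] (hV : w (IsLocalRing.closedPoint k) ∈ V) :
    MorSch.IsFree pX (i ≫ e) := by
  have hwe := comp_fibre hext n i hi₁ hi₂ w hw hw'
  refine FamFree.isFree_of_tan (i ≫ e) (by rw [Category.assoc, he, reassoc_of% hi₁]) n e he i hi₁ hi₂ rfl
    (w ≫ U.ι ≫ pullback.fst (pP k) m) hw' fun v hv hv' => ?_
  obtain ⟨w', hw'1, hw'2⟩ := FamFree.exists_tan_of_smooth g V w hV v (by rw [hv', hwe])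
  obtain ⟨μ, hμ⟩ := exists_lift_open (N := N) (w' ≫ U.ι ≫ pullback.snd (pP k) m) (by
    obtain ⟨y, hy⟩ := (pt k).surjective (IsLocalRing.closedPoint (DualNumber k))
    rw [← hy, ← Scheme.Hom.comp_apply, reassoc_of% hw'2, hw, Scheme.Hom.comp_apply]
    exact (n y).2)
  obtain ⟨a, ha1, ha2, ha3⟩ := exists_lift_fam hext w' μ hμ
  refine ⟨a, by rw [ha3, hw'1], ?_⟩
  apply pullback.hom_ext
  · rw [Category.assoc, ha1, reassoc_of% hw'2, Category.assoc, hi₁]
    simp only [Category.comp_id]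
  · rw [Category.assoc, ha2, Category.assoc, hi₂, ← Category.assoc (w ≫ U.ι ≫ pullback.fst (pP k) m) (pP k),
      hw', Category.id_comp, ← cancel_mono N.ι, Category.assoc, hμ, reassoc_of% hw'2, hw]

/-- Nonempty opens of `P^1 × M` meet `P^1 × N`. -/
theorem exists_mem_over [IsIntegral M] [LocallyOfFiniteType m] (hU : (U : Set ↥(pullback (pP k) m)).Nonempty)
    (hN : (N : Set M).Nonempty) : ∃ x ∈ U, (pullback.snd (pP k) m) x ∈ N := by
  have hP := isIntegral_prod m
  obtain ⟨y, hy⟩ := hN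
  obtain ⟨z, hz⟩ := (pullback.snd (pP k) m).surjective y
  obtain ⟨x, hx, hx'⟩ := nonempty_preirreducible_inter U.isOpen ((pullback.snd (pP k) m) ⁻¹ᵁ N).isOpen hU
    ⟨z, by
      change pullback.snd (pP k) m z ∈ N
      rw [hz]
      exact hy⟩
  exact ⟨x, hx, hx'⟩

/-- A rational point of the locus where `g` is not constant along the curves of the family. -/
theorem exists_point_double [IsAlgClosed k] [IsIntegral M] [LocallyOfFiniteType m] [IsSeparated pX]
    (hg : g ≫ pX = U.ι ≫ pullback.fst (pP k) m ≫ pP k) (hN : (N : Set M).Nonempty)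
    (t t' : ↥(U : Scheme.{u})) (htt : (U.ι ≫ pullback.snd (pP k) m) t = (U.ι ≫ pullback.snd (pP k) m) t')
    (hne : g t ≠ g t') :
    ∃ δ : Spec (CommRingCat.of k) ⟶ pullback (U.ι ≫ pullback.snd (pP k) m) (U.ι ≫ pullback.snd (pP k) m),
      δ ≫ pullback.fst _ _ ≫ U.ι ≫ pullback.fst (pP k) m ≫ pP k = 𝟙 _ ∧
      (δ ≫ pullback.fst _ _ ≫ U.ι ≫ pullback.snd (pP k) m) (IsLocalRing.closedPoint k) ∈ N ∧
      δ ≫ pullback.fst _ _ ≫ g ≠ δ ≫ pullback.snd _ _ ≫ g := by
  let toM : (U : Scheme.{u}) ⟶ M := U.ι ≫ pullback.snd (pP k) m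
  have hUne : (U : Set ↥(pullback (pP k) m)).Nonempty := ⟨t.1, t.2⟩
  have hD : IsIntegral (pullback toM toM) := isIntegral_double hUne
  have hgm : g ≫ pX = toM ≫ m := by
    rw [hg, pullback.condition]
    exact (Category.assoc _ _ _).symm
  obtain ⟨O', hO'⟩ := exists_open_ne (pX := pX) (pullback.fst toM toM ≫ g) (pullback.snd toM toM ≫ g) (by
    rw [Category.assoc, Category.assoc, hgm, pullback.condition_assoc])
  obtain ⟨δ₀, h1, h2⟩ := Scheme.Pullback.exists_preimage_pullback (f := toM) (g := toM) t t' htt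
  have hδ₀ : δ₀ ∈ O' := by
    obtain ⟨K, _, r, hr⟩ := exists_field_point _ δ₀
    rw [← hr]
    refine (hO' K r).2 fun h => hne ?_
    have h4 := congrArg (fun z => z (IsLocalRing.closedPoint K)) h
    simp only [Scheme.Hom.comp_apply] at h4
    rw [hr, h1, h2] at h4
    exact h4
  obtain ⟨u, huU, huN⟩ := exists_mem_over hUne hN
  have hmeet := nonempty_preirreducible_inter O'.isOpen ((pullback.fst toM toM ≫ toM) ⁻¹ᵁ N).isOpen ⟨δ₀, hδ₀⟩
    ⟨(pullback.lift (f := toM) (g := toM) (𝟙 (U : Scheme.{u})) (𝟙 (U : Scheme.{u})) rfl) (⟨u, huU⟩ : U), by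
      change (pullback.fst toM toM ≫ toM) _ ∈ N
      rw [← Scheme.Hom.comp_apply, pullback.lift_fst_assoc, Category.id_comp]
      exact huN⟩
  have hlf : LocallyOfFiniteType (pullback.fst toM toM ≫ U.ι ≫ pullback.fst (pP k) m ≫ pP k) := by
    have h0 : LocallyOfFiniteType toM := inferInstance
    infer_instance
  obtain ⟨δ, hδ1, hδ2, hδ3⟩ := exists_kpoint (pullback.fst toM toM ≫ U.ι ≫ pullback.fst (pP k) m ≫ pP k)
    (O'.isOpen.inter ((pullback.fst toM toM ≫ toM) ⁻¹ᵁ N).isOpen).isLocallyClosed hmeet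
  refine ⟨δ, hδ1, ?_, ?_⟩
  · have h3 : (pullback.fst toM toM ≫ toM) (δ (IsLocalRing.closedPoint k)) ∈ N := hδ3
    rw [← Scheme.Hom.comp_apply] at h3
    exact h3
  · exact (hO' k δ).1 hδ2

/-- A nonconstant member. -/
theorem exists_nonconst [IsAlgClosed k] [IsIntegral M] [LocallyOfFiniteType m] [IsSeparated pX]
    (hg : g ≫ pX = U.ι ≫ pullback.fst (pP k) m ≫ pP k) (hN : (N : Set M).Nonempty)
    (he : e ≫ pX = pullback.fst _ _ ≫ pP k)
    (hext : ∀ (T : Scheme.{u}) (a : T ⟶ pullback (pP k) (N.ι ≫ m)) (a' : T ⟶ U),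
          a ≫ prodMap N.ι m = a' ≫ U.ι → a ≫ e = a' ≫ g)
    (t t' : ↥(U : Scheme.{u})) (htt : (U.ι ≫ pullback.snd (pP k) m) t = (U.ι ≫ pullback.snd (pP k) m) t')
    (hne : g t ≠ g t') :
    ∃ N' : (N : Scheme.{u}).Opens, (N' : Set N).Nonempty ∧ ∀ (n : Spec (CommRingCat.of k) ⟶ N),
      n ≫ N.ι ≫ m = 𝟙 _ → n (IsLocalRing.closedPoint k) ∈ N' →
        ∀ (i : P1 k ⟶ pullback (pP k) (N.ι ≫ m)), i ≫ pullback.fst _ _ = 𝟙 _ →
          i ≫ pullback.snd _ _ = pP k ≫ n → ¬ ∃ x : X, Set.range (i ≫ e) ⊆ {x} := by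
  obtain ⟨δ, h1, h2, h3⟩ := exists_point_double (N := N) hg hN t t' htt hne
  obtain ⟨n, hn⟩ := exists_lift_open (N := N) _ h2
  have hn1 : n ≫ N.ι ≫ m = 𝟙 _ := by
    rw [reassoc_of% hn, ← pullback.condition]
    exact h1
  obtain ⟨i, hi₁, hi₂⟩ := exists_fibre (N := N) n hn1
  have h4 := comp_fibre hext n i hi₁ hi₂ (δ ≫ pullback.fst _ _) (by rw [hn, Category.assoc]) (by
    simp only [Category.assoc]
    exact h1)
  have h6 : (δ ≫ pullback.snd _ _) ≫ U.ι ≫ pullback.snd (pP k) m = n ≫ N.ι := by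
    rw [hn, Category.assoc, ← pullback.condition]
  have h5 := comp_fibre hext n i hi₁ hi₂ (δ ≫ pullback.snd _ _) h6 (by
    rw [← hn1, ← reassoc_of% h6, ← pullback.condition]
    simp only [Category.assoc])
  obtain ⟨N', hN', hN''⟩ := exists_open_nonconst e he n hn1 i hi₁ hi₂ (fun hc => h3 (by
    have h7 := eq_of_const (i ≫ e) (by rw [Category.assoc, he, reassoc_of% hi₁]) hc
      ((δ ≫ pullback.fst _ _) ≫ U.ι ≫ pullback.fst (pP k) m)
      ((δ ≫ pullback.snd _ _) ≫ U.ι ≫ pullback.fst (pP k) m) (by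
        simp only [Category.assoc]
        exact h1) (by
        rw [← hn1, ← reassoc_of% h6, ← pullback.condition]
        simp only [Category.assoc])
    rw [h4, h5, Category.assoc, Category.assoc] at h7
    exact h7))
  exact ⟨N', ⟨_, hN'⟩, hN''⟩

end general

end K921.DoubFam
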