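import Groth.Agent.OmegaSh.K583.BaseChange
import Groth.Agent.OmegaSh.K583.ExistsUniv
import Groth.Agent.MorSch.K921.DerLoc
import Mathlib.RingTheory.DualNumber

/-!
# The derivation of a first order deformation

`k` a commutative ring, `T = Spec k[ε]`, `P` a `k`-scheme, `P_T = P ×_k T` with projections `pr`, `q` and zero section
`i₀ : P ⟶ P_T`.

* `partial P : O_{P_T} → i₀_* O_P`, the `P`-derivation "coefficient of `ε`";
* `decomp`: `b = pr^# (i₀^# b) + ε pr^# (∂ b)` for `b ∈ Γ(P_T, pr⁻¹ W)`, `W` affine;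
* `defDer h : O_X → f_* O_P` for `h : P_T ⟶ X` over `k` with `i₀ ≫ h = f`;
* `eval_eps`: the value of `h` at a `k[ε]`-point `(τ, id)` of `P_T`.
-/

set_option autoImplicit false
universe u

open CategoryTheory CategoryTheory.Limits AlgebraicGeometry TopologicalSpace Opposite OmegaSh

namespace K921.EpsDer

open Groth.Agent.Fdesc.LocGen K583.DerAffine K583.DerFunct K583.AlgUniv

section pushout

theorem exists_decomp {R A B C : CommRingCat.{u}} {φ : R ⟶ A} {ψ : R ⟶ B} {a : A ⟶ C} {b : B ⟶ C}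
    (h : IsPushout φ ψ a b) (ε : B) (hB : ∀ y : B, ∃ r s : R, y = ψ.hom r + ψ.hom s * ε) (c : C) :
    ∃ x y : A, c = a.hom x + b.hom ε * a.hom y := by
  let _ := φ.hom.toAlgebra
  let _ := ψ.hom.toAlgebra
  let _ := a.hom.toAlgebra
  let _ := b.hom.toAlgebra
  let _ := (φ ≫ a).hom.toAlgebra
  have : IsScalarTower R A C := IsScalarTower.of_algebraMap_eq' rfl
  have : IsScalarTower R B C := IsScalarTower.of_algebraMap_eq' (by
    change (φ ≫ a).hom = (ψ ≫ b).hom
    rw [h.w])
  have : Algebra.IsPushout R A B C := by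
    rw [← CommRingCat.isPushout_iff_isPushout]
    exact h
  have hbc := (inferInstance : Algebra.IsPushout R A B C).out
  refine hbc.inductionOn c (fun c => ∃ x y : A, c = a.hom x + b.hom ε * a.hom y) ?_ ?_ ?_ ?_
  · exact ⟨0, 0, by simp⟩
  · intro y
    obtain ⟨r, s, hrs⟩ := hB y
    refine ⟨φ.hom r, φ.hom s, ?_⟩
    change b.hom y = _
    have h1 : ∀ t : R, b.hom (ψ.hom t) = a.hom (φ.hom t) := fun t => congr($(h.w.symm).hom t)
    rw [hrs, map_add, map_mul, h1, h1, mul_comm (b.hom ε)]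
  · rintro s n ⟨x, y, rfl⟩
    refine ⟨s * x, s * y, ?_⟩
    change a.hom s * _ = _
    rw [map_mul, map_mul]
    ring
  · rintro _ _ ⟨x, y, rfl⟩ ⟨x', y', rfl⟩
    refine ⟨x + x', y + y', ?_⟩
    rw [map_add, map_add]
    ring

end pushout

variable (k : Type u) [CommRing k]

/-- `Spec k[ε]`. -/
noncomputable abbrev T : Scheme.{u} := Spec (CommRingCat.of (DualNumber k))

/-- `Spec k[ε] ⟶ Spec k`. -/
noncomputable abbrev tT : T k ⟶ Spec (CommRingCat.of k) :=
  Spec.map (CommRingCat.ofHom (algebraMap k (DualNumber k)))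

/-- `Spec k ⟶ Spec k[ε]`. -/
noncomputable abbrev pt : Spec (CommRingCat.of k) ⟶ T k :=
  Spec.map (CommRingCat.ofHom (TrivSqZeroExt.fstHom k k k : DualNumber k →ₐ[k] k).toRingHom)

@[reassoc]
theorem pt_tT : pt k ≫ tT k = 𝟙 _ := by
  rw [pt, tT, ← Spec.map_comp, ← CommRingCat.ofHom_comp]
  have : (TrivSqZeroExt.fstHom k k k : DualNumber k →ₐ[k] k).toRingHom.comp
    (algebraMap k (DualNumber k)) = RingHom.id k := by
    ext x
    rfl
  rw [this]
  exact Spec.map_id _

instance surjective_pt : Surjective (pt k) := by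
  refine ⟨fun x => ?_⟩
  have hs : Function.Surjective ((TrivSqZeroExt.fstHom k k k : DualNumber k →ₐ[k] k).toRingHom) :=
    fun a => ⟨TrivSqZeroExt.inl a, rfl⟩
  have h1 := range_comap_of_surjective k
    ((TrivSqZeroExt.fstHom k k k : DualNumber k →ₐ[k] k).toRingHom) hs
  have h2 : x ∈ Set.range (PrimeSpectrum.comap ((TrivSqZeroExt.fstHom k k k : DualNumber k →ₐ[k] k).toRingHom)) := by
    rw [h1]
    intro a ha
    have ha' : a.fst = 0 := ha
    have h3 : a * a = 0 := by
      ext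
      · simp [ha']
      · simp [ha']
    have hx : (PrimeSpectrum.asIdeal x).IsPrime := PrimeSpectrum.isPrime x
    have h4 : a * a ∈ PrimeSpectrum.asIdeal x := by rw [h3]; exact Ideal.zero_mem _
    exact (hx.mem_or_mem h4).elim id id
  exact h2

variable {k}
variable {P : Scheme.{u}} (pP : P ⟶ Spec (CommRingCat.of k))

/-- `P_T`. -/
noncomputable abbrev PT : Scheme.{u} := pullback pP (tT k)

/-- The projection to `P`. -/
noncomputable abbrev pr : PT pP ⟶ P := pullback.fst pP (tT k)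

/-- The projection to `T`. -/
noncomputable abbrev qT : PT pP ⟶ T k := pullback.snd pP (tT k)

/-- The zero section. -/
noncomputable def i0 : P ⟶ PT pP :=
  pullback.lift (𝟙 P) (pP ≫ pt k) (by rw [Category.id_comp, Category.assoc, pt_tT, Category.comp_id])

@[reassoc (attr := simp)] theorem i0_pr : i0 pP ≫ pr pP = 𝟙 P := pullback.lift_fst _ _ _

@[reassoc (attr := simp)] theorem i0_qT : i0 pP ≫ qT pP = pP ≫ pt k := pullback.lift_snd _ _ _

theorem isPullback_i0 : IsPullback (i0 pP) pP (qT pP) (pt k) := by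
  have h1 : IsPullback (qT pP) (pr pP) (tT k) pP := (IsPullback.of_hasPullback pP (tT k)).flip
  refine (IsPullback.of_right (h₁₂ := pr pP) (h₂₂ := tT k) (v₁₃ := pP) (h₁₁ := i0 pP) (h₂₁ := pt k)
    (v₁₁ := pP) (v₁₂ := qT pP) ?_ (i0_qT pP) h1.flip)
  rw [i0_pr, pt_tT]
  exact IsPullback.of_horiz_isIso ⟨by simp⟩

instance surjective_i0 : Surjective (i0 pP) :=
  MorphismProperty.of_isPullback (isPullback_i0 pP).flip inferInstance

/-- Constants: `k → Γ(P, ⊤)`. -/
noncomputable def cst : k →+* Γ(P, ⊤) :=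
  pP.appTop.hom.comp (Scheme.ΓSpecIso (CommRingCat.of k)).inv.hom

/-- `Γ(Spec k[ε], ⊤) → k[ε]`. -/
noncomputable def toDual : Γ(T k, ⊤) →+* DualNumber k :=
  (Scheme.ΓSpecIso (CommRingCat.of (DualNumber k))).hom.hom

/-- The derivation of `O_T` with values in the functions of `P`. -/
noncomputable def epsFun : Γ(T k, ⊤) →+ Γ(P, ⊤) where
  toFun x := cst pP (TrivSqZeroExt.snd (toDual x))
  map_zero' := by
    rw [map_zero, TrivSqZeroExt.snd_zero, map_zero]
  map_add' x y := by
    rw [map_add, TrivSqZeroExt.snd_add, map_add]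

theorem pt_appTop (x : Γ(T k, ⊤)) : (pt k).appTop x = (Scheme.ΓSpecIso (CommRingCat.of k)).inv
    (TrivSqZeroExt.fst (toDual x)) := by
  have h4 := Scheme.ΓSpecIso_inv_naturality
    (CommRingCat.ofHom (TrivSqZeroExt.fstHom k k k : DualNumber k →ₐ[k] k).toRingHom)
  have h5 := congr($(h4).hom ((Scheme.ΓSpecIso (CommRingCat.of (DualNumber k))).hom x))
  refine Eq.trans ?_ h5.symm
  change _ = (pt k).appTop ((Scheme.ΓSpecIso (CommRingCat.of (DualNumber k))).inv
    ((Scheme.ΓSpecIso (CommRingCat.of (DualNumber k))).hom x))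
  congr 1
  exact congr($((Scheme.ΓSpecIso (CommRingCat.of (DualNumber k))).hom_inv_id).hom x).symm

theorem pP_pt_appTop (x : Γ(T k, ⊤)) :
    (pP ≫ pt k).appTop x = cst pP (TrivSqZeroExt.fst (toDual x)) := by
  change pP.appTop ((pt k).appTop x) = _
  rw [pt_appTop]
  rfl

theorem tT_appTop (c : Γ(Spec (CommRingCat.of k), ⊤)) :
    (Scheme.ΓSpecIso (CommRingCat.of (DualNumber k))).hom ((tT k).appTop c) =
      algebraMap k (DualNumber k) ((Scheme.ΓSpecIso (CommRingCat.of k)).hom c) := by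
  have h4 := Scheme.ΓSpecIso_naturality (CommRingCat.ofHom (algebraMap k (DualNumber k)))
  exact congr($(h4).hom c)

theorem exists_derT : ∃ D : Der (tT k) ((Scheme.Modules.pushforward (i0 pP ≫ qT pP)).obj
    (Coh.structureModule P)), ∀ x : Γ(T k, ⊤), (show Γ(P, ⊤) from D.app ⊤ x) = epsFun pP x := by
  obtain ⟨D, hD⟩ := exists_der (tT k) ((Scheme.Modules.pushforward (i0 pP ≫ qT pP)).obj
    (Coh.structureModule P)) (show Γ(T k, ⊤) →+ Γ((Scheme.Modules.pushforward (i0 pP ≫ qT pP)).obj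
    (Coh.structureModule P), ⊤) from epsFun pP) (fun a b => by
      change epsFun pP (a * b) = (i0 pP ≫ qT pP).appTop a * epsFun pP b +
        (i0 pP ≫ qT pP).appTop b * epsFun pP a
      rw [i0_qT]
      change cst pP (TrivSqZeroExt.snd (toDual (a * b))) =
        (pP ≫ pt k).appTop a * cst pP (TrivSqZeroExt.snd (toDual b)) +
        (pP ≫ pt k).appTop b * cst pP (TrivSqZeroExt.snd (toDual a))
      rw [pP_pt_appTop, pP_pt_appTop, map_mul, TrivSqZeroExt.snd_mul, map_add]
      change cst pP (_ * _) + cst pP (_ * _) = _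
      rw [map_mul, map_mul, MulOpposite.unop_op]
      rw [mul_comm (cst pP (TrivSqZeroExt.snd (toDual a)))]) (fun c => by
      change cst pP (TrivSqZeroExt.snd (toDual ((tT k).appTop c))) = 0
      rw [show toDual ((tT k).appTop c) = _ from tT_appTop c]
      change cst pP (0 : k) = 0
      rw [map_zero])
  exact ⟨D, fun x => congr($hD x)⟩

theorem exists_partial : ∃ D : Der (pr pP) ((Scheme.Modules.pushforward (i0 pP)).obj
    (Coh.structureModule P)), ∀ x : Γ(T k, ⊤),
      (show Γ(P, ⊤) from D.app ⊤ ((qT pP).appTop x)) = epsFun pP x := by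
  obtain ⟨DT, hDT⟩ := exists_derT pP
  obtain ⟨Ω, d, hd⟩ := K583.ExistsUniv.exists_isUniversal (tT k)
  obtain ⟨Ω', d', hd'⟩ := K583.ExistsUniv.exists_isUniversal (pr pP)
  have hsq : IsPullback (qT pP) (pr pP) (tT k) pP := (IsPullback.of_hasPullback pP (tT k)).flip
  have w : pr pP ≫ pP = qT pP ≫ tT k := hsq.w.symm
  have hc := isDiffCompat_diffMap w hd d'
  have hiso : IsIso (diffMap w hd d') := K583.BaseChange.isIso_of_isPullback hsq hd hd' hc
  let F : (PT pP).Modules := (Scheme.Modules.pushforward (i0 pP)).obj (Coh.structureModule P)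
  let t : Ω ⟶ (Scheme.Modules.pushforward (qT pP)).obj F := univLift hd DT
  refine ⟨d'.postcomp (inv (diffMap w hd d') ≫ adj (qT pP) t).val, fun x => ?_⟩
  change (show Γ(P, ⊤) from (inv (diffMap w hd d') ≫ adj (qT pP) t).app ⊤
    (d'.app ⊤ ((qT pP).appTop x))) = _
  have h1 : (inv (diffMap w hd d')).app ⊤ (d'.app ⊤ ((qT pP).appTop x)) =
      pullSect (qT pP) Ω ⊤ (d.app ⊤ x) := by
    have h2 := hc ⊤ x
    change _ = d'.app ⊤ ((qT pP).appTop x) at h2
    rw [← h2]
    exact congr(Scheme.Modules.Hom.app $(IsIso.hom_inv_id (diffMap w hd d')) ⊤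
      (pullSect (qT pP) Ω ⊤ (d.app ⊤ x)))
  have h3 : (adj (qT pP) t).app ⊤ (pullSect (qT pP) Ω ⊤ (d.app ⊤ x)) =
      (show Γ(F, ⊤) from t.app ⊤ (d.app ⊤ x)) := adj_pullSect (qT pP) t ⊤ (d.app ⊤ x)
  refine ((congrArg ((adj (qT pP) t).app ⊤) h1).trans h3).trans ?_
  exact (univLift_app hd DT ⊤ x).trans (hDT x)

end K921.EpsDer
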