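import Groth.Agent.MorSch.K921.P1Pts
import Groth.Agent.Ega1.ReducedSub
import Mathlib.AlgebraicGeometry.Morphisms.Separated

/-!
# Nonconstant members of a family of morphisms from the projective line

`k` a field, `X` separated over `k`.
* `exists_factor`: a rational point in the image of a closed immersion (or any point in the image of a surjective closed
  immersion) factors;
* `exists_red`: the reduction of an irreducible scheme;
* `exists_ne`, `eq_of_const`: `g : P^1 ⟶ X` is constant if and only if it has the same value at all rational points (`k` infinite);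
* `exists_open_nonconst`: the rational points `m` of `M` with `e(-, m)` not constant form (the points of) an open subset.
-/

set_option autoImplicit false
universe u

open CategoryTheory CategoryTheory.Limits AlgebraicGeometry TopologicalSpace Opposite

namespace K921.NonConst

open K921.P1Ideal K921.P1Pts K921.PtIdeal K921.TanExt

theorem exists_factor_field {K : Type u} [Field K] {E M : Scheme.{u}} (j : E ⟶ M) [IsClosedImmersion j]
    (m : Spec (CommRingCat.of K) ⟶ M) (h : m (IsLocalRing.closedPoint K) ∈ Set.range j) :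
    ∃ m' : Spec (CommRingCat.of K) ⟶ E, m' ≫ j = m := by
  have h1 : Surjective (pullback.fst m j) := by
    refine ⟨fun x => ?_⟩
    have hx : x = IsLocalRing.closedPoint K := Subsingleton.elim (α := PrimeSpectrum K) _ _
    subst hx
    obtain ⟨y, hy⟩ := h
    obtain ⟨w, hw, -⟩ := Scheme.Pullback.exists_preimage_pullback (f := m) (g := j) _ y hy.symm
    exact ⟨w, hw⟩
  have : IsIso (pullback.fst m j) := isIso_of_isClosedImmersion_of_surjective _
  exact ⟨inv (pullback.fst m j) ≫ pullback.snd m j, by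
    rw [Category.assoc, ← pullback.condition, IsIso.inv_hom_id_assoc]⟩

theorem exists_red (M : Scheme.{u}) [IrreducibleSpace M] :
    ∃ (Z : Scheme.{u}) (r : Z ⟶ M), IsIntegral Z ∧ IsClosedImmersion r ∧ Surjective r := by
  let Z := (Scheme.IdealSheafData.vanishingIdeal (⊤ : Closeds M)).subscheme
  let r : Z ⟶ M := (Scheme.IdealSheafData.vanishingIdeal (⊤ : Closeds M)).subschemeι
  have hr : IsClosedImmersion r := inferInstance
  have hs : Surjective r := by
    refine ⟨fun x => ?_⟩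
    have h : Set.range r = Set.univ := by
      rw [Scheme.IdealSheafData.range_subschemeι]
      exact Scheme.IdealSheafData.coe_support_vanishingIdeal _
    have hx : x ∈ Set.range r := by
      rw [h]
      trivial
    exact hx
  have hred : IsReduced Z := Groth.Agent.Ega1.ReducedSub.isReduced_subscheme_vanishingIdeal _
  have hh : IsHomeomorph r := (isHomeomorph_iff_continuous_isClosedMap_bijective).2
    ⟨r.continuous, r.isClosedEmbedding.isClosedMap, r.isClosedEmbedding.injective, r.surjective⟩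
  have hirr : IrreducibleSpace Z := by
    rw [irreducibleSpace_def]
    have h1 := (IrreducibleSpace.isIrreducible_univ M).image hh.homeomorph.symm
      hh.homeomorph.symm.continuous.continuousOn
    rwa [Set.image_univ, hh.homeomorph.symm.surjective.range_eq] at h1
  exact ⟨Z, r, isIntegral_of_irreducibleSpace_of_isReduced _, hr, hs⟩

variable {k : Type u} [Field k] {X : Scheme.{u}} {pX : X ⟶ Spec (CommRingCat.of k)}

theorem isClosed_pt [IsSeparated pX] (x : Spec (CommRingCat.of k) ⟶ X) (hx : x ≫ pX = 𝟙 _) :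
    IsClosed ({x (IsLocalRing.closedPoint k)} : Set X) := by
  have h1 : IsClosedImmersion (x ≫ pX) := by
    rw [hx]
    infer_instance
  have h2 : IsClosedImmersion x := IsClosedImmersion.of_comp x pX
  have h3 : Set.range x = {x (IsLocalRing.closedPoint k)} := by
    ext y
    constructor
    · rintro ⟨a, rfl⟩
      have ha : a = IsLocalRing.closedPoint k := Subsingleton.elim (α := PrimeSpectrum k) _ _
      rw [ha]
      rfl
    · rintro rfl
      exact ⟨_, rfl⟩
  rw [← h3]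
  exact x.isClosedEmbedding.isClosed_range

/-- The locus where two morphisms to a separated scheme differ. -/
theorem exists_open_ne [IsSeparated pX] {M : Scheme.{u}} (a b : M ⟶ X) (h : a ≫ pX = b ≫ pX) :
    ∃ U : M.Opens, ∀ (K : Type u) [Field K] (m : Spec (CommRingCat.of K) ⟶ M),
      m (IsLocalRing.closedPoint K) ∈ U ↔ m ≫ a ≠ m ≫ b := by
  let a' : Over.mk (a ≫ pX) ⟶ Over.mk pX := Over.homMk a rfl
  let b' : Over.mk (a ≫ pX) ⟶ Over.mk pX := Over.homMk b h.symm
  have hs : IsSeparated (Over.mk pX).hom := inferInstanceAs (IsSeparated pX)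
  have hc : IsClosedImmersion (equalizer.ι a' b').left := isClosedImmersion_equalizer_ι_left a' b'
  let j : (equalizer a' b').left ⟶ M := (equalizer.ι a' b').left
  have hj : j ≫ a = j ≫ b := congrArg (fun z => z.left) (equalizer.condition a' b')
  have hcj : IsClosedImmersion j := hc
  refine ⟨⟨(Set.range j)ᶜ, j.isClosedEmbedding.isClosed_range.isOpen_compl⟩, fun K _ m => ?_⟩
  have h1 : m (IsLocalRing.closedPoint K) ∈ Set.range j ↔ m ≫ a = m ≫ b := by
    constructor
    · intro hm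
      obtain ⟨m', rfl⟩ := exists_factor_field j m hm
      rw [Category.assoc, Category.assoc, hj]
    · intro hm
      let m₁ : Over.mk (m ≫ a ≫ pX) ⟶ Over.mk (a ≫ pX) := Over.homMk m rfl
      have h2 : m₁ ≫ a' = m₁ ≫ b' := by
        ext1
        exact hm
      have h3 : (equalizer.lift m₁ h2).left ≫ j = m :=
        congrArg (fun z => z.left) (equalizer.lift_ι m₁ h2)
      rw [← h3]
      exact ⟨(equalizer.lift m₁ h2).left (IsLocalRing.closedPoint K), (Scheme.Hom.comp_apply _ _ _).symm⟩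
  rw [ne_eq, ← h1]
  rfl

theorem exists_ne [Infinite k] [IsSeparated pX] (g : P1 k ⟶ X) (hg : g ≫ pX = pP k)
    (h : ¬ ∃ x : X, Set.range g ⊆ {x}) :
    ∃ t₁ t₂ : Spec (CommRingCat.of k) ⟶ P1 k, t₁ ≫ pP k = 𝟙 _ ∧ t₂ ≫ pP k = 𝟙 _ ∧ t₁ ≫ g ≠ t₂ ≫ g := by
  obtain ⟨t₁, h1, -⟩ := exists_point_mem (k := k) ⊤ ⟨Classical.arbitrary _, trivial⟩
  have hcl := isClosed_pt (pX := pX) (t₁ ≫ g) (by rw [Category.assoc, hg, h1])
  let W : (P1 k).Opens := g ⁻¹ᵁ ⟨{(t₁ ≫ g) (IsLocalRing.closedPoint k)}ᶜ, hcl.isOpen_compl⟩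
  have hW : (W : Set (P1 k)).Nonempty := by
    by_contra hW
    rw [Set.not_nonempty_iff_eq_empty] at hW
    refine h ⟨(t₁ ≫ g) (IsLocalRing.closedPoint k), ?_⟩
    rintro _ ⟨x, rfl⟩
    by_contra hx
    have : x ∈ (W : Set (P1 k)) := hx
    rw [hW] at this
    exact this
  obtain ⟨t₂, h2, h3⟩ := exists_point_mem W hW
  refine ⟨t₁, t₂, h1, h2, fun h4 => ?_⟩
  have h5 : (t₂ ≫ g) (IsLocalRing.closedPoint k) ≠ (t₁ ≫ g) (IsLocalRing.closedPoint k) := h3
  exact h5 (by rw [h4])

theorem eq_of_const (g : P1 k ⟶ X) (hg : g ≫ pX = pP k) (h : ∃ x : X, Set.range g ⊆ {x})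
    (t₁ t₂ : Spec (CommRingCat.of k) ⟶ P1 k) (h₁ : t₁ ≫ pP k = 𝟙 _) (h₂ : t₂ ≫ pP k = 𝟙 _) :
    t₁ ≫ g = t₂ ≫ g := by
  obtain ⟨x, hx⟩ := h
  refine point_ext pX _ _ (by rw [Category.assoc, hg, h₁]) (by rw [Category.assoc, hg, h₂]) ?_
  rw [Scheme.Hom.comp_apply, Scheme.Hom.comp_apply]
  exact (hx ⟨_, rfl⟩ : g _ = x).trans (hx ⟨_, rfl⟩ : g _ = x).symm

/-- The restriction of a family over `P^1 × M` to the constant section `t`. -/
noncomputable def secM {M : Scheme.{u}} (qM : M ⟶ Spec (CommRingCat.of k)) (t : Spec (CommRingCat.of k) ⟶ P1 k)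
    (ht : t ≫ pP k = 𝟙 _) : M ⟶ pullback (pP k) qM :=
  pullback.lift (qM ≫ t) (𝟙 M) (by rw [Category.assoc, ht, Category.comp_id, Category.id_comp])

theorem secM_comp {M : Scheme.{u}} (qM : M ⟶ Spec (CommRingCat.of k)) (t : Spec (CommRingCat.of k) ⟶ P1 k)
    (ht : t ≫ pP k = 𝟙 _) (m : Spec (CommRingCat.of k) ⟶ M) (hm : m ≫ qM = 𝟙 _)
    (i : P1 k ⟶ pullback (pP k) qM) (hi₁ : i ≫ pullback.fst (pP k) qM = 𝟙 _)
    (hi₂ : i ≫ pullback.snd (pP k) qM = pP k ≫ m) : m ≫ secM qM t ht = t ≫ i := by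
  apply pullback.hom_ext
  · rw [Category.assoc, Category.assoc, hi₁, secM, pullback.lift_fst, reassoc_of% hm, Category.comp_id]
  · rw [Category.assoc, Category.assoc, hi₂, secM, pullback.lift_snd, Category.comp_id, reassoc_of% ht]

/-- The locus of nonconstant members. -/
theorem exists_open_nonconst [Infinite k] [IsSeparated pX] {M : Scheme.{u}} {qM : M ⟶ Spec (CommRingCat.of k)}
    (e : pullback (pP k) qM ⟶ X) (he : e ≫ pX = pullback.fst (pP k) qM ≫ pP k)
    (m₀ : Spec (CommRingCat.of k) ⟶ M) (hm₀ : m₀ ≫ qM = 𝟙 _)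
    (i₀ : P1 k ⟶ pullback (pP k) qM) (hi₀₁ : i₀ ≫ pullback.fst (pP k) qM = 𝟙 _)
    (hi₀₂ : i₀ ≫ pullback.snd (pP k) qM = pP k ≫ m₀) (hnc₀ : ¬ ∃ x : X, Set.range (i₀ ≫ e) ⊆ {x}) :
    ∃ U : M.Opens, m₀ (IsLocalRing.closedPoint k) ∈ U ∧ ∀ (m : Spec (CommRingCat.of k) ⟶ M), m ≫ qM = 𝟙 _ →
      m (IsLocalRing.closedPoint k) ∈ U →
        ∀ (i : P1 k ⟶ pullback (pP k) qM), i ≫ pullback.fst (pP k) qM = 𝟙 _ →
          i ≫ pullback.snd (pP k) qM = pP k ≫ m → ¬ ∃ x : X, Set.range (i ≫ e) ⊆ {x} := by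
  have h0 : ∀ (i : P1 k ⟶ pullback (pP k) qM), i ≫ pullback.fst (pP k) qM = 𝟙 _ → (i ≫ e) ≫ pX = pP k := by
    intro i hi
    rw [Category.assoc, he, reassoc_of% hi]
  obtain ⟨t₁, t₂, h₁, h₂, h12⟩ := exists_ne (i₀ ≫ e) (h0 i₀ hi₀₁) hnc₀
  obtain ⟨U, hU⟩ := exists_open_ne (pX := pX) (secM qM t₁ h₁ ≫ e) (secM qM t₂ h₂ ≫ e) (by
    rw [Category.assoc, Category.assoc, he]
    rw [secM, pullback.lift_fst_assoc, secM, pullback.lift_fst_assoc, Category.assoc, Category.assoc, h₁, h₂])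
  refine ⟨U, ?_, ?_⟩
  · rw [hU k m₀, ← Category.assoc, ← Category.assoc, secM_comp qM t₁ h₁ m₀ hm₀ i₀ hi₀₁ hi₀₂,
      secM_comp qM t₂ h₂ m₀ hm₀ i₀ hi₀₁ hi₀₂, Category.assoc, Category.assoc]
    exact h12
  · intro m hm hmU i hi₁ hi₂ hc
    rw [hU k m, ← Category.assoc, ← Category.assoc, secM_comp qM t₁ h₁ m hm i hi₁ hi₂,
      secM_comp qM t₂ h₂ m hm i hi₁ hi₂, Category.assoc, Category.assoc] at hmU
    exact hmU (eq_of_const (i ≫ e) (h0 i hi₁) hc t₁ t₂ h₁ h₂)

end K921.NonConst
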