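import Groth.Agent.Flat2E.GenericFibre
import Groth.Agent.S4440
import Groth.Agent.S1535
import Groth.Agent.IntTh.K711.ProjDim
import Groth.Agent.MorSch.K921.P1Pts
import Groth.Agent.MorSch.K921.NonConst

/-!
# Extending a rational family of rational curves over an open subset of the parameter space

`k` a perfect field, `M` a variety over `k`, `X` proper over `k`, `g : V ⟶ X` a morphism on a nonempty open subset `V` of
`P^1 × M`. There is a nonempty open subset `N` of `M`, smooth over `k`, such that `g` extends to `P^1 × N`.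
-/

set_option autoImplicit false
universe u

open CategoryTheory CategoryTheory.Limits AlgebraicGeometry TopologicalSpace Opposite

namespace K921.ExtFam

open K921.P1Ideal K921.P1Pts

theorem ringKrullDim_stalk_le (X : Scheme.{u}) (x : X) :
    ringKrullDim (X.presheaf.stalk x) ≤ topologicalKrullDim X := by
  obtain ⟨V, hV, hx, -⟩ := exists_isAffineOpen_mem_and_subset (X := X) (x := x) (U := ⊤) trivial
  let := TopCat.Presheaf.algebra_section_stalk X.presheaf (⟨x, hx⟩ : V)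
  have hloc : IsLocalization.AtPrime (X.presheaf.stalk x) (hV.primeIdealOf ⟨x, hx⟩).asIdeal :=
    hV.isLocalization_stalk ⟨x, hx⟩
  rw [IsLocalization.AtPrime.ringKrullDim_eq_height (hV.primeIdealOf ⟨x, hx⟩).asIdeal]
  refine (Ideal.height_le_ringKrullDim_of_ne_top (hV.primeIdealOf ⟨x, hx⟩).2.ne_top).trans ?_
  have h : topologicalKrullDim (V : Set X) = ringKrullDim Γ(X, V) := by
    rw [← PrimeSpectrum.topologicalKrullDim_eq_ringKrullDim]
    change _ = topologicalKrullDim (Spec Γ(X, V))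
    exact IsHomeomorph.topologicalKrullDim_eq _ hV.isoSpec.hom.homeomorph.isHomeomorph
  rw [← h]
  exact topologicalKrullDim_subspace_le _ _

variable {k : Type u} [Field k]

theorem topologicalKrullDim_fibre {K : Type u} [Field K] (g : Spec (CommRingCat.of K) ⟶ Spec (CommRingCat.of k))
    (Z : Scheme.{u}) (a : Z ⟶ P1 k) (b : Z ⟶ Spec (CommRingCat.of K)) (h : IsPullback a b (pP k) g) :
    topologicalKrullDim Z = 1 := by
  obtain ⟨φ, rfl⟩ := Spec.map_surjective g
  have h1 := Groth.Agent.CohqB.ProjBC.isPullback_pmap φ.hom 1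
  have e := h.isoIsPullback _ _ h1
  have h2 : topologicalKrullDim Z = topologicalKrullDim (CohB1.ProjSpace 1 K) :=
    IsHomeomorph.topologicalKrullDim_eq _ e.hom.homeomorph.isHomeomorph
  rw [h2]
  exact K711.ProjDim.topologicalKrullDim_projSpace 1 K

/-- The local rings of `P^1 × N` at the points over the generic point of `N` have dimension at most one. -/
theorem ringKrullDim_le_one {N : Scheme.{u}} [IsIntegral N] (q : N ⟶ Spec (CommRingCat.of k))
    (z : ↥(pullback (pP k) q)) (hz : pullback.snd (pP k) q z = genericPoint N) :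
    ringKrullDim ((pullback (pP k) q).presheaf.stalk z) ≤ 1 := by
  let g := N.fromSpecResidueField (genericPoint N)
  have hg : Flat g := Groth.Agent.Flat2E.GenericFibre.flat_fromSpecResidueField_genericPoint N
  let j := pullback.fst (pullback.snd (pP k) q) g
  have hj : Flat j := inferInstanceAs (Flat (pullback.fst _ _))
  have hj' : Mono j := inferInstanceAs (Mono (pullback.fst _ _))
  have h1 : pullback.snd (pP k) q z ∈ Set.range g := by
    rw [Scheme.range_fromSpecResidueField]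
    exact hz
  obtain ⟨y, hy⟩ := h1
  obtain ⟨w, hw, -⟩ := Scheme.Pullback.exists_preimage_pullback (f := pullback.snd (pP k) q) (g := g) z y hy.symm
  have hw' : j w = z := hw
  have hiso := Groth.Agent.Flat2E.GenericFibre.isIso_stalkMap_of_flat_mono j w
  have h2 : ringKrullDim ((pullback (pP k) q).presheaf.stalk z) =
      ringKrullDim ((pullback (pullback.snd (pP k) q) g).presheaf.stalk w) := by
    subst hw'
    exact RingEquiv.ringKrullDim (asIso (j.stalkMap w)).commRingCatIsoToRingEquiv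
  rw [h2]
  refine (ringKrullDim_stalk_le _ w).trans (le_of_eq ?_)
  have h3 : IsPullback (j ≫ pullback.fst (pP k) q) (pullback.snd (pullback.snd (pP k) q) g) (pP k) (g ≫ q) :=
    (IsPullback.of_hasPullback (pullback.snd (pP k) q) g).paste_horiz (IsPullback.of_hasPullback (pP k) q)
  exact topologicalKrullDim_fibre (K := N.residueField (genericPoint N)) (g ≫ q) _ _ _ h3

/-- Schemes smooth over a field are regular. -/
theorem isRegularLocalRing_stalk {Y : Scheme.{u}} (p : Y ⟶ Spec (CommRingCat.of k)) [Smooth p] (y : Y) :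
    IsRegularLocalRing (Y.presheaf.stalk y) := by
  let _ : Y.Over (Spec (CommRingCat.of k)) := ⟨p⟩
  have : Smooth (Y ↘ (Spec (CommRingCat.of k))) := ‹Smooth p›
  exact Groth.Agent.S1535.result k Y y

/-- A variety over a perfect field contains a nonempty open subscheme smooth over the field. -/
theorem exists_smooth_open [PerfectField k] {M : Scheme.{u}} [IsIntegral M] (m : M ⟶ Spec (CommRingCat.of k))
    [LocallyOfFiniteType m] : ∃ N : M.Opens, (N : Set M).Nonempty ∧ Smooth (N.ι ≫ m) := by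
  refine ⟨m.smoothLocus, ⟨genericPoint M, m.genericPoint_mem_smoothLocus_of_perfectField⟩, ?_⟩
  rw [← Scheme.Hom.smoothLocus_eq_top_iff, ← Scheme.Hom.preimage_smoothLocus_eq]
  simp

/-- `P^1 × N ⟶ P^1 × M` for `j : N ⟶ M`. -/
noncomputable def prodMap {N M : Scheme.{u}} (j : N ⟶ M) (m : M ⟶ Spec (CommRingCat.of k)) :
    pullback (pP k) (j ≫ m) ⟶ pullback (pP k) m :=
  pullback.lift (pullback.fst _ _) (pullback.snd _ _ ≫ j) (by rw [pullback.condition, Category.assoc])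

@[reassoc]
theorem prodMap_fst {N M : Scheme.{u}} (j : N ⟶ M) (m : M ⟶ Spec (CommRingCat.of k)) :
    prodMap j m ≫ pullback.fst (pP k) m = pullback.fst (pP k) (j ≫ m) := pullback.lift_fst _ _ _

@[reassoc]
theorem prodMap_snd {N M : Scheme.{u}} (j : N ⟶ M) (m : M ⟶ Spec (CommRingCat.of k)) :
    prodMap j m ≫ pullback.snd (pP k) m = pullback.snd (pP k) (j ≫ m) ≫ j := pullback.lift_snd _ _ _

theorem isPullback_prodMap {N M : Scheme.{u}} (j : N ⟶ M) (m : M ⟶ Spec (CommRingCat.of k)) :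
    IsPullback (prodMap j m) (pullback.snd (pP k) (j ≫ m)) (pullback.snd (pP k) m) j := by
  refine IsPullback.of_right (h₁₂ := pullback.fst (pP k) m) (h₂₂ := m) (v₁₃ := pP k) ?_ (prodMap_snd j m)
    (IsPullback.of_hasPullback _ _)
  rw [prodMap_fst]
  exact IsPullback.of_hasPullback _ _

instance {N M : Scheme.{u}} (j : N ⟶ M) [IsOpenImmersion j] (m : M ⟶ Spec (CommRingCat.of k)) :
    IsOpenImmersion (prodMap j m) :=
  MorphismProperty.of_isPullback (isPullback_prodMap j m).flip inferInstance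

/-- Gluing bookkeeping: `g'` on `U'` extends `g` on `b₁⁻¹ U`; pulled back along `l : P' ⟶ U'`. -/
theorem restrict_extend {P P₁ X T : Scheme.{u}} (b₁ : P₁ ⟶ P) (U : P.Opens) (U' : P₁.Opens)
    (hVU : b₁ ⁻¹ᵁ U ≤ U') (g : (U : Scheme.{u}) ⟶ X) (g' : (U' : Scheme.{u}) ⟶ X)
    (h : P₁.homOfLE hVU ≫ g' = (b₁ ∣_ U) ≫ g) (l : T ⟶ U') (a' : T ⟶ U)
    (ha : (l ≫ U'.ι) ≫ b₁ = a' ≫ U.ι) : l ≫ g' = a' ≫ g := by
  let r : T ⟶ (b₁ ⁻¹ᵁ U : P₁.Opens) := (isPullback_morphismRestrict b₁ U).lift a' (l ≫ U'.ι) ha.symm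
  have h1 : r ≫ (b₁ ∣_ U) = a' := IsPullback.lift_fst _ _ _ _
  have h2 : r ≫ (b₁ ⁻¹ᵁ U).ι = l ≫ U'.ι := IsPullback.lift_snd _ _ _ _
  have h3 : r ≫ P₁.homOfLE hVU = l := by
    rw [← cancel_mono U'.ι, Category.assoc, Scheme.homOfLE_ι, h2]
  rw [← h3, Category.assoc, h, reassoc_of% h1]

theorem exists_family [PerfectField k] {M : Scheme.{u}} [IsIntegral M] (m : M ⟶ Spec (CommRingCat.of k))
    [LocallyOfFiniteType m] {X : Scheme.{u}} {pX : X ⟶ Spec (CommRingCat.of k)} [IsProper pX]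
    (U : (pullback (pP k) m).Opens) (hU : (U : Set ↥(pullback (pP k) m)).Nonempty) (g : (U : Scheme.{u}) ⟶ X)
    (hg : g ≫ pX = U.ι ≫ pullback.fst (pP k) m ≫ pP k) :
    ∃ N : M.Opens, (N : Set M).Nonempty ∧ Smooth (N.ι ≫ m) ∧ ∃ e : pullback (pP k) (N.ι ≫ m) ⟶ X,
      e ≫ pX = pullback.fst _ _ ≫ pP k ∧
        ∀ (T : Scheme.{u}) (a : T ⟶ pullback (pP k) (N.ι ≫ m)) (a' : T ⟶ U),
          a ≫ prodMap N.ι m = a' ≫ U.ι → a ≫ e = a' ≫ g := by
  obtain ⟨N₁, hN₁, hsm⟩ := exists_smooth_open m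
  have hne : Nonempty (N₁ : Scheme.{u}) := ⟨⟨_, hN₁.choose_spec⟩⟩
  have hI₁ : IsIntegral (N₁ : Scheme.{u}) := inferInstance
  have hP := isIntegral_prod m
  have hP₁ := isIntegral_prod (N₁.ι ≫ m)
  let b₁ := prodMap N₁.ι m
  let V₁ := b₁ ⁻¹ᵁ U
  have hV₁ : (V₁ : Set ↥(pullback (pP k) (N₁.ι ≫ m))).Nonempty := by
    obtain ⟨x, hxU, ⟨y, rfl⟩⟩ := nonempty_preirreducible_inter U.isOpen b₁.opensRange.isOpen hU
      ⟨b₁ (Classical.arbitrary _), Set.mem_range_self _⟩
    exact ⟨y, hxU⟩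
  have hg₁ : ((b₁ ∣_ U) ≫ g) ≫ pX = V₁.ι ≫ pullback.fst (pP k) (N₁.ι ≫ m) ≫ pP k := by
    rw [Category.assoc, hg, morphismRestrict_ι_assoc, prodMap_fst_assoc]
  have hst : Smooth (pullback.fst (pP k) (N₁.ι ≫ m) ≫ pP k) := inferInstance
  have hNP : IsLocallyNoetherian (pullback (pP k) (N₁.ι ≫ m)) :=
    LocallyOfFiniteType.isLocallyNoetherian (pullback.fst (pP k) (N₁.ι ≫ m) ≫ pP k)
  obtain ⟨U', hVU, g', hg', hext, hall⟩ := Groth.Agent.S4440.result pX
    (pullback.fst (pP k) (N₁.ι ≫ m) ≫ pP k)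
    (fun y _ => isRegularLocalRing_stalk (pullback.fst (pP k) (N₁.ι ≫ m) ≫ pP k) y) V₁
    (V₁.isOpen.dense hV₁) ((b₁ ∣_ U) ≫ g) hg₁
  let C : Set N₁ := pullback.snd (pP k) (N₁.ι ≫ m) '' (U' : Set _)ᶜ
  have hC : IsClosed C := (pullback.snd (pP k) (N₁.ι ≫ m)).isClosedMap _ U'.isOpen.isClosed_compl
  have hη : genericPoint (N₁ : Scheme.{u}) ∉ C := by
    rintro ⟨z, hz, hz'⟩
    exact hz (hall z (ringKrullDim_le_one _ z hz'))
  let N₂ : (N₁ : Scheme.{u}).Opens := ⟨Cᶜ, hC.isOpen_compl⟩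
  let N : M.Opens := N₁.ι ''ᵁ N₂
  have hN : N ≤ N₁ := N₁.ι_image_le N₂
  let c : (N : Scheme.{u}) ⟶ N₁ := M.homOfLE hN
  have hc : c ≫ N₁.ι = N.ι := M.homOfLE_ι hN
  have hcN : ∀ x, c x ∈ N₂ := by
    intro x
    have h1 : N₁.ι (c x) ∈ N := by
      rw [← Scheme.Hom.comp_apply, hc]
      exact x.2
    obtain ⟨y, hy, hy'⟩ := h1
    have h2 : y = c x := N₁.ι.isOpenEmbedding.injective hy'
    rw [← h2]
    exact hy
  have hq : N.ι ≫ m = c ≫ N₁.ι ≫ m := by rw [← hc, Category.assoc]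
  let c' : pullback (pP k) (N.ι ≫ m) ⟶ pullback (pP k) (N₁.ι ≫ m) :=
    pullback.lift (pullback.fst _ _) (pullback.snd _ _ ≫ c) (by
      rw [pullback.condition, Category.assoc, hq])
  have hc1 : c' ≫ pullback.fst (pP k) (N₁.ι ≫ m) = pullback.fst (pP k) (N.ι ≫ m) := pullback.lift_fst _ _ _
  have hc2 : c' ≫ pullback.snd (pP k) (N₁.ι ≫ m) = pullback.snd (pP k) (N.ι ≫ m) ≫ c := pullback.lift_snd _ _ _
  have hcb : c' ≫ b₁ = prodMap N.ι m := by
    apply pullback.hom_ext
    · rw [Category.assoc, prodMap_fst, prodMap_fst, hc1]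
    · rw [Category.assoc, prodMap_snd, prodMap_snd, reassoc_of% hc2, hc]
  have hr : Set.range c' ⊆ Set.range U'.ι := by
    rw [Scheme.Opens.range_ι]
    rintro _ ⟨x, rfl⟩
    by_contra hx
    refine hcN (pullback.snd (pP k) (N.ι ≫ m) x) ⟨c' x, hx, ?_⟩
    rw [← Scheme.Hom.comp_apply, hc2, Scheme.Hom.comp_apply]
  let l := IsOpenImmersion.lift U'.ι c' hr
  have hl : l ≫ U'.ι = c' := IsOpenImmersion.lift_fac _ _ _
  refine ⟨N, ?_, ?_, l ≫ g', ?_, ?_⟩
  · exact ⟨N₁.ι (genericPoint (N₁ : Scheme.{u})), _, hη, rfl⟩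
  · rw [hq]
    have : IsOpenImmersion c := inferInstance
    infer_instance
  · rw [Category.assoc, hg', reassoc_of% hl, reassoc_of% hc1]
  · intro T a a' ha
    have h1 := restrict_extend b₁ U U' hVU g g' hext (a ≫ l) a' (by
      rw [Category.assoc, Category.assoc, reassoc_of% hl, hcb, ha])
    rw [← h1, Category.assoc]

end K921.ExtFam
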