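import Groth.Agent.MorSch.K921.FamFree
import Groth.Agent.MorSch.K921.NonConst
import Groth.Agent.Variety.K427.GenSmoothZero

/-!
# General members of a dominant family of rational curves in characteristic zero are free
-/

set_option autoImplicit false
universe u

open CategoryTheory CategoryTheory.Limits AlgebraicGeometry TopologicalSpace Opposite

namespace K921.FamGen

open K921.P1Ideal K921.P1Pts K921.NonConst

variable {k : Type u} [Field k] {X : Scheme.{u}} {pX : X ⟶ Spec (CommRingCat.of k)}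

/-- If `e : P^1 × M ⟶ X` is smooth at some point of `P^1 × {m}`, then `e(-, m)` is free. -/
theorem isFree_of_mem [Infinite k] [Smooth pX] [IsSeparated pX] {M : Scheme.{u}} {qM : M ⟶ Spec (CommRingCat.of k)}
    (m : Spec (CommRingCat.of k) ⟶ M)
    (e : pullback (pP k) qM ⟶ X) (he : e ≫ pX = pullback.fst (pP k) qM ≫ pP k)
    (U : (pullback (pP k) qM).Opens) [Smooth (U.ι ≫ e)]
    (hU : ∃ u ∈ U, (pullback.snd (pP k) qM) u = m (IsLocalRing.closedPoint k))
    (i : P1 k ⟶ pullback (pP k) qM) (hi₁ : i ≫ pullback.fst (pP k) qM = 𝟙 _)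
    (hi₂ : i ≫ pullback.snd (pP k) qM = pP k ≫ m) (hm : m ≫ qM = 𝟙 _) : MorSch.IsFree pX (i ≫ e) := by
  have hpb : IsPullback i (pP k) (pullback.snd (pP k) qM) m := by
    have h1 : IsPullback (pullback.fst (pP k) qM) (pullback.snd (pP k) qM) (pP k) qM := IsPullback.of_hasPullback _ _
    refine IsPullback.of_right (h₁₂ := pullback.fst (pP k) qM) (h₂₂ := qM) (v₁₃ := pP k) ?_ hi₂ h1.flip.flip
    rw [hi₁, hm]
    exact IsPullback.of_horiz_isIso ⟨by simp⟩
  obtain ⟨u, huU, hu⟩ := hU
  obtain ⟨w, hw, -⟩ := Scheme.Pullback.exists_preimage_pullback (f := pullback.snd (pP k) qM) (g := m) u _ hu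
  have h2 : i (hpb.isoPullback.inv w) = u := by
    rw [← Scheme.Hom.comp_apply, IsPullback.isoPullback_inv_fst, hw]
  obtain ⟨t, ht, htW⟩ := exists_point_mem (i ⁻¹ᵁ U) ⟨hpb.isoPullback.inv w, by
    change i (hpb.isoPullback.inv w) ∈ U
    rw [h2]
    exact huU⟩
  exact FamFree.isFree_of_smooth (i ≫ e) (by rw [Category.assoc, he, reassoc_of% hi₁]) m e he i hi₁ hi₂ rfl t ht U
    (by
      rw [Scheme.Hom.comp_apply]
      exact htW)

/-- General members of a dominant family of rational curves in characteristic zero are free. -/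
theorem exists_open_isFree [CharZero k] [Smooth pX] [IsSeparated pX] [IsIntegral X] {M : Scheme.{u}}
    [IrreducibleSpace M] {qM : M ⟶ Spec (CommRingCat.of k)} [LocallyOfFiniteType qM]
    (e : pullback (pP k) qM ⟶ X) (he : e ≫ pX = pullback.fst (pP k) qM ≫ pP k) [IsDominant e] :
    ∃ U : M.Opens, (U : Set M).Nonempty ∧ ∀ (m : Spec (CommRingCat.of k) ⟶ M), m ≫ qM = 𝟙 _ →
      m (IsLocalRing.closedPoint k) ∈ U →
        ∀ (i : P1 k ⟶ pullback (pP k) qM), i ≫ pullback.fst (pP k) qM = 𝟙 _ →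
          i ≫ pullback.snd (pP k) qM = pP k ≫ m → MorSch.IsFree pX (i ≫ e) := by
  have : Infinite k := Infinite.of_injective ((↑) : ℕ → k) Nat.cast_injective
  obtain ⟨Z, r, hZ, hr, hs⟩ := exists_red M
  have hlft : LocallyOfFiniteType (r ≫ qM) := inferInstance
  have hI := isIntegral_prod (r ≫ qM)
  let b : pullback (pP k) (r ≫ qM) ⟶ pullback (pP k) qM :=
    pullback.lift (pullback.fst _ _) (pullback.snd _ _ ≫ r) (by rw [pullback.condition, Category.assoc])
  have hb1 : b ≫ pullback.fst (pP k) qM = pullback.fst (pP k) (r ≫ qM) := pullback.lift_fst _ _ _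
  have hb2 : b ≫ pullback.snd (pP k) qM = pullback.snd (pP k) (r ≫ qM) ≫ r := pullback.lift_snd _ _ _
  have hb : IsPullback b (pullback.snd (pP k) (r ≫ qM)) (pullback.snd (pP k) qM) r := by
    refine IsPullback.of_right (h₁₂ := pullback.fst (pP k) qM) (h₂₂ := qM) (v₁₃ := pP k) ?_ hb2
      (IsPullback.of_hasPullback _ _)
    rw [hb1]
    exact IsPullback.of_hasPullback _ _
  have hbs : Surjective b := MorphismProperty.of_isPullback hb.flip hs
  have he' : (b ≫ e) ≫ pX = pullback.fst (pP k) (r ≫ qM) ≫ pP k := by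
    rw [Category.assoc, he, reassoc_of% hb1]
  have hdom : DenseRange (b ≫ e) := by
    have h1 : DenseRange e := e.denseRange
    have h2 : Function.Surjective b := b.surjective
    have h3 := h1.comp h2.denseRange e.continuous
    convert h3
    ext x
    exact Scheme.Hom.comp_apply _ _ _
  obtain ⟨U, hU, hUs⟩ := K427.GenSmooth.exists_open_smooth_of_dominant k
    (pullback.fst (pP k) (r ≫ qM) ≫ pP k) pX (b ≫ e) he' hdom
  have hop : IsOpenMap (pullback.snd (pP k) (r ≫ qM)) := (pullback.snd (pP k) (r ≫ qM)).isOpenMap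
  have hh : IsHomeomorph r := (isHomeomorph_iff_continuous_isClosedMap_bijective).2
    ⟨r.continuous, r.isClosedEmbedding.isClosedMap, r.isClosedEmbedding.injective, r.surjective⟩
  let U' : M.Opens := ⟨r '' (pullback.snd (pP k) (r ≫ qM) '' U), hh.isOpenMap _ (hop _ U.isOpen)⟩
  refine ⟨U', ?_, ?_⟩
  · obtain ⟨x, hx⟩ := hU
    exact ⟨_, _, ⟨x, hx, rfl⟩, rfl⟩
  · intro m hm hmU i hi₁ hi₂
    obtain ⟨m', rfl⟩ := exists_factor_field r m (r.surjective _)
    obtain ⟨_, ⟨u, huU, rfl⟩, hu⟩ := hmU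
    let i' : P1 k ⟶ pullback (pP k) (r ≫ qM) := pullback.lift (𝟙 _) (pP k ≫ m') (by
      rw [Category.id_comp, Category.assoc]
      rw [Category.assoc] at hm
      rw [hm, Category.comp_id])
    have h1 : i' ≫ b = i := by
      apply pullback.hom_ext
      · rw [Category.assoc, hb1, hi₁]
        exact pullback.lift_fst _ _ _
      · rw [Category.assoc, hb2, hi₂, pullback.lift_snd_assoc, Category.assoc]
    have h2 := isFree_of_mem m' (b ≫ e) he' U ⟨u, huU, by
      rw [Scheme.Hom.comp_apply] at hu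
      exact r.isClosedEmbedding.injective hu⟩ i' (pullback.lift_fst _ _ _) (pullback.lift_snd _ _ _)
      (by rw [← Category.assoc]; exact hm)
    rw [← Category.assoc, h1] at h2
    exact h2

end K921.FamGen
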