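import Groth.Agent.MorSch.K921.TanLift
import Groth.Agent.MorSch.K921.TanExt

/-!
# First order deformations with a fixed point and very free curves

`X` smooth and separated over the field `k`, `f : P^1_k ⟶ X` over `k`, `t ≠ s` rational points of `P^1`.

* `eq_of_basicOpen`: point derivations on a basic open subset are determined by their restrictions;
* `exists_vf_two`: global vector fields on `P^1` with prescribed values at two rational points;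
* `isVeryFree_of_lift` (D2): if every tangent vector `v : Spec k[ε] ⟶ X` of `X` at `f(t)` is `(τ, id) ≫ h` for a deformation
  `h : P^1_{k[ε]} ⟶ X` of `f` and a tangent vector `τ` of `P^1` at `t`, with `(σ, id) ≫ h` constant for a tangent
  vector `σ` at `s`, then `f` is very free.
-/

set_option autoImplicit false
universe u

open CategoryTheory CategoryTheory.Limits AlgebraicGeometry TopologicalSpace Opposite OmegaSh

namespace K921.TanLift2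

open Groth.Agent Groth.Agent.Fdesc.LocGen Groth.Agent.VarietyB K583.DerAffine K583.DerFunct K583.AlgUniv
open K921.DerLoc K921.FreeGen K921.FreeMor K921.P1Ideal K921.PtIdeal K921.P1Tan K921.VectField RefHull
open K921.EpsDer K921.DefDer K921.TanVec K921.TanLift

variable {k : Type u} [Field k]

/-- Point derivations on a basic open are determined by their restrictions. -/
theorem eq_of_basicOpen {Y S : Scheme.{u}} {pY : Y ⟶ S} {W W' : Y.Opens} (hW : IsAffineOpen W)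
    (s : Spec (CommRingCat.of k) ⟶ Y) (hWW : W' ≤ W) (e' : ⊤ ≤ s ⁻¹ᵁ W') (g : Γ(Y, W)) (hg : W' = Y.basicOpen g)
    {δ δ' : Γ(Y, W') →+ k} (hδ : IsPtDer pY (evPt s e') δ) (hδ' : IsPtDer pY (evPt s e') δ')
    (h : ∀ a : Γ(Y, W), δ (ores hWW a) = δ' (ores hWW a)) : δ = δ' := by
  subst hg
  ext b
  have hl := hW.isLocalization_basicOpen g
  obtain ⟨⟨c, ⟨_, n, rfl⟩⟩, hc⟩ := IsLocalization.surj (Submonoid.powers g) b
  have hc' : b * ores hWW (g ^ n) = ores hWW c := hc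
  have e : ⊤ ≤ s ⁻¹ᵁ W := e'.trans (s.preimage_mono hWW)
  have h0 : evPt s e' (ores hWW (g ^ n)) ≠ 0 := by
    rw [evPt_ores s hWW e e', map_pow]
    refine pow_ne_zero _ ?_
    rw [← K921.TanExt.mem_basicOpen_iff s e g]
    exact e' (show IsLocalRing.closedPoint k ∈ (⊤ : (Spec (CommRingCat.of k)).Opens) from trivial)
  have h1 := hδ.leibniz b (ores hWW (g ^ n))
  have h2 := hδ'.leibniz b (ores hWW (g ^ n))
  rw [hc'] at h1 h2
  have h3 := h (g ^ n)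
  have h4 := h c
  rw [h1, h2, h3] at h4
  exact mul_left_cancel₀ h0 (add_left_cancel h4)

/-- The value of a vector field at a rational point. -/
noncomputable def vfAt {Y S : Scheme.{u}} {pY : Y ⟶ S} (θ : Der pY (Coh.structureModule Y))
    (s : Spec (CommRingCat.of k) ⟶ Y) {W : Y.Opens} (e : ⊤ ≤ s ⁻¹ᵁ W) : Γ(Y, W) →+ k where
  toFun b := evPt s e (fnSect _ _ (θ.app W b))
  map_zero' := by rw [map_zero, map_zero, map_zero]
  map_add' a b := by rw [map_add, map_add, map_add]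

theorem isPtDer_vfAt {Y S : Scheme.{u}} {pY : Y ⟶ S} (θ : Der pY (Coh.structureModule Y))
    (s : Spec (CommRingCat.of k) ⟶ Y) {W : Y.Opens} (e : ⊤ ≤ s ⁻¹ᵁ W) : IsPtDer pY (evPt s e) (vfAt θ s e) where
  leibniz a b := by
    change evPt s e (fnSect _ _ (θ.app W (a * b))) = _
    rw [app_mul, map_add, map_add]
    have h1 : ∀ (r : Γ(Y, W)) (x : Γ(Coh.structureModule Y, W)), fnSect Y W (r • x) = r * fnSect Y W x :=
      fun r x => rfl
    rw [h1, h1, map_mul, map_mul]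
    rfl
  zero c := by
    change evPt s e (fnSect _ _ (θ.app W _)) = 0
    rw [app_appLE, map_zero, map_zero]

theorem vfAt_ores {Y S : Scheme.{u}} {pY : Y ⟶ S} (θ : Der pY (Coh.structureModule Y))
    (s : Spec (CommRingCat.of k) ⟶ Y) {W W' : Y.Opens} (hW : W' ≤ W) (e : ⊤ ≤ s ⁻¹ᵁ W) (e' : ⊤ ≤ s ⁻¹ᵁ W')
    (a : Γ(Y, W)) : vfAt θ s e' (ores hW a) = vfAt θ s e a := by
  change evPt s e' (fnSect _ _ (θ.app W' (Y.presheaf.map (homOfLE hW).op a))) = evPt s e (fnSect _ _ (θ.app W a))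
  rw [app_map]
  exact evPt_ores s hW e e' _

theorem tanDer_ores {Y : Scheme.{u}} (τ : T k ⟶ Y) {W W' : Y.Opens} (hW : W' ≤ W) (e : ⊤ ≤ τ ⁻¹ᵁ W)
    (e' : ⊤ ≤ τ ⁻¹ᵁ W') (a : Γ(Y, W)) : tanDer τ e' (ores hW a) = tanDer τ e a := by
  have h1 := τ.map_appLE (U := W') (V := ⊤) (U' := W) e' (homOfLE hW).op
  exact congrArg (fun z => (toDual z).snd) congr($h1 a)

/-- A vector field with the value `τ` on one affine neighbourhood has the value `τ` on all of them. -/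
theorem vfAt_eq_tanDer {Y : Scheme.{u}} {pY : Y ⟶ Spec (CommRingCat.of k)} (θ : Der pY (Coh.structureModule Y))
    (s : Spec (CommRingCat.of k) ⟶ Y) (τ : T k ⟶ Y) (hτ : τ ≫ pY = tT k) (hs : pt k ≫ τ = s)
    {W : Y.Opens} (hW : IsAffineOpen W) (e : ⊤ ≤ s ⁻¹ᵁ W) (eτ : ⊤ ≤ τ ⁻¹ᵁ W)
    (h : ∀ a : Γ(Y, W), vfAt θ s e a = tanDer τ eτ a)
    {W' : Y.Opens} (hW' : IsAffineOpen W') (e' : ⊤ ≤ s ⁻¹ᵁ W') (eτ' : ⊤ ≤ τ ⁻¹ᵁ W') (a : Γ(Y, W')) :
    vfAt θ s e' a = tanDer τ eτ' a := by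
  have hpt : ∀ {B : Y.Opens}, ⊤ ≤ s ⁻¹ᵁ B → s (IsLocalRing.closedPoint k) ∈ B := fun hB =>
    hB (show IsLocalRing.closedPoint k ∈ (⊤ : (Spec (CommRingCat.of k)).Opens) from trivial)
  obtain ⟨g, g', hgg, hg⟩ := exists_basicOpen_le_affine_inter hW hW' (s (IsLocalRing.closedPoint k))
    ⟨hpt e, hpt e'⟩
  have hBW : Y.basicOpen g ≤ W := Y.basicOpen_le g
  have hBW' : Y.basicOpen g ≤ W' := hgg.le.trans (Y.basicOpen_le g')
  have eB : ⊤ ≤ s ⁻¹ᵁ (Y.basicOpen g) := K921.TanLift.top_le_of_mem s hg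
  have eBτ : ⊤ ≤ τ ⁻¹ᵁ (Y.basicOpen g) := K921.TanLift.top_le_of_pt τ (by rw [hs]; exact hg)
  have key : vfAt θ s eB = tanDer τ eBτ :=
    eq_of_basicOpen hW s hBW eB g rfl (isPtDer_vfAt θ s eB) (isPtDer_tan τ eBτ s hs hτ eB) fun a => by
      rw [vfAt_ores θ s hBW e eB, tanDer_ores τ hBW eτ eBτ, h]
  rw [← vfAt_ores θ s hBW' e' eB, ← tanDer_ores τ hBW' eτ' eBτ, key]

theorem exists_add {Y S : Scheme.{u}} {pY : Y ⟶ S} (θ θ' : Der pY (Coh.structureModule Y)) :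
    ∃ η : Der pY (Coh.structureModule Y), ∀ (U : Y.Opens) (a : Γ(Y, U)),
      η.app U a = θ.app U a + θ'.app U a := by
  refine ⟨mkDer pY _ (fun U => θ.app U + θ'.app U) (fun U a b => ?_) (fun U V h a => ?_) (fun V c => ?_),
    fun U a => rfl⟩
  · change θ.app U (a * b) + θ'.app U (a * b) = a • (θ.app U b + θ'.app U b) + b • (θ.app U a + θ'.app U a)
    rw [app_mul, app_mul, smul_add, smul_add]
    abel
  · change θ.app V _ + θ'.app V _ = (Coh.structureModule Y).presheaf.map (homOfLE h).op (θ.app U a + θ'.app U a)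
    rw [app_map, app_map, map_add]
  · change θ.app _ _ + θ'.app _ _ = 0
    rw [app_base, app_base, add_zero]

/-- Vector fields with prescribed values at two rational points. -/
theorem exists_vf_two {W : (P1 k).Opens} (hW : IsAffineOpen W) (t : Spec (CommRingCat.of k) ⟶ P1 k)
    (ht : t ≫ pP k = 𝟙 _) (e : ⊤ ≤ t ⁻¹ᵁ W) (s : Spec (CommRingCat.of k) ⟶ P1 k) (hs : s ≫ pP k = 𝟙 _)
    (hsW : s (IsLocalRing.closedPoint k) ∉ W) (τ σ : T k ⟶ P1 k) (hτ : τ ≫ pP k = tT k) (hτt : pt k ≫ τ = t)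
    (hσ : σ ≫ pP k = tT k) (hσs : pt k ≫ σ = s) :
    ∃ θ : Der (pP k) (Coh.structureModule (P1 k)),
      (∀ (W' : (P1 k).Opens) (_ : IsAffineOpen W') (e' : ⊤ ≤ t ⁻¹ᵁ W') (eτ : ⊤ ≤ τ ⁻¹ᵁ W') (a : Γ(P1 k, W')),
        vfAt θ t e' a = tanDer τ eτ a) ∧
      ∀ (W' : (P1 k).Opens) (_ : IsAffineOpen W') (e' : ⊤ ≤ s ⁻¹ᵁ W') (eσ : ⊤ ≤ σ ⁻¹ᵁ W') (a : Γ(P1 k, W')),
        vfAt θ s e' a = tanDer σ eσ a := by
  obtain ⟨W₁, hW₁, hs₁, -⟩ := exists_isAffineOpen_mem_and_subset (U := ⊤) (x := s (IsLocalRing.closedPoint k)) trivial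
  have e₁ : ⊤ ≤ s ⁻¹ᵁ W₁ := K921.TanLift.top_le_of_mem s hs₁
  have e₁σ : ⊤ ≤ σ ⁻¹ᵁ W₁ := K921.TanLift.top_le_of_pt σ (by rw [hσs]; exact hs₁)
  obtain ⟨θ₀, hθ₀⟩ := exists_vf hW₁ s hs e₁ (isPtDer_tan σ e₁σ s hσs hσ e₁)
  have eτ : ⊤ ≤ τ ⁻¹ᵁ W := K921.TanLift.top_le_of_pt τ (by
    rw [hτt]
    exact e (show IsLocalRing.closedPoint k ∈ (⊤ : (Spec (CommRingCat.of k)).Opens) from trivial))
  have h1 := isPtDer_tan τ eτ t hτt hτ e
  have h2 := isPtDer_vfAt θ₀ t e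
  have hδ : IsPtDer (pP k) (evPt t e) (tanDer τ eτ - vfAt θ₀ t e) :=
    ⟨fun a b => by
      rw [AddMonoidHom.sub_apply, AddMonoidHom.sub_apply, AddMonoidHom.sub_apply, h1.leibniz, h2.leibniz]
      ring, fun c => by rw [AddMonoidHom.sub_apply, h1.zero, h2.zero, sub_zero]⟩
  obtain ⟨θ₁, hθ₁, hθ₁'⟩ := exists_vf_ker hW t ht e hδ s hs hsW
  obtain ⟨θ, hθ⟩ := exists_add θ₀ θ₁
  have hval : ∀ (x : Spec (CommRingCat.of k) ⟶ P1 k) (W' : (P1 k).Opens) (e' : ⊤ ≤ x ⁻¹ᵁ W') (a : Γ(P1 k, W')),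
      vfAt θ x e' a = vfAt θ₀ x e' a + vfAt θ₁ x e' a := by
    intro x W' e' a
    change evPt x e' (fnSect _ _ (θ.app W' a)) = _
    rw [hθ, map_add, map_add]
    rfl
  refine ⟨θ, fun W' hW' e' eτ' a => ?_, fun W' hW' e' eσ a => ?_⟩
  · refine vfAt_eq_tanDer θ t τ hτ hτt hW e eτ (fun b => ?_) hW' e' eτ' a
    rw [hval]
    have h3 : vfAt θ₁ t e b = (tanDer τ eτ - vfAt θ₀ t e) b := hθ₁ b
    rw [h3, AddMonoidHom.sub_apply]
    ring
  · refine vfAt_eq_tanDer θ s σ hσ hσs hW₁ e₁ e₁σ (fun b => ?_) hW' e' eσ a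
    rw [hval]
    have h3 : vfAt θ₁ s e₁ b = 0 := hθ₁' W₁ hW₁ e₁ b
    have h4 : vfAt θ₀ s e₁ b = tanDer σ e₁σ b := hθ₀ b
    rw [h3, h4, add_zero]

theorem tanDer_const {X : Scheme.{u}} (c : Spec (CommRingCat.of k) ⟶ X) {V : X.Opens}
    (e : ⊤ ≤ (tT k ≫ c) ⁻¹ᵁ V) (a : Γ(X, V)) : tanDer (tT k ≫ c) e a = 0 := by
  have ec : ⊤ ≤ c ⁻¹ᵁ V := by
    intro x _
    have h1 : (pt k) x ∈ (⊤ : (T k).Opens) := trivial
    have h2 := e h1
    have h3 : (pt k ≫ tT k ≫ c) x ∈ V := by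
      rw [Scheme.Hom.comp_apply]
      exact h2
    rw [pt_tT_assoc] at h3
    exact h3
  change (toDual ((tT k ≫ c).appLE V ⊤ e a)).snd = 0
  rw [← appLE_comp (tT k) c (V := V) (W := ⊤) (W' := ⊤) ec le_top e a]
  have h3 : (tT k).appLE ⊤ ⊤ le_top (c.appLE V ⊤ ec a) = (tT k).appTop (c.appLE V ⊤ ec a) :=
    congr($(((tT k).app_eq_appLE (U := ⊤)).symm) _)
  rw [h3]
  have h2 : toDual ((tT k).appTop (c.appLE V ⊤ ec a)) = algebraMap k (DualNumber k) _ := tT_appTop _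
  rw [h2]
  rfl

variable {X : Scheme.{u}} {pX : X ⟶ Spec (CommRingCat.of k)}

/-- (D2) -/
theorem isVeryFree_of_lift [Smooth pX] [IsSeparated pX] (f : P1 k ⟶ X) (hf : f ≫ pX = pP k)
    (t : Spec (CommRingCat.of k) ⟶ P1 k) (ht : t ≫ pP k = 𝟙 _)
    (s : Spec (CommRingCat.of k) ⟶ P1 k) (hs : s ≫ pP k = 𝟙 _)
    (hst : s (IsLocalRing.closedPoint k) ≠ t (IsLocalRing.closedPoint k))
    (H : ∀ v : T k ⟶ X, v ≫ pX = tT k → pt k ≫ v = t ≫ f → ∃ (h : PT (pP k) ⟶ X) (τ σ : T k ⟶ P1 k),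
      h ≫ pX = pr (pP k) ≫ pP k ∧ i0 (pP k) ≫ h = f ∧ τ ≫ pP k = tT k ∧ pt k ≫ τ = t ∧
      σ ≫ pP k = tT k ∧ pt k ≫ σ = s ∧ (∀ hh, pullback.lift τ (𝟙 _) hh ≫ h = v) ∧
      (∀ hh, pullback.lift σ (𝟙 _) hh ≫ h = tT k ≫ s ≫ f)) : MorSch.IsVeryFree pX f := by
  have hd : IsUniversal (OmegaSh.dOmega pX) := S5005.result pX
  obtain ⟨e0⟩ := PullDual.nonempty_tensor_pullback_dual f (isFinLocFree_omega pX) (ClSub.idealMod s.ker)
  obtain ⟨e1⟩ := nonempty_idealMod_iso k s hs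
  refine isGG_of_iso (e0.symm ≪≫ PullDual.tensMap (Iso.refl _) e1) ?_
  have hscl : IsClosed ({s (IsLocalRing.closedPoint k)} : Set (P1 k)) := by
    have : IsClosedImmersion s := Picfga.PtEval.isClosedImmersion_of_section hs
    have h3 : Set.range s = {s (IsLocalRing.closedPoint k)} := by
      ext y
      constructor
      · rintro ⟨a, rfl⟩
        have ha : a = IsLocalRing.closedPoint k := Subsingleton.elim (α := PrimeSpectrum k) _ _
        rw [ha]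
        rfl
      · rintro rfl
        exact ⟨_, rfl⟩
    rw [← h3]
    exact s.isClosedEmbedding.isClosed_range
  have hsI : IsClosedImmersion s := Picfga.PtEval.isClosedImmersion_of_section hs
  obtain ⟨V, W, hV, hW, htW, e, hWs⟩ := exists_affines f (t (IsLocalRing.closedPoint k))
    ⟨{s (IsLocalRing.closedPoint k)}ᶜ, hscl.isOpen_compl⟩ (fun h => hst (show _ = _ from h).symm)
  have hsW : s (IsLocalRing.closedPoint k) ∉ W := fun h => hWs h rfl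
  obtain ⟨f1, f2⟩ := OmegaProj.finite_projective_pullback f hd hV hW e
  have et : ⊤ ≤ t ⁻¹ᵁ W := K921.TanLift.top_le_of_mem t htW
  have etf : ⊤ ≤ (t ≫ f) ⁻¹ᵁ V := et.trans (t.preimage_mono e)
  have hXn : IsLocallyNoetherian X := LocallyOfFiniteType.isLocallyNoetherian pX
  have hE : Coh.IsQCoh (homSh ((Scheme.Modules.pullback f).obj (Omega.sheaf pX))
      (ClSub.idealMod s.ker)) := K476.HomSh3.isQCoh_homSh (K476.HomSh3.isFP_of_isCoh
        (FormalB.PullCoh.isCoh_pullback f (CurvesB.OmegaInv.isCoh_omega pX)))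
        (K533.PtTwist.isCoh_aux (isInvertible_ker k s hs)).1
  refine isGloballyGenerated_of_point (p := pX) (f := f) (d := OmegaSh.dOmega pX) e
    (isClosed_of_ne k) (subsingleton_H1 k) hd hV hW hE (lamI s hW hsW) (evPt t et) (t (IsLocalRing.closedPoint k))
    (fun a ha => mem_basicOpen_of_isUnit t et a ha) fun δ hδ => ?_
  have hδ' : IsPtDer pX (evPt (t ≫ f) etf) δ := ⟨fun a b => by
    rw [← evPt_comp t f e et, ← evPt_comp t f e et]
    exact hδ.leibniz a b, hδ.zero⟩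
  obtain ⟨v, ev', hv1, hv2, hv3⟩ := exists_tan hV (t ≫ f) (by rw [Category.assoc, hf, ht]) etf hδ'
  obtain ⟨h, τ, σ, hh1, hh2, hτ1, hτ2, hσ1, hσ2, hhτ, hhσ⟩ := H v hv1 hv2
  obtain ⟨θ, hθt, hθs⟩ := exists_vf_two hW t ht et s hs hsW τ σ hτ1 hτ2 hσ1 hσ2
  obtain ⟨ψ, hψ⟩ := exists_hom hd h hh1.symm θ
  subst hh2
  obtain ⟨ψ', hψ'⟩ := exists_factor hd s.ker ψ (by
    intro V' W' hW' hV' e' a
    by_cases hsW' : s (IsLocalRing.closedPoint k) ∈ W'
    · have es' : ⊤ ≤ s ⁻¹ᵁ W' := K921.TanLift.top_le_of_mem s hsW'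
      have eσ' : ⊤ ≤ σ ⁻¹ᵁ W' := K921.TanLift.top_le_of_pt σ (by rw [hσ2]; exact hsW')
      rw [mem_ideal_iff s hW' es']
      have hsV : (s ≫ i0 (pP k) ≫ h) (IsLocalRing.closedPoint k) ∈ V' := by
        rw [Scheme.Hom.comp_apply]
        exact e' hsW'
      have ec : ⊤ ≤ (tT k ≫ s ≫ i0 (pP k) ≫ h) ⁻¹ᵁ V' := K921.TanLift.top_le_of_pt _ (by
        rw [pt_tT_assoc]
        exact hsV)
      have h1 := hψ V' W' hW' e' σ hσ1 eσ' s hσ2 es' (hθs W' hW' es' eσ') (tT k ≫ s ≫ i0 (pP k) ≫ h) hhσ ec a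
      exact h1.trans (tanDer_const _ _ _)
    · rw [ideal_eq_top s hW' hsW']
      trivial)
  refine ⟨ψ', fun a => ?_⟩
  have h1 := hψ V W hW e τ hτ1 (K921.TanLift.top_le_of_pt τ (by rw [hτ2]; exact htW)) t hτ2 et
    (hθt W hW et _) v hhτ ev' a
  rw [lamI_apply]
  have h2 : Dix.IdealModCartier.val s.ker (ev ψ' (OmegaSh.dOmega pX) e a) =
      fnSect _ _ (ev ψ (OmegaSh.dOmega pX) e a) := by
    rw [← hψ', ev_comp]
    rfl
  rw [h2]
  refine h1.trans ?_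
  change (toDual (v.appLE V ⊤ ev' a)).snd = δ a
  rw [hv3, TrivSqZeroExt.snd_add, TrivSqZeroExt.snd_inl, TrivSqZeroExt.snd_inr, zero_add]

end K921.TanLift2
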