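import Groth.Agent.MorSch.K921.DoubFam
import Groth.Agent.MorSch.K921.TanLift2

/-!
# Members of a family of rational curves through two points where the doubled evaluation is smooth

`M` a variety over `k`, `U` open in `P^1 × M`, `g : U ⟶ X` over `k`, `N` open in `M`, `e : P^1 × N ⟶ X` an extension of `g`.
If the doubled evaluation `U ×_M U ⟶ X × X` is smooth at the rational point `δ` over `n ∈ N`, and the two points `g(δ)` are
different, then `e(-, n)` is very free.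
-/

set_option autoImplicit false
universe u

open CategoryTheory CategoryTheory.Limits AlgebraicGeometry TopologicalSpace Opposite

namespace K921.FamVery

open K921.P1Ideal K921.P1Pts K921.ExtFam K921.NonConst K921.EpsDer K921.DoubFam

variable {k : Type u} [Field k] {M : Scheme.{u}} {m : M ⟶ Spec (CommRingCat.of k)} {X : Scheme.{u}}
  {pX : X ⟶ Spec (CommRingCat.of k)} {U : (pullback (pP k) m).Opens} {g : (U : Scheme.{u}) ⟶ X} {N : M.Opens}
  {e : pullback (pP k) (N.ι ≫ m) ⟶ X}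

theorem isVeryFree_of_fam [Smooth pX] [IsSeparated pX] (hg : g ≫ pX = U.ι ≫ pullback.fst (pP k) m ≫ pP k)
    (he : e ≫ pX = pullback.fst _ _ ≫ pP k)
    (hext : ∀ (T : Scheme.{u}) (a : T ⟶ pullback (pP k) (N.ι ≫ m)) (a' : T ⟶ U),
          a ≫ prodMap N.ι m = a' ≫ U.ι → a ≫ e = a' ≫ g)
    (n : Spec (CommRingCat.of k) ⟶ N) (i : P1 k ⟶ pullback (pP k) (N.ι ≫ m))
    (hi₁ : i ≫ pullback.fst _ _ = 𝟙 _) (hi₂ : i ≫ pullback.snd _ _ = pP k ≫ n)
    (δ : Spec (CommRingCat.of k) ⟶ pullback (U.ι ≫ pullback.snd (pP k) m) (U.ι ≫ pullback.snd (pP k) m))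
    (hδ : δ ≫ pullback.fst _ _ ≫ U.ι ≫ pullback.fst (pP k) m ≫ pP k = 𝟙 _)
    (hδn : n ≫ N.ι = δ ≫ pullback.fst _ _ ≫ U.ι ≫ pullback.snd (pP k) m)
    (ev₂ : pullback (U.ι ≫ pullback.snd (pP k) m) (U.ι ≫ pullback.snd (pP k) m) ⟶ pullback pX pX)
    (hev₁ : ev₂ ≫ pullback.fst pX pX = pullback.fst _ _ ≫ g) (hev₂ : ev₂ ≫ pullback.snd pX pX = pullback.snd _ _ ≫ g)
    (V : (pullback (U.ι ≫ pullback.snd (pP k) m) (U.ι ≫ pullback.snd (pP k) m)).Opens) [Smooth (V.ι ≫ ev₂)]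
    (hV : δ (IsLocalRing.closedPoint k) ∈ V) (hne : δ ≫ pullback.fst _ _ ≫ g ≠ δ ≫ pullback.snd _ _ ≫ g) :
    MorSch.IsVeryFree pX (i ≫ e) := by
  have hf : (i ≫ e) ≫ pX = pP k := by rw [Category.assoc, he, reassoc_of% hi₁]
  have hδ' : (δ ≫ pullback.snd _ _) ≫ U.ι ≫ pullback.snd (pP k) m = n ≫ N.ι := by
    rw [hδn, Category.assoc, ← pullback.condition]
  have hs : ((δ ≫ pullback.fst _ _) ≫ U.ι ≫ pullback.fst (pP k) m) ≫ pP k = 𝟙 _ := by
    simp only [Category.assoc]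
    exact hδ
  have ht : ((δ ≫ pullback.snd _ _) ≫ U.ι ≫ pullback.fst (pP k) m) ≫ pP k = 𝟙 _ := by
    rw [← hs]
    simp only [Category.assoc]
    rw [pullback.condition]
    have h1 := pullback.condition (f := U.ι ≫ pullback.snd (pP k) m) (g := U.ι ≫ pullback.snd (pP k) m)
    simp only [← Category.assoc] at h1 ⊢
    simp only [Category.assoc] at h1 ⊢
    rw [reassoc_of% h1]
  have hse := comp_fibre hext n i hi₁ hi₂ (δ ≫ pullback.fst _ _) (by rw [hδn, Category.assoc]) hs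
  have hte := comp_fibre hext n i hi₁ hi₂ (δ ≫ pullback.snd _ _) hδ' ht
  refine TanLift2.isVeryFree_of_lift (i ≫ e) hf
    ((δ ≫ pullback.snd _ _) ≫ U.ι ≫ pullback.fst (pP k) m) ht
    ((δ ≫ pullback.fst _ _) ≫ U.ι ≫ pullback.fst (pP k) m) hs (fun h => hne ?_) fun v hv hv' => ?_
  · have h1 := point_ext (pP k) _ _ hs ht h
    have h2 := congrArg (fun z => z ≫ i ≫ e) h1
    rw [hse, hte, Category.assoc, Category.assoc] at h2
    exact h2
  · rw [hte] at hv'
    have hsX : (tT k ≫ ((δ ≫ pullback.fst _ _) ≫ U.ι ≫ pullback.fst (pP k) m) ≫ i ≫ e) ≫ pX = tT k := by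
      rw [Category.assoc, Category.assoc, hf, hs, Category.comp_id]
    let v₂ : T k ⟶ pullback pX pX :=
      pullback.lift (tT k ≫ ((δ ≫ pullback.fst _ _) ≫ U.ι ≫ pullback.fst (pP k) m) ≫ i ≫ e) v
        (by rw [hsX, hv])
    have hv1 : v₂ ≫ pullback.fst pX pX =
      tT k ≫ ((δ ≫ pullback.fst _ _) ≫ U.ι ≫ pullback.fst (pP k) m) ≫ i ≫ e := pullback.lift_fst _ _ _
    have hv2 : v₂ ≫ pullback.snd pX pX = v := pullback.lift_snd _ _ _
    obtain ⟨w, hw, hw'⟩ := FamFree.exists_tan_of_smooth ev₂ V δ hV v₂ (by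
      apply pullback.hom_ext
      · rw [Category.assoc, hv1, pt_tT_assoc, hse, Category.assoc, Category.assoc, hev₁]
      · rw [Category.assoc, hv2, hv', Category.assoc, Category.assoc, hev₂])
    obtain ⟨μ, hμ⟩ := exists_lift_open (N := N) (w ≫ pullback.fst _ _ ≫ U.ι ≫ pullback.snd (pP k) m) (by
      obtain ⟨y, hy⟩ := (pt k).surjective (IsLocalRing.closedPoint (DualNumber k))
      rw [← hy, ← Scheme.Hom.comp_apply, reassoc_of% hw', ← hδn, Scheme.Hom.comp_apply]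
      exact (n y).2)
    obtain ⟨a₁, ha₁, ha₁', ha₁e⟩ := exists_lift_fam hext (w ≫ pullback.fst _ _) μ (by rw [hμ, Category.assoc])
    obtain ⟨a₂, ha₂, ha₂', ha₂e⟩ := exists_lift_fam hext (w ≫ pullback.snd _ _) μ (by
      rw [hμ, Category.assoc, ← pullback.condition])
    have ha₁v : a₁ ≫ e = tT k ≫ ((δ ≫ pullback.fst _ _) ≫ U.ι ≫ pullback.fst (pP k) m) ≫ i ≫ e := by
      rw [ha₁e, Category.assoc, ← hev₁, reassoc_of% hw, hv1]
    have ha₂v : a₂ ≫ e = v := by
      rw [ha₂e, Category.assoc, ← hev₂, reassoc_of% hw, hv2]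
    have hσ : (a₁ ≫ pullback.fst _ _) ≫ pP k = tT k := by
      rw [Category.assoc, ← he, reassoc_of% ha₁v, he, reassoc_of% hi₁]
      rw [hδ, Category.comp_id]
    have hτ : (a₂ ≫ pullback.fst _ _) ≫ pP k = tT k := by
      rw [Category.assoc, ← he, reassoc_of% ha₂v, hv]
    have hμT : μ ≫ N.ι ≫ m = tT k := by
      rw [← ha₁', Category.assoc, ← pullback.condition, ← Category.assoc, hσ]
    have hptμ : pt k ≫ μ = n := by
      rw [← cancel_mono N.ι, Category.assoc, hμ, reassoc_of% hw', hδn]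
    let G : PT (pP k) ⟶ pullback (pP k) (N.ι ≫ m) :=
      pullback.lift (pr (pP k)) (qT (pP k) ≫ μ)
        (((pullback.condition (f := pP k) (g := tT k)).trans
          (congrArg (qT (pP k) ≫ ·) hμT.symm)).trans (Category.assoc _ _ _).symm)
    have hG1 : G ≫ pullback.fst _ _ = pr (pP k) := pullback.lift_fst _ _ _
    have hG2 : G ≫ pullback.snd _ _ = qT (pP k) ≫ μ := pullback.lift_snd _ _ _
    have hGa : ∀ (a : T k ⟶ pullback (pP k) (N.ι ≫ m)), a ≫ pullback.snd _ _ = μ →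
        ∀ hh, pullback.lift (a ≫ pullback.fst _ _) (𝟙 _) hh ≫ G = a := by
      intro a ha hh
      apply pullback.hom_ext
      · rw [Category.assoc, hG1]
        exact pullback.lift_fst _ _ _
      · rw [Category.assoc, hG2, ha]
        exact (pullback.lift_snd_assoc _ _ _ _).trans (Category.id_comp _)
    refine ⟨G ≫ e, a₂ ≫ pullback.fst _ _, a₁ ≫ pullback.fst _ _, ?_, ?_, hτ, ?_, hσ, ?_, ?_, ?_⟩
    · rw [Category.assoc, he, reassoc_of% hG1]
    · have h1 : i0 (pP k) ≫ G = i := by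
        apply pullback.hom_ext
        · rw [Category.assoc, hG1, i0_pr, hi₁]
        · rw [Category.assoc, hG2, i0_qT_assoc, hi₂, hptμ]
      rw [← Category.assoc, h1]
    · rw [ha₂, Category.assoc, reassoc_of% hw', Category.assoc]
    · rw [ha₁, Category.assoc, reassoc_of% hw', Category.assoc]
    · intro hh
      rw [← Category.assoc, hGa a₂ ha₂' hh, ha₂v]
    · intro hh
      rw [← Category.assoc, hGa a₁ ha₁' hh, ha₁v]

end K921.FamVery
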