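import Groth.Agent.FormalB.SpanStalk
import Groth.Agent.VarietyB.GGStalk
import Groth.Agent.CurvesC.MVSec
import Groth.Agent.Fdesc.LocGen

/-!
# Global generation from an open set, on a curve with `H^1(O) = 0`

`X` integral, Noetherian, every non-generic point closed, `H^1(X, O_X) = 0`, `E` quasi-coherent.  If the global
sections of `E` generate the stalks at the points of a nonempty open set, then `E` is globally generated
(`isGloballyGenerated_of_open`).
-/

set_option autoImplicit false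
universe u

open CategoryTheory CategoryTheory.Limits AlgebraicGeometry Opposite TopologicalSpace

namespace K921.P1Gen

open Groth.Agent Groth.Agent.Fdesc.LocGen

variable {X : Scheme.{u}}

/-- Gluing of sections over two opens. -/
theorem exists_glue_two (M : X.Modules) {U V : X.Opens} (h : U ⊔ V = ⊤) (s : Γ(M, U)) (t : Γ(M, V))
    (hst : res M (inf_le_left : U ⊓ V ≤ U) s = res M (inf_le_right : U ⊓ V ≤ V) t) :
    ∃ r : Γ(M, ⊤), res M (le_top : U ≤ ⊤) r = s ∧ res M (le_top : V ≤ ⊤) r = t := by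
  let W : Bool → X.Opens := fun b => cond b U V
  let σ : ∀ b, Γ(M, W b) := fun b => match b with
    | true => s
    | false => t
  obtain ⟨r, hr⟩ := res_glue M (V := ⊤) W (fun _ => le_top)
    (by
      rw [← h]
      refine sup_le ?_ ?_
      · exact le_iSup W true
      · exact le_iSup W false) σ (by
      rintro (_ | _) (_ | _)
      · rfl
      · change res M (inf_le_left : V ⊓ U ≤ V) t = res M (inf_le_right : V ⊓ U ≤ U) s
        have h1 := congrArg (res M (le_inf inf_le_right inf_le_left : V ⊓ U ≤ U ⊓ V)) hst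
        rw [res_res, res_res] at h1
        exact h1.symm
      · exact hst
      · rfl)
  exact ⟨r, hr true, hr false⟩

theorem finite_of_isClosed [IsIntegral X] [NoetherianSpace X]
    (hdim : ∀ x : X, x ≠ genericPoint X → IsClosed ({x} : Set X))
    {C : Set X} (hC : IsClosed C) (hne : genericPoint X ∉ C) : C.Finite := by
  obtain ⟨S, hSf, hSc, hSi, rfl⟩ := NoetherianSpace.exists_finite_set_isClosed_irreducible hC
  refine Set.Finite.sUnion hSf fun Z hZ => ?_
  obtain ⟨x, hx⟩ := QuasiSober.sober (hSi Z hZ) (hSc Z hZ)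
  have hxZ : x ∈ Z := hx.mem
  have hxg : x ≠ genericPoint X := by
    rintro rfl
    exact hne (Set.mem_sUnion.mpr ⟨Z, hZ, hxZ⟩)
  have h2 : Z = {x} := by
    have := hx.def
    rw [(hdim x hxg).closure_eq] at this
    exact this.symm
  rw [h2]
  exact Set.finite_singleton x

theorem isClosed_of_subset [IsIntegral X] [NoetherianSpace X]
    (hdim : ∀ x : X, x ≠ genericPoint X → IsClosed ({x} : Set X))
    {V : X.Opens} (hV : (V : Set X).Nonempty) {C : Set X} (hC : C ⊆ (V : Set X)ᶜ) : IsClosed C := by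
  have hg : genericPoint X ∈ V := ((genericPoint_spec X).mem_open_set_iff V.2).2 (by simpa using hV)
  have hfin : C.Finite := (finite_of_isClosed hdim V.2.isClosed_compl (fun h => h hg)).subset hC
  rw [← Set.biUnion_of_singleton C]
  exact hfin.isClosed_biUnion fun x hx => hdim x fun h => hC hx (h ▸ hg)

theorem germ_res' (M : X.Modules) {U V : X.Opens} (h : V ≤ U) (x : X) (hx : x ∈ V) (s : Γ(M, U)) :
    M.presheaf.germ V x hx (res M h s) = M.presheaf.germ U x (h hx) s :=
  TopCat.Presheaf.germ_res_apply M.presheaf (homOfLE h) x hx s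

theorem mem_span_germ [IsIntegral X] [NoetherianSpace X]
    (hdim : ∀ x : X, x ≠ genericPoint X → IsClosed ({x} : Set X))
    (h1 : Subsingleton (Coh.HH X (Coh.structureModule X) 1)) {E : X.Modules} (hE : Coh.IsQCoh E)
    {W₀ : X.Opens} (hne : (W₀ : Set X).Nonempty)
    (h : ∀ x ∈ W₀, Submodule.span (X.presheaf.stalk x)
      (Set.range fun s : Γ(E, ⊤) => E.presheaf.germ ⊤ x trivial s) = ⊤)
    {U₁ : X.Opens} (hU₁ : IsAffineOpen U₁) {x : X} (hx : x ∈ U₁) (s : Γ(E, U₁)) :
    E.presheaf.germ U₁ x hx s ∈ Submodule.span (X.presheaf.stalk x)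
      (Set.range fun s : Γ(E, ⊤) => E.presheaf.germ ⊤ x trivial s) := by
  -- a basic open of `U₁` inside `W₀`
  obtain ⟨y, hyU, hyW⟩ : ((U₁ : Set X) ∩ (W₀ : Set X)).Nonempty :=
    nonempty_preirreducible_inter U₁.2 W₀.2 ⟨x, hx⟩ hne
  obtain ⟨π, hπW, hyπ⟩ := hU₁.exists_basicOpen_le (V := W₀) ⟨y, hyW⟩ hyU
  have hπU : X.basicOpen π ≤ U₁ := X.basicOpen_le π
  have hπne : (X.basicOpen π : Set X).Nonempty := ⟨y, hyπ⟩
  -- the complementary open
  have hC : IsClosed ((U₁ : Set X) \ (X.basicOpen π : Set X)) :=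
    isClosed_of_subset hdim hπne (fun z hz => hz.2)
  let U₂ : X.Opens := ⟨((U₁ : Set X) \ (X.basicOpen π : Set X))ᶜ, hC.isOpen_compl⟩
  have hcov : U₁ ⊔ U₂ = ⊤ := by
    ext z
    simp only [Opens.coe_sup, Opens.coe_top, Set.mem_univ, iff_true]
    by_cases hz : z ∈ (U₁ : Set X)
    · exact Or.inl hz
    · exact Or.inr fun hz' => hz hz'.1
  have hinf : U₁ ⊓ U₂ = X.basicOpen π := by
    ext z
    simp only [Opens.coe_inf]
    constructor
    · rintro ⟨hz1, hz2⟩
      by_contra hz3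
      exact hz2 ⟨hz1, hz3⟩
    · intro hz
      exact ⟨hπU hz, fun hz' => hz'.2 hz⟩
  have haff : IsAffineOpen (U₁ ⊓ U₂) := hinf ▸ hU₁.basicOpen π
  have hleW : U₁ ⊓ U₂ ≤ W₀ := hinf.le.trans hπW
  -- on the overlap `s` is a combination of global sections
  have key : res E (inf_le_left : U₁ ⊓ U₂ ≤ U₁) s ∈
      Submodule.span Γ(X, U₁ ⊓ U₂) (Set.range (res E (le_top : U₁ ⊓ U₂ ≤ ⊤))) := by
    refine FormalB.SpanStalk.mem_of_germ_mem_span haff hE _ _ fun z hz => ?_
    have hz' := h z (hleW hz)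
    have hle : Submodule.span (X.presheaf.stalk z)
        (Set.range fun s : Γ(E, ⊤) => E.presheaf.germ ⊤ z trivial s) ≤
        Submodule.span (X.presheaf.stalk z) ((E.presheaf.germ (U₁ ⊓ U₂) z hz) ''
          (Submodule.span Γ(X, U₁ ⊓ U₂) (Set.range (res E (le_top : U₁ ⊓ U₂ ≤ ⊤))) :
            Set Γ(E, U₁ ⊓ U₂))) := by
      refine Submodule.span_mono ?_
      rintro _ ⟨t, rfl⟩
      exact ⟨res E le_top t, Submodule.subset_span ⟨t, rfl⟩, germ_res' E le_top z hz t⟩
    rw [hz', top_le_iff] at hle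
    rw [hle]
    exact Submodule.mem_top
  obtain ⟨n, a, t, hat⟩ : ∃ (n : ℕ) (a : Fin n → Γ(X, U₁ ⊓ U₂)) (t : Fin n → Γ(E, ⊤)),
      res E (inf_le_left : U₁ ⊓ U₂ ≤ U₁) s = ∑ i, a i • res E (le_top : U₁ ⊓ U₂ ≤ ⊤) (t i) := by
    obtain ⟨n, a, g, hg⟩ := (Submodule.mem_span_set' ).1 key
    refine ⟨n, a, fun i => (g i).2.choose, ?_⟩
    rw [← hg]
    exact Finset.sum_congr rfl fun i _ => by rw [(g i).2.choose_spec]
  -- split the coefficients
  have hspl : ∀ i, ∃ (b : Γ(X, U₁)) (c : Γ(X, U₂)),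
      ores (inf_le_left : U₁ ⊓ U₂ ≤ U₁) b - ores (inf_le_right : U₁ ⊓ U₂ ≤ U₂) c = a i :=
    fun i => CurvesC.MVSec.exists_sub_function h1 hcov (a i)
  choose b c hbc using hspl
  obtain ⟨r, hr₁, hr₂⟩ := exists_glue_two E hcov
    (s - ∑ i, b i • res E (le_top : U₁ ≤ ⊤) (t i)) (-∑ i, c i • res E (le_top : U₂ ≤ ⊤) (t i)) (by
      rw [map_sub, map_neg, map_sum, map_sum, hat, ← Finset.sum_sub_distrib, ← Finset.sum_neg_distrib]
      refine Finset.sum_congr rfl fun i _ => ?_
      rw [res_smul, res_smul, res_res, res_res, ← hbc i, sub_smul]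
      abel)
  have hs : s = res E (le_top : U₁ ≤ ⊤) r + ∑ i, b i • res E (le_top : U₁ ≤ ⊤) (t i) := by
    rw [hr₁]; abel
  rw [hs, map_add, map_sum]
  refine Submodule.add_mem _ ?_ (Submodule.sum_mem _ fun i _ => ?_)
  · rw [germ_res']
    exact Submodule.subset_span ⟨r, rfl⟩
  · rw [Fdesc.QCohStalk.germ_smul', germ_res']
    exact Submodule.smul_mem _ _ (Submodule.subset_span ⟨t i, rfl⟩)

/-- Global generation is detected on a nonempty open subset of a curve with `H^1(O) = 0`. -/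
theorem isGloballyGenerated_of_open [IsIntegral X] [NoetherianSpace X]
    (hdim : ∀ x : X, x ≠ genericPoint X → IsClosed ({x} : Set X))
    (h1 : Subsingleton (Coh.HH X (Coh.structureModule X) 1)) {E : X.Modules} (hE : Coh.IsQCoh E)
    {W₀ : X.Opens} (hne : (W₀ : Set X).Nonempty)
    (h : ∀ x ∈ W₀, Submodule.span (X.presheaf.stalk x)
      (Set.range fun s : Γ(E, ⊤) => E.presheaf.germ ⊤ x trivial s) = ⊤) :
    Curv2.IsGloballyGenerated E := by
  rw [VarietyB.GGStalk.isGloballyGenerated_iff_span]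
  intro x
  rw [eq_top_iff]
  intro e _
  obtain ⟨U, hxU, s, rfl⟩ := TopCat.Presheaf.exists_germ_eq E.presheaf e
  obtain ⟨U₁, hU₁, hx, hle⟩ := Opens.isBasis_iff_nbhd.mp X.isBasis_affineOpens hxU
  rw [← germ_res' E hle x hx s]
  exact mem_span_germ hdim h1 hE hne h hU₁ hx _

end K921.P1Gen
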