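import Groth.Agent.MorSch.K921.DerLoc
import Groth.Agent.MorSch.K921.P1Gen
import Groth.Agent.SDiv.K476.HomSh3
import Mathlib.RingTheory.Nakayama

/-!
# Global generation of `Hom(f^* Ω, L)` and derivations

`p : X ⟶ S`, `d : O_X → Ω` universal, `f : Y ⟶ X`, `G = f^* Ω`, `W ⊆ Y`, `V ⊆ X` affine, `W ≤ f⁻¹ V`,
`Γ(G, W)` finite projective.

* `exists_comb`: if the sections of `Hom(G, O)` given by `φ_j : G ⟶ O` generate over `W`, then every derivation
  `Γ(X, V) → N` along `f` is `∑ φ_j(f^* d a) • c_j`;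
* `exists_smul_mem`: if every derivation at a point `ρ : Γ(Y, W) → κ` comes from a morphism
  `G ⟶ L`, then the global sections of `Hom(G, L)` generate near this point;
* `isGloballyGenerated_of_point`: on an integral curve with `H^1(O) = 0`, `Hom(G, L)` is then globally generated.
-/

set_option autoImplicit false
universe u

open CategoryTheory CategoryTheory.Limits AlgebraicGeometry TopologicalSpace Opposite OmegaSh

namespace K921.FreeGen

open Groth.Agent Groth.Agent.Fdesc.LocGen Groth.Agent.VarietyB K583.DerAffine K583.DerFunct K583.AlgUniv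
open K921.DerLoc RefHull

/-- Dual bases of finite projective modules. -/
theorem exists_dual_basis {B : Type*} [CommRing B] (P : Type*) [AddCommGroup P] [Module B P]
    [Module.Finite B P] [Module.Projective B P] :
    ∃ (m : ℕ) (x : Fin m → P) (ξ : Fin m → (P →ₗ[B] B)), ∀ q : P, q = ∑ i, ξ i q • x i := by
  obtain ⟨m, π, hπ⟩ := Module.Finite.exists_fin' B P
  obtain ⟨s, hs⟩ := Module.projective_lifting_property π LinearMap.id hπ
  refine ⟨m, fun i => π (Pi.single i 1), fun i => (LinearMap.proj i).comp s, fun q => ?_⟩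
  have h1 : π (s q) = q := LinearMap.congr_fun hs q
  conv_lhs => rw [← h1, ← Finset.univ_sum_single (s q), map_sum]
  refine Finset.sum_congr rfl fun i _ => ?_
  have h2 : (Pi.single i (s q i) : Fin m → B) = s q i • Pi.single i 1 := by
    rw [← Pi.single_smul', smul_eq_mul, mul_one]
  rw [h2, map_smul]
  rfl

variable {X Y S : Scheme.{u}} {p : X ⟶ S} {f : Y ⟶ X} {Ω : X.Modules} {d : Der p Ω}
variable {V : X.Opens} {W : Y.Opens} (e : W ≤ f ⁻¹ᵁ V)

/-- The functions given by a derivation with values in `O_Y`. -/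
noncomputable def evO (φ : (Scheme.Modules.pullback f).obj Ω ⟶ Coh.structureModule Y) (d : Der p Ω)
    (a : Γ(X, V)) : Γ(Y, W) := fnSect Y W (ev φ d e a)

theorem exists_comb [IsAffine S] (hd : IsUniversal d) (hV : IsAffineOpen V) (hW : IsAffineOpen W)
    [Module.Finite Γ(Y, W) Γ((Scheme.Modules.pullback f).obj Ω, W)]
    [Module.Projective Γ(Y, W) Γ((Scheme.Modules.pullback f).obj Ω, W)] {ι : Type*} [Fintype ι]
    (φ : ι → ((Scheme.Modules.pullback f).obj Ω ⟶ Coh.structureModule Y))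
    (hφ : Submodule.span Γ(Y, W) (Set.range fun j => ofHom (φ j) W) = ⊤)
    {N : Type u} [AddCommGroup N] [Module Γ(Y, W) N] {δ : Γ(X, V) →+ N} (hδ : IsLocDer p f e δ) :
    ∃ c : ι → N, ∀ a, δ a = ∑ j, evO e (φ j) d a • c j := by
  have hΩ : Coh.IsQCoh Ω := K583.UnivAffine.isQuasicoherent_of_isUniversal hd
  have hG : Coh.IsQCoh ((Scheme.Modules.pullback f).obj Ω) := PullSec.isQCoh_pullback f Ω hΩ
  obtain ⟨h, hh⟩ := exists_lift e hd hV hW hδ
  obtain ⟨m, x, ξ, hξ⟩ := exists_dual_basis (B := Γ(Y, W)) Γ((Scheme.Modules.pullback f).obj Ω, W)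
  -- write the coordinates as combinations
  have key : ∀ i : Fin m, ∃ b : ι → Γ(Y, W), ∀ q, ξ i q = ∑ j, b j * fnSect Y W ((φ j).app W q) := by
    intro i
    let ξ' : Γ((Scheme.Modules.pullback f).obj Ω, W) →ₗ[Γ(Y, W)] Γ(Coh.structureModule Y, W) :=
      { toFun := fun q => strSect Y W (ξ i q)
        map_add' := fun q q' => by rw [map_add, map_add]
        map_smul' := fun r q => by rw [map_smul]; rfl }
    have h1 : (K476.HomSh2.affEquivSelf hW hG).symm ξ' ∈
        Submodule.span Γ(Y, W) (Set.range fun j => ofHom (φ j) W) := by rw [hφ]; trivial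
    rw [Submodule.mem_span_range_iff_exists_fun] at h1
    obtain ⟨b, hb⟩ := h1
    refine ⟨b, fun q => ?_⟩
    have h2 := K476.HomSh2.secMap_affEquivSelf_symm hW hG ξ' q
    rw [← hb] at h2
    have h3 : ∀ (t : Finset ι), K476.HomSh1.secMap (∑ j ∈ t, b j • ofHom (φ j) W) le_rfl q =
        ∑ j ∈ t, b j • (φ j).app W q := by
      intro t
      have h4 : ∀ g : Γ(homSh ((Scheme.Modules.pullback f).obj Ω) (Coh.structureModule Y), W),
          K476.HomSh1.secMap g le_rfl q = K476.HomSh2.affEquivSelf hW hG g q := fun g => rfl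
      rw [h4, map_sum, LinearMap.sum_apply]
      refine Finset.sum_congr rfl fun j _ => ?_
      rw [map_smul, LinearMap.smul_apply, ← h4, K476.HomSh1.secMap_ofHom]
    rw [h3] at h2
    have h5 := congrArg (fnSect Y W) h2
    rw [map_sum] at h5
    exact h5.symm
  choose b hb using key
  refine ⟨fun j => ∑ i, b i j • h (x i), fun a => ?_⟩
  rw [← hh a]
  conv_lhs => rw [hξ (PullSec.sec f Ω e (d.app V a)), map_sum]
  have h6 : ∀ i, h (ξ i (PullSec.sec f Ω e (d.app V a)) • x i) =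
      ∑ j, evO e (φ j) d a • (b i j • h (x i)) := by
    intro i
    rw [map_smul, hb i, Finset.sum_smul]
    refine Finset.sum_congr rfl fun j _ => ?_
    rw [mul_comm, mul_smul]
    rfl
  rw [Finset.sum_congr rfl fun i _ => h6 i, Finset.sum_comm]
  exact Finset.sum_congr rfl fun j _ => Finset.smul_sum.symm

/-- Derivations with values at a point. -/
structure IsPtDer (p : X ⟶ S) {κ : Type*} [CommRing κ] (σ : Γ(X, V) →+* κ) (δ : Γ(X, V) →+ κ) : Prop where
  leibniz : ∀ a b, δ (a * b) = σ a * δ b + σ b * δ a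
  zero : ∀ c : Γ(S, ⊤), δ (p.appLE ⊤ V le_top c) = 0

theorem exists_smul_mem [IsAffine S] (hd : IsUniversal d) (hV : IsAffineOpen V) (hW : IsAffineOpen W)
    [Module.Finite Γ(Y, W) Γ((Scheme.Modules.pullback f).obj Ω, W)]
    [Module.Projective Γ(Y, W) Γ((Scheme.Modules.pullback f).obj Ω, W)] {L : Y.Modules}
    (lam : Γ(L, W) ≃ₗ[Γ(Y, W)] Γ(Y, W)) {κ : Type*} [CommRing κ] (ρ : Γ(Y, W) →+* κ)
    (H : ∀ δ : Γ(X, V) →+ κ, IsPtDer p (ρ.comp (f.appLE V W e).hom) δ →
      ∃ ψ : (Scheme.Modules.pullback f).obj Ω ⟶ L, ∀ a, ρ (lam (ev ψ d e a)) = δ a) :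
    ∃ s : Γ(Y, W), ρ s = 1 ∧
      ∀ θ : Γ(homSh ((Scheme.Modules.pullback f).obj Ω) L, W),
        s • θ ∈ Submodule.span Γ(Y, W)
          (Set.range (res (homSh ((Scheme.Modules.pullback f).obj Ω) L) (le_top : W ≤ ⊤))) := by
  have hΩ : Coh.IsQCoh Ω := K583.UnivAffine.isQuasicoherent_of_isUniversal hd
  have hG : Coh.IsQCoh ((Scheme.Modules.pullback f).obj Ω) := PullSec.isQCoh_pullback f Ω hΩ
  let E := homSh ((Scheme.Modules.pullback f).obj Ω) L
  let α : Γ(E, W) ≃ₗ[Γ(Y, W)] (Γ((Scheme.Modules.pullback f).obj Ω, W) →ₗ[Γ(Y, W)] Γ(Y, W)) :=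
    (K476.HomSh2.affEquivSelf hW hG).trans (LinearEquiv.congrRight lam)
  obtain ⟨m, x, ξ, hξ⟩ := exists_dual_basis (B := Γ(Y, W)) Γ((Scheme.Modules.pullback f).obj Ω, W)
  let N₀ := Submodule.span Γ(Y, W) (Set.range (res E (le_top : W ≤ ⊤)))
  have hfg : (⊤ : Submodule Γ(Y, W) Γ(E, W)).FG := by
    rw [Submodule.fg_def]
    refine ⟨Set.range fun i => α.symm (ξ i), Set.finite_range _, ?_⟩
    rw [eq_top_iff]
    intro θ _
    have h1 : θ = ∑ i, (α θ (x i)) • α.symm (ξ i) := by
      apply α.injective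
      rw [map_sum]
      ext q
      rw [LinearMap.sum_apply]
      conv_lhs => rw [hξ q, map_sum]
      refine Finset.sum_congr rfl fun i _ => ?_
      rw [map_smul, map_smul, LinearEquiv.apply_symm_apply, LinearMap.smul_apply, smul_eq_mul,
        smul_eq_mul, mul_comm]
    rw [h1]
    exact Submodule.sum_mem _ fun i _ => Submodule.smul_mem _ _ (Submodule.subset_span ⟨i, rfl⟩)
  have hle : (⊤ : Submodule Γ(Y, W) Γ(E, W)) ≤ N₀ ⊔ RingHom.ker ρ • (⊤ : Submodule Γ(Y, W) Γ(E, W)) := by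
    intro θ _
    obtain ⟨ψ, hψ⟩ := H (ρ.toAddMonoidHom.comp ((α θ).toAddMonoidHom.comp
      ((PullSec.sec f Ω e).comp (d.app V)))) ⟨fun a b => by
        change ρ (α θ (PullSec.sec f Ω e (d.app V (a * b)))) =
          ρ (f.appLE V W e a) * ρ (α θ (PullSec.sec f Ω e (d.app V b))) +
          ρ (f.appLE V W e b) * ρ (α θ (PullSec.sec f Ω e (d.app V a)))
        rw [app_mul, map_add, PullSec.sec_smul, PullSec.sec_smul, map_add, map_smul, map_smul, map_add,
          smul_eq_mul, smul_eq_mul, map_mul, map_mul], fun c => by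
        change ρ (α θ (PullSec.sec f Ω e (d.app V (p.appLE ⊤ V le_top c)))) = 0
        rw [app_appLE, map_zero, map_zero, map_zero]⟩
    let θ' : Γ(E, W) := res E le_top (ofHom ψ ⊤)
    have hθ' : ∀ q, α θ' q = lam (ψ.app W q) := by
      intro q
      change lam (K476.HomSh1.secMap θ' le_rfl q) = _
      congr 1
      exact K476.HomSh1.secMap_ofHom ψ le_rfl q
    have hmem : ∀ q, α (θ - θ') q ∈ RingHom.ker ρ := by
      intro q
      have hq : q ∈ Submodule.span Γ(Y, W) (Set.range fun a => PullSec.sec f Ω e (d.app V a)) := by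
        rw [span_sec_d e hd hV hW]; trivial
      refine Submodule.span_induction (p := fun q _ => α (θ - θ') q ∈ RingHom.ker ρ) ?_ ?_ ?_ ?_ hq
      · rintro _ ⟨a, rfl⟩
        dsimp only
        rw [map_sub, LinearMap.sub_apply, hθ', RingHom.mem_ker, map_sub]
        have h3 : ρ (lam (ψ.app W (PullSec.sec f Ω e (d.app V a)))) =
          ρ (α θ (PullSec.sec f Ω e (d.app V a))) := hψ a
        rw [h3, sub_self]
      · rw [map_zero]; exact Ideal.zero_mem _
      · intro a b _ _ ha hb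
        rw [map_add]
        exact Ideal.add_mem _ ha hb
      · intro r a _ ha
        rw [map_smul, smul_eq_mul]
        exact Ideal.mul_mem_left _ _ ha
    have h1 : θ = θ' + ∑ i, (α (θ - θ') (x i)) • α.symm (ξ i) := by
      rw [← sub_eq_iff_eq_add']
      apply α.injective
      rw [map_sum]
      ext q
      rw [LinearMap.sum_apply]
      conv_lhs => rw [hξ q, map_sum]
      refine Finset.sum_congr rfl fun i _ => ?_
      rw [map_smul, map_smul, LinearEquiv.apply_symm_apply, LinearMap.smul_apply, smul_eq_mul,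
        smul_eq_mul, mul_comm]
    rw [h1]
    refine Submodule.add_mem_sup (Submodule.subset_span ⟨_, rfl⟩) (Submodule.sum_mem _ fun i _ => ?_)
    exact Submodule.smul_mem_smul (hmem _) trivial
  obtain ⟨s, hs, hs'⟩ := Submodule.exists_sub_one_mem_and_smul_le_of_fg_of_le_sup hfg le_rfl hle
  refine ⟨s, ?_, fun θ => ?_⟩
  · rw [RingHom.mem_ker, map_sub, map_one, sub_eq_zero] at hs
    exact hs
  · exact hs' (Submodule.smul_mem_pointwise_smul θ s ⊤ trivial)

/-- One point criterion for global generation. -/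
theorem isGloballyGenerated_of_point [IsIntegral Y] [NoetherianSpace Y]
    (hdim : ∀ x : Y, x ≠ genericPoint Y → IsClosed ({x} : Set Y))
    (h1 : Subsingleton (Coh.HH Y (Coh.structureModule Y) 1)) [IsAffine S] (hd : IsUniversal d)
    (hV : IsAffineOpen V) (hW : IsAffineOpen W)
    [Module.Finite Γ(Y, W) Γ((Scheme.Modules.pullback f).obj Ω, W)]
    [Module.Projective Γ(Y, W) Γ((Scheme.Modules.pullback f).obj Ω, W)] {L : Y.Modules}
    (hE : Coh.IsQCoh (homSh ((Scheme.Modules.pullback f).obj Ω) L))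
    (lam : Γ(L, W) ≃ₗ[Γ(Y, W)] Γ(Y, W)) {κ : Type*} [CommRing κ] (ρ : Γ(Y, W) →+* κ) (t : Y)
    (hρ : ∀ s, IsUnit (ρ s) → t ∈ Y.basicOpen s)
    (H : ∀ δ : Γ(X, V) →+ κ, IsPtDer p (ρ.comp (f.appLE V W e).hom) δ →
      ∃ ψ : (Scheme.Modules.pullback f).obj Ω ⟶ L, ∀ a, ρ (lam (ev ψ d e a)) = δ a) :
    Curv2.IsGloballyGenerated (homSh ((Scheme.Modules.pullback f).obj Ω) L) := by
  obtain ⟨s, hs, hs'⟩ := exists_smul_mem e hd hV hW lam ρ H
  have ht : t ∈ Y.basicOpen s := hρ s (hs ▸ isUnit_one)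
  refine K921.P1Gen.isGloballyGenerated_of_open hdim h1 hE (W₀ := Y.basicOpen s) ⟨t, ht⟩ fun y hy => ?_
  have hyW : y ∈ W := Y.basicOpen_le s hy
  let E := homSh ((Scheme.Modules.pullback f).obj Ω) L
  have h2 := FormalB.SpanStalk.span_germ_of_span hW hE (fun θ : Γ(E, W) => θ)
    (by rw [Set.range_id']; exact Submodule.span_univ) y hyW
  rw [eq_top_iff, ← h2, Submodule.span_le]
  rintro _ ⟨θ, rfl⟩
  have hu : IsUnit (Y.presheaf.germ W y hyW s) := (Y.mem_basicOpen s y hyW).1 hy
  have h3 : E.presheaf.germ W y hyW (s • θ) ∈ Submodule.span (Y.presheaf.stalk y)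
      (Set.range fun s : Γ(E, ⊤) => E.presheaf.germ ⊤ y trivial s) := by
    refine Submodule.span_induction (p := fun θ _ => E.presheaf.germ W y hyW θ ∈
      Submodule.span (Y.presheaf.stalk y) (Set.range fun s : Γ(E, ⊤) => E.presheaf.germ ⊤ y trivial s))
      ?_ ?_ ?_ ?_ (hs' θ)
    · rintro _ ⟨τ, rfl⟩
      dsimp only
      rw [K921.P1Gen.germ_res']
      exact Submodule.subset_span ⟨τ, rfl⟩
    · rw [map_zero]; exact Submodule.zero_mem _
    · intro a b _ _ ha hb
      rw [map_add]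
      exact Submodule.add_mem _ ha hb
    · intro r a _ ha
      rw [Fdesc.QCohStalk.germ_smul']
      exact Submodule.smul_mem _ _ ha
  rw [Fdesc.QCohStalk.germ_smul'] at h3
  obtain ⟨v, hv⟩ := hu
  have h4 : E.presheaf.germ W y hyW θ =
      (v⁻¹ : (Y.presheaf.stalk y)ˣ) • (Y.presheaf.germ W y hyW s • E.presheaf.germ W y hyW θ) := by
    rw [← hv, Units.smul_def, smul_smul, Units.inv_mul, one_smul]
  change E.presheaf.germ W y hyW θ ∈ _
  rw [h4]
  exact Submodule.smul_mem _ _ h3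

end K921.FreeGen
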