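import Groth.Agent.MorSch.K921.FreeGen
import Groth.Agent.VarietyB.GGStalk
import Groth.Agent.SDiv.K476.HomSh6

/-!
# Derivations along `f` from global maps `f^* Ω ⟶ L`

`p : X ⟶ S`, `d : O_X → Ω` universal, `f : Y ⟶ X`, `G = f^* Ω`, `Hom(G, L)` globally generated, `W ⊆ Y`, `V ⊆ X`
affine, `W ≤ f⁻¹ V`, `λ : Γ(L, W) ≃ Γ(Y, W)`:

* `span_res_top`: sections of a globally generated quasi-coherent module over an affine open;
* `exists_combL`: every derivation `Γ(X, V) → N` along `f` is a finite sum `∑ λ(ψ_j(f^* d a)) • n_j`, for `ψ_j : G ⟶ L`;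
* `exists_hom_of_ptDer`: every derivation at a point `ρ : Γ(Y, W) → κ` such that `Γ(Y, ⊤) → κ` is surjective is
  `ρ(λ(ψ(f^* d a)))` for one `ψ : G ⟶ L`.
-/

set_option autoImplicit false
universe u

open CategoryTheory CategoryTheory.Limits AlgebraicGeometry TopologicalSpace Opposite OmegaSh

namespace K921.FreeMor

open Groth.Agent Groth.Agent.Fdesc.LocGen Groth.Agent.VarietyB K583.DerAffine K583.DerFunct K583.AlgUniv
open K921.DerLoc K921.FreeGen RefHull

theorem span_res_top {Y : Scheme.{u}} {M : Y.Modules} (hM : Coh.IsQCoh M) (hg : Curv2.IsGloballyGenerated M)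
    {W : Y.Opens} (hW : IsAffineOpen W) :
    Submodule.span Γ(Y, W) (Set.range (res M (le_top : W ≤ ⊤))) = ⊤ := by
  rw [eq_top_iff]
  intro m _
  refine FormalB.SpanStalk.mem_of_germ_mem_span hW hM _ m fun y hy => ?_
  have h1 := (VarietyB.GGStalk.isGloballyGenerated_iff_span M).1 hg y
  have h2 : M.presheaf.germ W y hy m ∈ Submodule.span (Y.presheaf.stalk y)
      (Set.range fun s : Γ(M, ⊤) => M.presheaf.germ ⊤ y trivial s) := by rw [h1]; trivial
  refine Submodule.span_mono ?_ h2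
  rintro _ ⟨s, rfl⟩
  refine ⟨res M le_top s, Submodule.subset_span ⟨s, rfl⟩, ?_⟩
  exact K921.P1Gen.germ_res' _ _ _ _ _

variable {X Y S : Scheme.{u}} {p : X ⟶ S} {f : Y ⟶ X} {Ω : X.Modules} {d : Der p Ω}
variable {V : X.Opens} {W : Y.Opens} (e : W ≤ f ⁻¹ᵁ V)

theorem exists_combL [IsAffine S] (hd : IsUniversal d) (hV : IsAffineOpen V) (hW : IsAffineOpen W)
    [Module.Finite Γ(Y, W) Γ((Scheme.Modules.pullback f).obj Ω, W)]
    [Module.Projective Γ(Y, W) Γ((Scheme.Modules.pullback f).obj Ω, W)] {L : Y.Modules}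
    (lam : Γ(L, W) ≃ₗ[Γ(Y, W)] Γ(Y, W)) {ι : Type*}
    (φ : ι → ((Scheme.Modules.pullback f).obj Ω ⟶ L))
    (hφ : Submodule.span Γ(Y, W) (Set.range fun j => ofHom (φ j) W) = ⊤)
    {N : Type u} [AddCommGroup N] [Module Γ(Y, W) N] {δ : Γ(X, V) →+ N} (hδ : IsLocDer p f e δ) :
    ∃ c : ι →₀ N, ∀ a, δ a = c.sum fun j n => lam (ev (φ j) d e a) • n := by
  classical
  have hΩ : Coh.IsQCoh Ω := K583.UnivAffine.isQuasicoherent_of_isUniversal hd
  have hG : Coh.IsQCoh ((Scheme.Modules.pullback f).obj Ω) := PullSec.isQCoh_pullback f Ω hΩ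
  obtain ⟨h, hh⟩ := exists_lift e hd hV hW hδ
  obtain ⟨m, x, ξ, hξ⟩ := exists_dual_basis (B := Γ(Y, W)) Γ((Scheme.Modules.pullback f).obj Ω, W)
  -- the set of good maps is stable under addition
  have hadd : ∀ (c c' : ι →₀ N) (a : Γ(X, V)), ((c + c').sum fun j n => lam (ev (φ j) d e a) • n) =
      (c.sum fun j n => lam (ev (φ j) d e a) • n) + c'.sum fun j n => lam (ev (φ j) d e a) • n := by
    intro c c' a
    exact Finsupp.sum_add_index' (fun j => smul_zero _) (fun j n n' => smul_add _ _ _)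
  -- the coordinates
  have key : ∀ g : Γ(homSh ((Scheme.Modules.pullback f).obj Ω) L, W), ∀ n : N, ∃ c : ι →₀ N,
      ∀ a, lam (K476.HomSh1.secMap g le_rfl (PullSec.sec f Ω e (d.app V a))) • n =
        c.sum fun j n => lam (ev (φ j) d e a) • n := by
    intro g
    have hg : g ∈ Submodule.span Γ(Y, W) (Set.range fun j => ofHom (φ j) W) := by rw [hφ]; trivial
    refine Submodule.span_induction (p := fun g _ => ∀ n : N, ∃ c : ι →₀ N,
      ∀ a, lam (K476.HomSh1.secMap g le_rfl (PullSec.sec f Ω e (d.app V a))) • n =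
        c.sum fun j n => lam (ev (φ j) d e a) • n) ?_ ?_ ?_ ?_ hg
    · rintro _ ⟨j, rfl⟩ n
      refine ⟨Finsupp.single j n, fun a => ?_⟩
      have h1 : ((Finsupp.single j n).sum fun j n => lam (ev (φ j) d e a) • n) = lam (ev (φ j) d e a) • n :=
        Finsupp.sum_single_index (smul_zero _)
      rw [h1, K476.HomSh1.secMap_ofHom]
      rfl
    · intro n
      refine ⟨0, fun a => ?_⟩
      have h1 : K476.HomSh1.secMap (0 : Γ(homSh ((Scheme.Modules.pullback f).obj Ω) L, W)) le_rfl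
          (PullSec.sec f Ω e (d.app V a)) = 0 := by
        have h2 := map_zero (K476.HomSh2.affEquivSelf (F := (Scheme.Modules.pullback f).obj Ω) (G := L) hW hG)
        exact congrArg (fun z : Γ((Scheme.Modules.pullback f).obj Ω, W) →ₗ[Γ(Y, W)] Γ(L, W) =>
          z (PullSec.sec f Ω e (d.app V a))) h2
      rw [h1, map_zero, zero_smul, Finsupp.sum_zero_index]
    · intro g g' _ _ hg hg' n
      obtain ⟨c, hc⟩ := hg n
      obtain ⟨c', hc'⟩ := hg' n
      refine ⟨c + c', fun a => ?_⟩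
      rw [hadd, ← hc, ← hc', K476.HomSh1.secMap_add, LinearMap.add_apply, map_add, add_smul]
    · intro r g _ hg n
      obtain ⟨c, hc⟩ := hg (r • n)
      refine ⟨c, fun a => ?_⟩
      rw [← hc, K476.HomSh1.secMap_smul, map_smul, smul_eq_mul, mul_comm, mul_smul]
  have hcoord : ∀ i : Fin m, ∃ g : Γ(homSh ((Scheme.Modules.pullback f).obj Ω) L, W), ∀ q,
      lam (K476.HomSh1.secMap g le_rfl q) = ξ i q := by
    intro i
    refine ⟨(K476.HomSh2.affEquivSelf hW hG).symm (lam.symm.toLinearMap.comp (ξ i)), fun q => ?_⟩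
    rw [K476.HomSh2.secMap_affEquivSelf_symm]
    exact lam.apply_symm_apply _
  choose g hg using hcoord
  choose c hc using fun i => key (g i) (h (x i))
  refine ⟨∑ i, c i, fun a => ?_⟩
  have h3 : ∀ t : Finset (Fin m), ((∑ i ∈ t, c i).sum fun j n => lam (ev (φ j) d e a) • n) =
      ∑ i ∈ t, (c i).sum fun j n => lam (ev (φ j) d e a) • n := by
    intro t
    induction t using Finset.induction_on with
    | empty => rw [Finset.sum_empty, Finset.sum_empty, Finsupp.sum_zero_index]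
    | insert i t hi ih => rw [Finset.sum_insert hi, Finset.sum_insert hi, hadd, ih]
  rw [h3, ← hh a]
  conv_lhs => rw [hξ (PullSec.sec f Ω e (d.app V a)), map_sum]
  refine Finset.sum_congr rfl fun i _ => ?_
  rw [map_smul, ← hc, hg]

/-- Derivations at a rational point come from global morphisms. -/
theorem exists_hom_of_ptDer [IsAffine S] (hd : IsUniversal d) (hV : IsAffineOpen V) (hW : IsAffineOpen W)
    [Module.Finite Γ(Y, W) Γ((Scheme.Modules.pullback f).obj Ω, W)]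
    [Module.Projective Γ(Y, W) Γ((Scheme.Modules.pullback f).obj Ω, W)] {L : Y.Modules}
    (lam : Γ(L, W) ≃ₗ[Γ(Y, W)] Γ(Y, W))
    (hE : Coh.IsQCoh (homSh ((Scheme.Modules.pullback f).obj Ω) L))
    (hg : Curv2.IsGloballyGenerated (homSh ((Scheme.Modules.pullback f).obj Ω) L))
    {κ : Type u} [CommRing κ] (ρ : Γ(Y, W) →+* κ)
    (hρ : Function.Surjective fun c : Γ(Y, ⊤) => ρ (ores le_top c))
    {δ : Γ(X, V) →+ κ} (hδ : IsPtDer p (ρ.comp (f.appLE V W e).hom) δ) :
    ∃ ψ : (Scheme.Modules.pullback f).obj Ω ⟶ L, ∀ a, ρ (lam (ev ψ d e a)) = δ a := by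
  classical
  let j0 : Module Γ(Y, W) κ := Module.compHom κ ρ
  have hspan : Submodule.span Γ(Y, W) (Set.range fun φ : (Scheme.Modules.pullback f).obj Ω ⟶ L =>
      ofHom φ W) = ⊤ := by
    rw [← span_res_top hE hg hW]
    congr 1
    ext θ
    constructor
    · rintro ⟨φ, rfl⟩
      exact ⟨ofHom φ ⊤, rfl⟩
    · rintro ⟨s, rfl⟩
      refine ⟨(K476.HomSh1.homEquiv _ _).symm s, ?_⟩
      conv_rhs => rw [← (K476.HomSh1.homEquiv _ _).apply_symm_apply s]
      rfl
  obtain ⟨c, hc⟩ := exists_combL (p := p) (f := f) (d := d) (N := κ) e hd hV hW lam (fun φ => φ) hspan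
    (δ := δ) ⟨fun a b => hδ.leibniz a b, fun c => hδ.zero c⟩
  choose C hC using fun n : κ => hρ n
  let E := homSh ((Scheme.Modules.pullback f).obj Ω) L
  let s : Γ(E, ⊤) := c.sum fun φ n => C n • ofHom φ ⊤
  refine ⟨(K476.HomSh1.homEquiv _ _).symm s, fun a => ?_⟩
  rw [hc]
  let ev' : Γ(E, ⊤) →+ κ := AddMonoidHom.comp ρ.toAddMonoidHom (AddMonoidHom.comp lam.toLinearMap.toAddMonoidHom
    (AddMonoidHom.mk' (fun g : Γ(E, ⊤) => K476.HomSh1.secMap g le_top (PullSec.sec f Ω e (d.app V a)))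
      (fun g g' => by rw [K476.HomSh1.secMap_add, LinearMap.add_apply])))
  have h1 : ρ (lam (ev ((K476.HomSh1.homEquiv _ _).symm s) d e a)) = ev' s := rfl
  rw [h1]
  change ev' (c.sum fun φ n => C n • ofHom φ ⊤) = _
  rw [Finsupp.sum, Finsupp.sum, map_sum]
  refine Finset.sum_congr rfl fun φ _ => ?_
  have h2 : ∀ (r : Γ(Y, ⊤)) (g : Γ(E, ⊤)) , K476.HomSh1.secMap (r • g) (le_top : W ≤ ⊤)
      (PullSec.sec f Ω e (d.app V a)) = (ores le_top r : Γ(Y, W)) • K476.HomSh1.secMap g (le_top : W ≤ ⊤)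
      (PullSec.sec f Ω e (d.app V a)) := by
    intro r g
    have h3 := K476.HomSh1.secMap_res_left (r • g) (le_top : W ≤ ⊤) le_rfl (PullSec.sec f Ω e (d.app V a))
    have h4 := K476.HomSh1.secMap_res_left g (le_top : W ≤ ⊤) le_rfl (PullSec.sec f Ω e (d.app V a))
    refine h3.symm.trans (Eq.trans ?_ (congrArg (fun z => (ores le_top r : Γ(Y, W)) • z) h4))
    have h5 : Ega1.QCohLoc.res E (le_top : W ≤ ⊤) (r • g) = (ores le_top r : Γ(Y, W)) •
        Ega1.QCohLoc.res E (le_top : W ≤ ⊤) g := res_smul E (le_top : W ≤ ⊤) r g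
    rw [h5]
    exact K476.HomSh1.secMap_smul _ _ _
  change ρ (lam (K476.HomSh1.secMap (C (c φ) • ofHom φ ⊤) le_top (PullSec.sec f Ω e (d.app V a)))) = _
  have h6 : ρ (ores le_top (C (c φ))) = c φ := hC (c φ)
  rw [h2, map_smul, smul_eq_mul, map_mul, h6, K476.HomSh1.secMap_ofHom, mul_comm]
  rfl

end K921.FreeMor
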