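import Groth.Agent.Fga.HilbClosed
import Mathlib.AlgebraicGeometry.ZariskisMainTheorem

/-!
# The Hilbert functor of an open subscheme
-/

set_option autoImplicit false
universe u

open CategoryTheory CategoryTheory.Limits AlgebraicGeometry

namespace K921.HilbOpen

open Groth.Agent.Fga Groth.Agent.Fga.HilbClosed Groth.Agent.Fga.RelCart

section General

variable {U X : Scheme.{u}} (j : U ⟶ X)

/-- For a monomorphism `j` and a closed subscheme `V` of `U` which stays closed in `X`, restricting to `U` the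
ideal of `V` in `X` gives back `V`. -/
theorem comap_ker_comp [Mono j] (I : U.IdealSheafData) [IsClosedImmersion (I.subschemeι ≫ j)] :
    (I.subschemeι ≫ j).ker.comap j = I := by
  have h : IsPullback (𝟙 _) I.subschemeι (I.subschemeι ≫ j) j :=
    IsPullback.of_horiz_isIso_mono ⟨by simp⟩
  rw [← ker_of_isPullback h, Scheme.IdealSheafData.ker_subschemeι]

/-- A closed subscheme `W` of `X` contained in the open `U` is a closed subscheme of `U`. -/
theorem exists_iso_comap [IsOpenImmersion j] (W : X.IdealSheafData)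
    (hW : Set.range W.subschemeι ⊆ Set.range j) :
    ∃ e : (W.comap j).subscheme ≅ W.subscheme, e.hom ≫ W.subschemeι = (W.comap j).subschemeι ≫ j := by
  have h := isPullback_comap W j
  set p := (W.comapIso j).hom ≫ pullback.snd j W.subschemeι with hp
  have h1 : IsOpenImmersion p := MorphismProperty.of_isPullback (P := @IsOpenImmersion) h.flip.flip inferInstance
  have h2 : Surjective p := by
    constructor
    intro w
    obtain ⟨u, hu⟩ := hW ⟨w, rfl⟩
    obtain ⟨z, hz1, hz2⟩ := Scheme.Pullback.exists_preimage_pullback (f := j) (g := W.subschemeι) u w hu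
    refine ⟨(W.comapIso j).inv z, ?_⟩
    rw [← Scheme.Hom.comp_apply, hp, Iso.inv_hom_id_assoc, hz2]
  have h3 : IsIso p := by
    rw [isIso_iff_isOpenImmersion_and_epi_base]
    exact ⟨h1, (TopCat.epi_iff_surjective _).2 h2.surj⟩
  exact ⟨asIso p, h.w.symm⟩

theorem ker_comap_comp [IsOpenImmersion j] (W : X.IdealSheafData)
    (hW : Set.range W.subschemeι ⊆ Set.range j) :
    ((W.comap j).subschemeι ≫ j).ker = W := by
  obtain ⟨e, he⟩ := exists_iso_comap j W hW
  rw [← he, Scheme.Hom.ker_comp_of_isIso, Scheme.IdealSheafData.ker_subschemeι]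

end General

section Hilb

variable {U X S : Scheme.{u}} (j : U ⟶ X) [IsOpenImmersion j] (f : X ⟶ S)

/-- `U_T ⟶ X_T`. -/
noncomputable def jT (T : Over S) : PicF.XT (j ≫ f) T ⟶ PicF.XT f T :=
  pullback.map _ _ _ _ j (𝟙 _) (𝟙 _) (by simp) (by simp)

theorem jT_fst (T : Over S) :
    jT j f T ≫ pullback.fst f T.hom = pullback.fst (j ≫ f) T.hom ≫ j := pullback.lift_fst _ _ _

theorem jT_proj (T : Over S) : jT j f T ≫ PicF.XTproj f T = PicF.XTproj (j ≫ f) T :=
  (pullback.lift_snd _ _ _).trans (Category.comp_id _)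

theorem isPullback_jT (T : Over S) :
    IsPullback (pullback.fst (j ≫ f) T.hom) (jT j f T) j (pullback.fst f T.hom) := by
  have h1 : IsPullback (pullback.fst (j ≫ f) T.hom) (pullback.snd (j ≫ f) T.hom) (j ≫ f) T.hom :=
    IsPullback.of_hasPullback _ _
  have h2 : IsPullback (pullback.fst f T.hom) (pullback.snd f T.hom) f T.hom := IsPullback.of_hasPullback _ _
  refine (IsPullback.of_right (h₁₁ := jT j f T) (h₁₂ := pullback.snd f T.hom) ?_ (jT_fst j f T) h2.flip).flip
  have := jT_proj j f T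
  unfold PicF.XTproj at this
  rw [this]
  exact h1.flip

instance (T : Over S) : IsOpenImmersion (jT j f T) :=
  MorphismProperty.of_isPullback (P := @IsOpenImmersion) (isPullback_jT j f T) inferInstance

/-- For an open subset `H₀` of `H`: `U_{H₀} ⟶ X_H`. -/
noncomputable def mH (H : Over S) (H₀ : H.left.Opens) :
    PicF.XT (j ≫ f) (Over.mk (H₀.ι ≫ H.hom)) ⟶ PicF.XT f H :=
  pullback.map (j ≫ f) (H₀.ι ≫ H.hom) f H.hom j H₀.ι (𝟙 S)
        (Category.comp_id _) (Category.comp_id _)

theorem mH_eq (H : Over S) (H₀ : H.left.Opens) :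
    mH j f H H₀ = jT j f (Over.mk (H₀.ι ≫ H.hom)) ≫
      PicF.XTmap f (Over.homMk H₀.ι rfl : Over.mk (H₀.ι ≫ H.hom) ⟶ H) := by
  apply pullback.hom_ext
  · rw [Category.assoc, FGA.XTmap_fst, jT_fst]
    exact pullback.lift_fst _ _ _
  · have h2 := (RelCart.isPullback_XTmap f (Over.homMk H₀.ι rfl : Over.mk (H₀.ι ≫ H.hom) ⟶ H)).w
    have h3 := jT_proj j f (Over.mk (H₀.ι ≫ H.hom))
    rw [Category.assoc]
    refine Eq.trans (pullback.lift_snd _ _ _) ?_
    change _ = _ ≫ _ ≫ PicF.XTproj f H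
    rw [h2, ← Category.assoc, h3]
    rfl

theorem jT_XTmap {T T' : Over S} (g : T' ⟶ T) :
    PicF.XTmap (j ≫ f) g ≫ jT j f T = jT j f T' ≫ PicF.XTmap f g := by
  apply pullback.hom_ext
  · rw [Category.assoc, jT_fst, ← Category.assoc, FGA.XTmap_fst, Category.assoc, FGA.XTmap_fst, jT_fst]
  · have h1 : PicF.XTmap (j ≫ f) g ≫ PicF.XTproj (j ≫ f) T = _ := (RelCart.isPullback_XTmap (j ≫ f) g).w
    have h2 : PicF.XTmap f g ≫ PicF.XTproj f T = _ := (RelCart.isPullback_XTmap f g).w
    have h3 := jT_proj j f T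
    have h4 := jT_proj j f T'
    rw [Category.assoc, Category.assoc]
    change _ ≫ _ ≫ PicF.XTproj f T = _ ≫ _ ≫ PicF.XTproj f T
    rw [h3, h1, h2, ← Category.assoc, h4]

theorem comap_hilbPull {T T' : Over S} (g : T' ⟶ T) (I : (PicF.XT f T).IdealSheafData) :
    (FGA.hilbPull f g I).comap (jT j f T') = FGA.hilbPull (j ≫ f) g (I.comap (jT j f T)) := by
  rw [RelCart.hilbPull_eq_comap, RelCart.hilbPull_eq_comap, ← Scheme.IdealSheafData.comap_comp,
    ← Scheme.IdealSheafData.comap_comp, jT_XTmap]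

/-- `V ⊆ U_T` proper over `T` is closed in `X_T`. -/
theorem isClosedImmersion_comp [IsSeparated f] {T : Over S} (V : FGA.HilbSet (j ≫ f) T) :
    IsClosedImmersion (V.1.subschemeι ≫ jT j f T) := by
  rw [IsClosedImmersion.iff_isProper_and_mono]
  refine ⟨?_, inferInstance⟩
  have h1 := V.2.1
  have h2 : V.1.subschemeι ≫ PicF.XTproj (j ≫ f) T =
      (V.1.subschemeι ≫ jT j f T) ≫ pullback.snd f T.hom := by
    rw [Category.assoc]
    exact congrArg _ (jT_proj j f T).symm
  rw [h2] at h1
  exact IsProper.of_comp (V.1.subschemeι ≫ jT j f T) (pullback.snd f T.hom)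

/-- Extend a closed subscheme proper over `T` from `U_T` to `X_T`. -/
noncomputable def ext [IsSeparated f] {T : Over S} (V : FGA.HilbSet (j ≫ f) T) : FGA.HilbSet f T :=
  ⟨(V.1.subschemeι ≫ jT j f T).ker, by
    have h0 := isClosedImmersion_comp j f V
    have h1 : (V.1.subschemeι ≫ jT j f T).toImage ≫ (V.1.subschemeι ≫ jT j f T).ker.subschemeι =
      V.1.subschemeι ≫ jT j f T := (V.1.subschemeι ≫ jT j f T).toImage_imageι
    have h2 : ∀ {Z W : Scheme.{u}} (d : Z ⟶ W) [IsClosedImmersion d], IsIso d.toImage :=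
      fun d _ => inferInstance
    have h3 : IsIso (V.1.subschemeι ≫ jT j f T).toImage := h2 _
    have h4 : V.1.subschemeι ≫ PicF.XTproj (j ≫ f) T = (V.1.subschemeι ≫ jT j f T).toImage ≫
        (V.1.subschemeι ≫ jT j f T).ker.subschemeι ≫ PicF.XTproj f T := by
      rw [← Category.assoc, h1, Category.assoc, jT_proj]
    have h5 := V.2
    rw [h4, MorphismProperty.cancel_left_of_respectsIso @IsProper,
      MorphismProperty.cancel_left_of_respectsIso @Flat] at h5
    exact h5⟩

theorem ext_val [IsSeparated f] {T : Over S} (V : FGA.HilbSet (j ≫ f) T) :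
    (ext j f V).1 = (V.1.subschemeι ≫ jT j f T).ker := rfl

theorem range_ext [IsSeparated f] {T : Over S} (V : FGA.HilbSet (j ≫ f) T) :
    Set.range (ext j f V).1.subschemeι ⊆ Set.range (jT j f T) := by
  have h0 := isClosedImmersion_comp j f V
  rw [Scheme.IdealSheafData.range_subschemeι, ext_val, Scheme.Hom.support_ker,
    (Scheme.Hom.isClosedEmbedding _).isClosed_range.closure_eq]
  rintro _ ⟨x, rfl⟩
  exact ⟨V.1.subschemeι x, by simp⟩

theorem comap_ext [IsSeparated f] {T : Over S} (V : FGA.HilbSet (j ≫ f) T) :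
    (ext j f V).1.comap (jT j f T) = V.1 := by
  have h0 := isClosedImmersion_comp j f V
  exact comap_ker_comp _ _

/-- Restrict a closed subscheme of `X_T` which is contained in `U_T`. -/
noncomputable def res {T : Over S} (W : FGA.HilbSet f T)
    (hW : Set.range W.1.subschemeι ⊆ Set.range (jT j f T)) : FGA.HilbSet (j ≫ f) T :=
  ⟨W.1.comap (jT j f T), by
    obtain ⟨e, he⟩ := exists_iso_comap (jT j f T) W.1 hW
    have h4 : (W.1.comap (jT j f T)).subschemeι ≫ PicF.XTproj (j ≫ f) T =
        e.hom ≫ W.1.subschemeι ≫ PicF.XTproj f T := by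
      rw [← Category.assoc, he, Category.assoc, jT_proj]
    rw [h4, MorphismProperty.cancel_left_of_respectsIso @IsProper,
      MorphismProperty.cancel_left_of_respectsIso @Flat]
    exact W.2⟩

theorem ext_res_val [IsSeparated f] {T : Over S} (W : FGA.HilbSet f T)
    (hW : Set.range W.1.subschemeι ⊆ Set.range (jT j f T)) (V : FGA.HilbSet (j ≫ f) T)
    (h : V.1 = W.1.comap (jT j f T)) : (ext j f V).1 = W.1 := by
  rw [ext_val, h]
  exact ker_comap_comp _ _ hW

/-- The open subset of `H` over which the family `Z` lies in `U`. -/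
noncomputable def openLocus {H : Over S} (Z : FGA.HilbSet f H) : H.left.Opens :=
  ⟨((Z.1.subschemeι ≫ PicF.XTproj f H) '' (Z.1.subschemeι ⁻¹' (Set.range (jT j f H))ᶜ))ᶜ, by
    rw [isOpen_compl_iff]
    have := Z.2.1
    apply (Z.1.subschemeι ≫ PicF.XTproj f H).isClosedMap
    exact ((jT j f H).isOpenEmbedding.isOpen_range).isClosed_compl.preimage
      Z.1.subschemeι.continuous⟩

theorem range_jT (T : Over S) : Set.range (jT j f T) = (pullback.fst f T.hom) ⁻¹' Set.range j := by
  ext z
  constructor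
  · rintro ⟨y, rfl⟩
    refine ⟨pullback.fst (j ≫ f) T.hom y, ?_⟩
    rw [← Scheme.Hom.comp_apply, ← Scheme.Hom.comp_apply, jT_fst]
  · rintro ⟨y, hy⟩
    obtain ⟨w, -, hw⟩ := Scheme.Pullback.exists_preimage_pullback (f := j) (g := pullback.fst f T.hom) y z hy
    refine ⟨(isPullback_jT j f T).isoPullback.inv w, ?_⟩
    rw [← Scheme.Hom.comp_apply, (isPullback_jT j f T).isoPullback_inv_snd, hw]

theorem range_hilbPull_iff {H T : Over S} (Z : FGA.HilbSet f H) (g : T ⟶ H) :
    Set.range g.left ⊆ (openLocus j f Z : Set H.left) ↔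
      Set.range (FGA.hilbPull f g Z.1).subschemeι ⊆ Set.range (jT j f T) := by
  rw [RelCart.hilbPull_eq_comap]
  have hA := isPullback_comap Z.1 (PicF.XTmap f g)
  set p := (Z.1.comapIso (PicF.XTmap f g)).hom ≫ pullback.snd (PicF.XTmap f g) Z.1.subschemeι with hp
  have hB := RelCart.isPullback_XTmap f g
  have hfst : PicF.XTmap f g ≫ pullback.fst f H.hom = pullback.fst f T.hom := FGA.XTmap_fst f g
  have e0 : ∀ z, Z.1.subschemeι (p z) =
      PicF.XTmap f g ((Z.1.comap (PicF.XTmap f g)).subschemeι z) := by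
    intro z
    rw [← Scheme.Hom.comp_apply, ← Scheme.Hom.comp_apply, hA.w]
  constructor
  · rintro h _ ⟨z, rfl⟩
    rw [range_jT]
    by_contra hz
    have h1 : g.left (PicF.XTproj f T ((Z.1.comap (PicF.XTmap f g)).subschemeι z)) ∈
        (openLocus j f Z : Set H.left) := h ⟨_, rfl⟩
    apply h1
    refine ⟨p z, ?_, ?_⟩
    · intro hz'
      apply hz
      rw [range_jT] at hz'
      rw [e0] at hz'
      have e2 : pullback.fst f H.hom (PicF.XTmap f g ((Z.1.comap (PicF.XTmap f g)).subschemeι z)) =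
          pullback.fst f T.hom ((Z.1.comap (PicF.XTmap f g)).subschemeι z) := by
        rw [← hfst, Scheme.Hom.comp_apply]
      rw [Set.mem_preimage, e2] at hz'
      exact hz'
    · rw [← Scheme.Hom.comp_apply, ← Scheme.Hom.comp_apply, ← Scheme.Hom.comp_apply, ← Category.assoc,
        ← hA.w, Category.assoc, hB.w]
  · rintro h _ ⟨t, rfl⟩ ⟨y, hy, hyt⟩
    apply hy
    have hC := hA.flip.paste_vert hB
    obtain ⟨w, -, hw⟩ := Scheme.Pullback.exists_preimage_pullback (f := g.left)
      (g := Z.1.subschemeι ≫ PicF.XTproj f H) t y hyt.symm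
    have hw2 : p (hC.flip.isoPullback.inv w) = y := by
      rw [← Scheme.Hom.comp_apply, hC.flip.isoPullback_inv_snd, hw]
    have h3 := h ⟨hC.flip.isoPullback.inv w, rfl⟩
    rw [range_jT] at h3 ⊢
    rw [← hw2]
    rw [e0, Set.mem_preimage, ← Scheme.Hom.comp_apply, hfst]
    exact h3

/-- **Representability passes to open subschemes**. -/
theorem represented_open [IsSeparated f] {H : Over S} {Z : FGA.HilbSet f H}
    (hH : FGA.HilbRepresentedBy f H Z) :
    ∃ (Z₀ : FGA.HilbSet (j ≫ f) (Over.mk ((openLocus j f Z).ι ≫ H.hom))),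
      Z₀.1 = Z.1.comap (mH j f H (openLocus j f Z)) ∧
      FGA.HilbRepresentedBy (j ≫ f) (Over.mk ((openLocus j f Z).ι ≫ H.hom)) Z₀ := by
  have hN := hH.1
  let H₀ := openLocus j f Z
  let H' : Over S := Over.mk (H₀.ι ≫ H.hom)
  let i : H' ⟶ H := Over.homMk H₀.ι rfl
  have hmono : Mono i := by
    refine ⟨fun a b hab => ?_⟩
    apply Over.OverMorphism.ext
    rw [← cancel_mono H₀.ι]
    exact congrArg (fun z => z.left) hab
  have hi : Set.range i.left = (H₀ : Set H.left) := by
    change Set.range H₀.ι = _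
    simp
  have hi' := (range_hilbPull_iff j f Z i).1 hi.le
  let Z₀ : FGA.HilbSet (j ≫ f) H' := res j f ⟨FGA.hilbPull f i Z.1, mem_hilbPull f i Z⟩ hi'
  have hZ₀ : Z₀.1 = (FGA.hilbPull f i Z.1).comap (jT j f H') := rfl
  refine ⟨Z₀, ?_, ?_, ?_⟩
  · rw [hZ₀, RelCart.hilbPull_eq_comap, ← Scheme.IdealSheafData.comap_comp, mH_eq]
  · change IsLocallyNoetherian (H₀ : Scheme.{u})
    infer_instance
  · intro T _ Y
    have key : ∀ a : T ⟶ H', FGA.hilbPull (j ≫ f) a Z₀.1 = Y.1 ↔
        FGA.hilbPull f (a ≫ i) Z.1 = (ext j f Y).1 := by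
      intro a
      have hr : Set.range (FGA.hilbPull f (a ≫ i) Z.1).subschemeι ⊆ Set.range (jT j f T) := by
        rw [← range_hilbPull_iff, ← hi]
        rintro _ ⟨t, rfl⟩
        exact ⟨a.left t, by simp⟩
      have e1 : FGA.hilbPull (j ≫ f) a Z₀.1 = (FGA.hilbPull f (a ≫ i) Z.1).comap (jT j f T) := by
        rw [hZ₀, ← comap_hilbPull, hilbPull_comp]
      rw [e1]
      constructor
      · intro h
        exact (ext_res_val j f ⟨FGA.hilbPull f (a ≫ i) Z.1, mem_hilbPull f (a ≫ i) Z⟩ hr Y h.symm).symm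
      · intro h
        rw [h, comap_ext]
    obtain ⟨g, hg, hguniq⟩ := hH.2 T (ext j f Y)
    have hr : Set.range g.left ⊆ Set.range H₀.ι := by
      have := (range_hilbPull_iff j f Z g).2 (by rw [hg]; exact range_ext j f Y)
      simpa using this
    let g' : T ⟶ H' := Over.homMk (IsOpenImmersion.lift H₀.ι g.left hr) (by
      change _ ≫ H₀.ι ≫ H.hom = _
      rw [IsOpenImmersion.lift_fac_assoc]
      exact Over.w g)
    have hg' : g' ≫ i = g := Over.OverMorphism.ext (IsOpenImmersion.lift_fac _ _ _)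
    refine ⟨g', (key g').2 (by rw [hg', hg]), fun a ha => ?_⟩
    rw [← cancel_mono i, hg']
    exact hguniq _ ((key a).1 ha)

end Hilb

end K921.HilbOpen
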