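import Groth.Agent.OmegaSh.K583.UnivAffine
import Groth.Agent.VarietyB.PullSec
import Mathlib.AlgebraicGeometry.Morphisms.Smooth

/-!
# Sections of the differentials of a smooth morphism

`p : X ⟶ S` smooth, `S` affine, `d : O_X → Ω` universal, `f : Y ⟶ X`: `Γ(Ω, V)` and `Γ(f^* Ω, W)` are finite projective.
-/

set_option autoImplicit false
universe u

open CategoryTheory CategoryTheory.Limits AlgebraicGeometry TopologicalSpace Opposite OmegaSh

namespace K921.OmegaProj

open Groth.Agent Groth.Agent.VarietyB K583.AlgUniv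

variable {X Y S : Scheme.{u}} {p : X ⟶ S} (f : Y ⟶ X) {Ω : X.Modules} {d : Der p Ω}

theorem finite_projective [Smooth p] [IsAffine S] (hd : IsUniversal d) {V : X.Opens} (hV : IsAffineOpen V) :
    Module.Finite Γ(X, V) Γ(Ω, V) ∧ Module.Projective Γ(X, V) Γ(Ω, V) := by
  have hu := K583.UnivAffine.isAlgUniv_app hd hV (isAffineOpen_top S) le_top
  have hsm := p.smooth_appLE (isAffineOpen_top S) hV le_top
  let _ : Algebra Γ(S, ⊤) Γ(X, V) := (p.appLE ⊤ V le_top).hom.toAlgebra
  have : Algebra.Smooth Γ(S, ⊤) Γ(X, V) := hsm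
  obtain ⟨e, -⟩ := IsAlgUniv.exists_kaehler_equiv (A := Γ(S, ⊤)) (B := Γ(X, V)) hu
  exact ⟨Module.Finite.equiv e, Module.Projective.of_equiv e⟩

theorem finite_projective_pullback [Smooth p] [IsAffine S] (hd : IsUniversal d) {V : X.Opens}
    (hV : IsAffineOpen V) {W : Y.Opens} (hW : IsAffineOpen W) (e : W ≤ f ⁻¹ᵁ V) :
    Module.Finite Γ(Y, W) Γ((Scheme.Modules.pullback f).obj Ω, W) ∧
      Module.Projective Γ(Y, W) Γ((Scheme.Modules.pullback f).obj Ω, W) := by
  obtain ⟨h1, h2⟩ := finite_projective (p := p) hd hV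
  have hΩ : Coh.IsQCoh Ω := K583.UnivAffine.isQuasicoherent_of_isUniversal hd
  let j1 : Algebra Γ(X, V) Γ(Y, W) := (f.appLE V W e).hom.toAlgebra
  let j2 := PullSec.secModule f Ω e
  have j3 : IsScalarTower Γ(X, V) Γ(Y, W) Γ((Scheme.Modules.pullback f).obj Ω, W) :=
      ⟨fun a b c => by rw [Algebra.smul_def, mul_smul]; rfl⟩
  have hbc := PullSec.isBaseChange_secₗ f Ω e hΩ hV hW
  exact ⟨Module.Finite.equiv hbc.equiv, Module.Projective.of_equiv hbc.equiv⟩

end K921.OmegaProj
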