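import Groth.Agent.MorSch.K921.P1Ideal
import Groth.Agent.MorSch.K921.PullDual
import Groth.Agent.VBPn.K699.Euler
import Groth.Agent.VBPn.K699.KoszulP1
import Groth.Agent.S1647
import Groth.Agent.Ega3B.ProjFrame
import Groth.Agent.S0844

/-!
# The tangent sheaf of the projective line over a field

* `isGG_O`: `O(d)` is globally generated for `d ≥ 0`;
* `nonempty_homSh_O`: `Hom(O(a), O(b)) ≅ O(b - a)`;
* `isGG_tan`: `Hom(Ω, O)` is globally generated;
* `isGG_tan_ker`: `Hom(Ω, I_s)` is globally generated for a rational point `s`.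
-/

set_option autoImplicit false
universe u

open CategoryTheory CategoryTheory.Limits AlgebraicGeometry TopologicalSpace Opposite

namespace K921.P1Tan

open Groth.Agent K921.P1Ideal

variable (k : Type u) [Field k]

/-- `O(d)`. -/
noncomputable abbrev O (d : ℤ) : (P1 k).Modules := Twist.twistProjSpace 1 k d

theorem isInvertible_O (d : ℤ) : PicF.IsInvertible (O k d) :=
  Ega2.TwistInv.isInvertible_twist (Ega3B.ProjFrame.coveredByOne 1 k) d

theorem nonempty_twist_mul (i j : ℤ) : Nonempty (CohB1.tensorMod (O k i) (O k j) ≅ O k (i + j)) := by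
  have h1 := Ega2.TwistInv.isIso_mulHom (Ega3B.ProjFrame.coveredByOne 1 k) (rfl : i + j = i + j)
  exact ⟨@asIso _ _ _ _ (Ega2.TwistMul.mulHom (CohB1.polyGrading 1 k) (rfl : i + j = i + j)) h1⟩

theorem nonempty_twist_zero : Nonempty (O k 0 ≅ Coh.structureModule (P1 k)) := by
  obtain ⟨e⟩ := Ega2.TwistInv.nonempty_unit_iso (CohB1.polyGrading 1 k)
  exact ⟨e.symm⟩

theorem isGG_of_iso {X : Scheme.{u}} {M N : X.Modules} (e : M ≅ N) (h : Curv2.IsGloballyGenerated M) :
    Curv2.IsGloballyGenerated N := by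
  obtain ⟨ι, p, hp⟩ := h
  exact ⟨ι, p ≫ e.hom, inferInstance⟩

theorem isGG_O (d : ℤ) (hd : 0 ≤ d) : Curv2.IsGloballyGenerated (O k d) := by
  have h := S1647.result k 1 (O k 0) (K533.PtTwist.isCoh_aux (isInvertible_O k 0)) d (fun i hi hi' => by
    obtain rfl : i = 1 := le_antisymm hi' hi
    obtain ⟨e⟩ := nonempty_twist_mul k 0 (d - (1 : ℕ))
    have := S0844.result k 1 (0 + (d - (1 : ℕ))) 1 (by omega) (by omega)
    exact (VarietyA.EulerLES.equivA k e 1).toEquiv.subsingleton)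
  obtain ⟨e⟩ := nonempty_twist_mul k 0 d
  rw [zero_add] at e
  exact isGG_of_iso e h

theorem nonempty_homSh_O (a b : ℤ) : Nonempty (RefHull.homSh (O k a) (O k b) ≅ O k (b - a)) := by
  have hF : FlatMod.IsFinLocFree (O k a) := fun x => by
    obtain ⟨U, hx, h⟩ := VarietyB.DegCartier.isFinLocFreeOfRank_one (isInvertible_O k a) x
    exact ⟨U, 1, hx, h⟩
  obtain ⟨e1⟩ := PullDual.nonempty_tensor_dual hF (O k b)
  obtain ⟨e2⟩ := nonempty_twist_mul k a (-a)
  rw [add_neg_cancel] at e2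
  obtain ⟨e3⟩ := nonempty_twist_zero k
  obtain ⟨e4⟩ := K476.HomSh6.nonempty_iso_dual (isInvertible_O k a) (e2 ≪≫ e3)
  obtain ⟨e5⟩ := nonempty_twist_mul k (-a) b
  have h : -a + b = b - a := by ring
  rw [h] at e5
  exact ⟨e1.symm ≪≫ PullDual.tensMap e4.symm (Iso.refl _) ≪≫ e5⟩

theorem nonempty_omega_iso : Nonempty (Omega.sheaf (pP k) ≅ O k (-2)) := by
  obtain ⟨e'⟩ := K699.Euler.nonempty_omega_iso 1 k
  have hK := K699.KoszulP1.shortExact (R := k) (show (-2 : ℤ) + (1 : ℕ) = -1 by simp) K699.Euler.hneg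
  have hm := hK.mono_f
  exact ⟨Iso.trans (C := (CohB1.ProjSpace 1 k).Modules) e'
      (IsLimit.conePointUniqueUpToIso hK.fIsKernel (kernelIsKernel _)).symm⟩

/-- `Hom(Ω, O(m))` is globally generated for `m ≥ -2`. -/
theorem isGG_homSh_omega {Ω : (P1 k).Modules} (e : Ω ≅ Omega.sheaf (pP k)) {L : (P1 k).Modules} {m : ℤ}
    (e' : L ≅ O k m) (hm : -2 ≤ m) : Curv2.IsGloballyGenerated (RefHull.homSh Ω L) := by
  obtain ⟨e1⟩ := nonempty_omega_iso k
  obtain ⟨e2⟩ := nonempty_homSh_O k (-2) m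
  refine isGG_of_iso (K476.HomSh1.isoLeft (e ≪≫ e1) L ≪≫ K476.HomSh1.isoRight _ e' ≪≫ e2).symm
    (isGG_O k _ (by omega))

theorem isGG_tan {Ω : (P1 k).Modules} (e : Ω ≅ Omega.sheaf (pP k)) :
    Curv2.IsGloballyGenerated (RefHull.homSh Ω (Coh.structureModule (P1 k))) := by
  obtain ⟨e3⟩ := nonempty_twist_zero k
  exact isGG_homSh_omega k e e3.symm (by omega)

theorem isGG_tan_ker {Ω : (P1 k).Modules} (e : Ω ≅ Omega.sheaf (pP k)) (s : Spec (CommRingCat.of k) ⟶ P1 k)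
    (hs : s ≫ pP k = 𝟙 _) : Curv2.IsGloballyGenerated (RefHull.homSh Ω (ClSub.idealMod s.ker)) := by
  obtain ⟨e3⟩ := nonempty_idealMod_iso k s hs
  exact isGG_homSh_omega k e e3 (by omega)

end K921.P1Tan
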