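import Groth.Agent.Dix.IdealModCartier
import Groth.Agent.MorSch.K921.DerLoc

/-!
# The ideal of a rational point

`s : Spec k ⟶ Y` quasi-compact, `D = s.ker`.

* `evPt s e : Γ(Y, W) →+* k`, the value of functions; `mem_ideal_iff`: `a ∈ D` iff its value vanishes (`s ∈ W` affine);
* `ideal_eq_top`: `D = O` on affine opens not containing `s`, `lamI`: `Γ(idealMod D, W) ≃ Γ(Y, W)` there;
* `exists_factor`: a morphism `f^* Ω ⟶ O` whose derivation has values vanishing at `s` factors through `idealMod D`.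
-/

set_option autoImplicit false
universe u

open CategoryTheory CategoryTheory.Limits AlgebraicGeometry TopologicalSpace Opposite OmegaSh

namespace K921.PtIdeal

open Groth.Agent Groth.Agent.Fdesc.LocGen K583.DerAffine K583.DerFunct K921.DerLoc

/-- The value of functions at a rational point. -/
noncomputable def evPt {k : Type u} [CommRing k] {Y : Scheme.{u}} (t : Spec (CommRingCat.of k) ⟶ Y)
    {W : Y.Opens} (e : ⊤ ≤ t ⁻¹ᵁ W) : Γ(Y, W) →+* k :=
  (Scheme.ΓSpecIso (CommRingCat.of k)).hom.hom.comp (t.appLE W ⊤ e).hom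

section general

variable {k : Type u} [CommRing k] {Y : Scheme.{u}} (t : Spec (CommRingCat.of k) ⟶ Y)

theorem evPt_ores {W W' : Y.Opens} (h : W' ≤ W) (e : ⊤ ≤ t ⁻¹ᵁ W) (e' : ⊤ ≤ t ⁻¹ᵁ W') (a : Γ(Y, W)) :
    evPt t e' (ores h a) = evPt t e a := by
  have h1 := t.map_appLE (U := W') (V := ⊤) (U' := W) e' (homOfLE h).op
  exact congrArg (Scheme.ΓSpecIso (CommRingCat.of k)).hom congr($h1 a)

theorem evPt_comp {X : Scheme.{u}} (f : Y ⟶ X) {V : X.Opens} {W : Y.Opens} (e : W ≤ f ⁻¹ᵁ V)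
    (et : ⊤ ≤ t ⁻¹ᵁ W) (e' : ⊤ ≤ (t ≫ f) ⁻¹ᵁ V) (a : Γ(X, V)) :
    evPt t et (f.appLE V W e a) = evPt (t ≫ f) e' a := by
  have h1 := Scheme.Hom.appLE_comp_appLE t f V W ⊤ e et
  exact congrArg (Scheme.ΓSpecIso (CommRingCat.of k)).hom congr($h1 a)

/-- Constants. -/
theorem evPt_surjective (pY : Y ⟶ Spec (CommRingCat.of k)) (ht : t ≫ pY = 𝟙 _) {W : Y.Opens}
    (e : ⊤ ≤ t ⁻¹ᵁ W) : Function.Surjective fun c : Γ(Y, ⊤) => evPt t e (ores le_top c) := by
  intro a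
  refine ⟨pY.appTop ((Scheme.ΓSpecIso (CommRingCat.of k)).inv a), ?_⟩
  dsimp only
  rw [evPt_ores t le_top le_top e]
  have h1 : (t ≫ pY).appTop ((Scheme.ΓSpecIso (CommRingCat.of k)).inv a) =
      (Scheme.ΓSpecIso (CommRingCat.of k)).inv a := by
    rw [ht, Scheme.Hom.id_appTop]
    rfl
  have h2 : (t.appLE ⊤ ⊤ le_top) (pY.appTop ((Scheme.ΓSpecIso (CommRingCat.of k)).inv a)) =
      (t ≫ pY).appTop ((Scheme.ΓSpecIso (CommRingCat.of k)).inv a) :=
    congr($((t.app_eq_appLE (U := ⊤)).symm) (pY.appTop ((Scheme.ΓSpecIso (CommRingCat.of k)).inv a)))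
  change (Scheme.ΓSpecIso (CommRingCat.of k)).hom ((t.appLE ⊤ ⊤ le_top) _) = a
  rw [h2, h1]
  exact congr($((Scheme.ΓSpecIso (CommRingCat.of k)).inv_hom_id) a)

theorem evPt_base (pY : Y ⟶ Spec (CommRingCat.of k)) (ht : t ≫ pY = 𝟙 _) {W : Y.Opens}
    (e : ⊤ ≤ t ⁻¹ᵁ W) (c : Γ(Spec (CommRingCat.of k), ⊤)) :
    evPt t e (pY.appLE ⊤ W le_top c) = (Scheme.ΓSpecIso (CommRingCat.of k)).hom c := by
  have h1 := Scheme.Hom.appLE_comp_appLE t pY ⊤ W ⊤ le_top e
  refine (congrArg (Scheme.ΓSpecIso (CommRingCat.of k)).hom congr($h1 c)).trans ?_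
  have h3 : ∀ (g : Spec (CommRingCat.of k) ⟶ Spec (CommRingCat.of k)) (e' : ⊤ ≤ g ⁻¹ᵁ ⊤), g = 𝟙 _ →
      g.appLE ⊤ ⊤ e' = 𝟙 _ := by
    rintro g e' rfl
    exact (Spec (CommRingCat.of k)).presheaf.map_id _
  exact congrArg (Scheme.ΓSpecIso (CommRingCat.of k)).hom congr($(h3 _ le_top ht) c)

end general

section field

variable {k : Type u} [Field k] {Y : Scheme.{u}} (s : Spec (CommRingCat.of k) ⟶ Y) [QuasiCompact s]

theorem mem_ideal_iff {W : Y.Opens} (hW : IsAffineOpen W) (e : ⊤ ≤ s ⁻¹ᵁ W) (a : Γ(Y, W)) :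
    a ∈ s.ker.ideal ⟨W, hW⟩ ↔ evPt s e a = 0 := by
  rw [Scheme.Hom.ker_apply, RingHom.mem_ker]
  have h1 : s ⁻¹ᵁ W = ⊤ := top_le_iff.1 e
  have h2 : s.appLE W ⊤ e = s.app W ≫ (Spec (CommRingCat.of k)).presheaf.map (homOfLE e).op := by
    rw [Scheme.Hom.appLE]
  have h3 : Function.Injective (Scheme.ΓSpecIso (CommRingCat.of k)).hom :=
    (ConcreteCategory.bijective_of_isIso _).1
  have h4 : Function.Injective ((Spec (CommRingCat.of k)).presheaf.map (homOfLE e).op) := by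
    have : IsIso ((Spec (CommRingCat.of k)).presheaf.map (homOfLE e).op) := by
      have : IsIso (homOfLE e) := ⟨homOfLE h1.le, rfl, rfl⟩
      infer_instance
    exact (ConcreteCategory.bijective_of_isIso _).1
  constructor
  · intro h
    change (Scheme.ΓSpecIso (CommRingCat.of k)).hom ((s.appLE W ⊤ e) a) = 0
    have h5 : (s.appLE W ⊤ e) a = (Spec (CommRingCat.of k)).presheaf.map (homOfLE e).op (s.app W a) :=
      congr($h2 a)
    have h6 : s.app W a = 0 := h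
    rw [h5, h6, map_zero, map_zero]
  · intro h
    have h5 : (s.appLE W ⊤ e) a = (Spec (CommRingCat.of k)).presheaf.map (homOfLE e).op (s.app W a) :=
      congr($h2 a)
    have h6 : (Scheme.ΓSpecIso (CommRingCat.of k)).hom ((s.appLE W ⊤ e) a) = 0 := h
    rw [← map_zero (Scheme.ΓSpecIso (CommRingCat.of k)).hom.hom] at h6
    have h7 := h3 h6
    rw [h5, ← map_zero ((Spec (CommRingCat.of k)).presheaf.map (homOfLE e).op).hom] at h7
    exact h4 h7

theorem ideal_eq_top {W : Y.Opens} (hW : IsAffineOpen W) (h : s (IsLocalRing.closedPoint k) ∉ W) :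
    s.ker.ideal ⟨W, hW⟩ = ⊤ := by
  rw [Scheme.Hom.ker_apply]
  have h1 : s ⁻¹ᵁ W = ⊥ := by
    ext x
    have : x = IsLocalRing.closedPoint k := Subsingleton.elim (α := PrimeSpectrum k) _ _
    subst this
    constructor
    · intro hx
      exact (h hx).elim
    · intro hx
      exact hx.elim
  have h2 : Subsingleton Γ(Spec (CommRingCat.of k), s ⁻¹ᵁ W) := by
    rw [h1]
    infer_instance
  rw [eq_top_iff]
  intro a _
  exact Subsingleton.elim (α := Γ(Spec (CommRingCat.of k), s ⁻¹ᵁ W)) _ _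

/-- Away from the point the ideal is the unit ideal. -/
noncomputable def lamI {W : Y.Opens} (hW : IsAffineOpen W) (h : s (IsLocalRing.closedPoint k) ∉ W) :
    Γ(ClSub.idealMod s.ker, W) ≃ₗ[Γ(Y, W)] Γ(Y, W) :=
  LinearEquiv.ofBijective
    { toFun := Dix.IdealModCartier.val s.ker
      map_add' := fun a b => by
        change fnSect Y W ((ClSub.idealModι s.ker).app W (a + b)) = _
        rw [map_add, map_add]
        rfl
      map_smul' := fun r a => Dix.IdealModCartier.val_smul s.ker r a }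
    ⟨fun a b hab => Dix.IdealModCartier.val_injective s.ker hab, fun a =>
      Dix.IdealModCartier.exists_val_eq s.ker ⟨W, hW⟩ (by rw [ideal_eq_top s hW h]; trivial)⟩

theorem lamI_apply {W : Y.Opens} (hW : IsAffineOpen W) (h : s (IsLocalRing.closedPoint k) ∉ W)
    (a : Γ(ClSub.idealMod s.ker, W)) : lamI s hW h a = Dix.IdealModCartier.val s.ker a := rfl

end field

/-- Morphisms out of `f^* Ω` are determined by their derivations. -/
theorem hom_ext_ev {X Y S : Scheme.{u}} {p : X ⟶ S} {f : Y ⟶ X} {Ω : X.Modules} {d : Der p Ω}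
    (hd : IsUniversal d) {L : Y.Modules} {α β : (Scheme.Modules.pullback f).obj Ω ⟶ L}
    (H : ∀ (U : X.Opens) (a : Γ(X, U)), ev α d (le_refl (f ⁻¹ᵁ U)) a = ev β d (le_refl (f ⁻¹ᵁ U)) a) :
    α = β := by
  apply ((Scheme.Modules.pullbackPushforwardAdjunction f).homEquiv Ω L).injective
  apply univ_hom_ext hd
  intro U a
  rw [Adjunction.homEquiv_unit, Adjunction.homEquiv_unit]
  have h1 : ∀ γ : (Scheme.Modules.pullback f).obj Ω ⟶ L, ev γ d (le_refl (f ⁻¹ᵁ U)) a =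
      γ.app (f ⁻¹ᵁ U) (pullSect f Ω U (d.app U a)) := by
    intro γ
    rw [ev_apply]
    congr 1
    exact res_refl _ _
  have h2 := H U a
  rw [h1, h1] at h2
  exact h2

/-- Factorization through the ideal. -/
theorem exists_factor {X Y S : Scheme.{u}} {p : X ⟶ S} {f : Y ⟶ X} {Ω : X.Modules} {d : Der p Ω}
    (hd : IsUniversal d) (D : Y.IdealSheafData)
    (ψ : (Scheme.Modules.pullback f).obj Ω ⟶ Coh.structureModule Y)
    (H : ∀ (V : X.Opens) (W : Y.Opens) (hW : IsAffineOpen W) (_ : IsAffineOpen V) (e : W ≤ f ⁻¹ᵁ V)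
      (a : Γ(X, V)), fnSect Y W (ev ψ d e a) ∈ D.ideal ⟨W, hW⟩) :
    ∃ ψ' : (Scheme.Modules.pullback f).obj Ω ⟶ ClSub.idealMod D, ψ' ≫ ClSub.idealModι D = ψ := by
  have h0 : ψ ≫ ClSub.toSubscheme D = 0 := by
    apply hom_ext_ev hd
    intro U a
    rw [ev_comp]
    have h1 : (ClSub.toSubscheme D).app (f ⁻¹ᵁ U) (ev ψ d (le_refl (f ⁻¹ᵁ U)) a) = 0 := by
      refine Divis.IdealFT.subschemeι_app_eq_zero D (f ⁻¹ᵁ U)
        (fnSect Y _ (ev ψ d (le_refl (f ⁻¹ᵁ U)) a)) fun x hx => ?_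
      obtain ⟨V, hV, hxV, hVU⟩ := exists_isAffineOpen_mem_and_subset (U := U) (x := f x) hx
      obtain ⟨W, hW, hxW, hWV⟩ := exists_isAffineOpen_mem_and_subset (U := f ⁻¹ᵁ V) (x := x) hxV
      have hVU' : V ≤ U := hVU
      have hWV' : W ≤ f ⁻¹ᵁ V := hWV
      have hWU : W ≤ f ⁻¹ᵁ U := hWV'.trans (f.preimage_mono hVU')
      refine ⟨⟨W, hW⟩, hWU, hxW, ?_⟩
      have h2 := H V W hW hV hWV' (X.presheaf.map (homOfLE hVU').op a)
      have h3 := ev_res (d := d) ψ (le_refl (f ⁻¹ᵁ U)) hWV' hVU' hWU a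
      rw [← h3] at h2
      exact h2
    rw [h1]
    rfl
  exact ⟨kernel.lift (ClSub.toSubscheme D) ψ h0, kernel.lift_ι _ _ _⟩

end K921.PtIdeal
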