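import Groth.Agent.MorSch.K921.AffMor
import Groth.Agent.MorSch.K921.DefDer
import Groth.Agent.MorSch.K921.FreeGen
import Groth.Agent.MorSch.K921.PtIdeal

/-!
# Tangent vectors at rational points as morphisms from `Spec k[ε]`

* `exists_tan`: a derivation of `Γ(X, V)` at a rational point `x` is given by `v : Spec k[ε] ⟶ X`;
* `isPtDer_tan`: the converse.
-/

set_option autoImplicit false
universe u

open CategoryTheory CategoryTheory.Limits AlgebraicGeometry TopologicalSpace Opposite OmegaSh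

namespace K921.TanVec

open Groth.Agent Groth.Agent.Fdesc.LocGen K921.EpsDer K921.DefDer K921.PtIdeal K921.FreeGen K921.AffMor

variable {k : Type u} [CommRing k] {X : Scheme.{u}} {pX : X ⟶ Spec (CommRingCat.of k)}

/-- The ring homomorphism `a ↦ σ a + ε δ a`. -/
noncomputable def ptHom {V : X.Opens} {σ : Γ(X, V) →+* k} {δ : Γ(X, V) →+ k} (hδ : IsPtDer pX σ δ) :
    Γ(X, V) →+* DualNumber k where
  toFun a := TrivSqZeroExt.inl (σ a) + TrivSqZeroExt.inr (δ a)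
  map_one' := by
    have h1 : δ 1 = 0 := by
      have h2 := hδ.leibniz 1 1
      rw [mul_one, map_one σ, one_mul] at h2
      exact left_eq_add.1 h2
    rw [map_one σ, h1]
    simp
  map_mul' a b := by
    ext
    · simp
    · simp only [TrivSqZeroExt.snd_add, TrivSqZeroExt.snd_inl, TrivSqZeroExt.snd_inr, zero_add,
        TrivSqZeroExt.snd_mul, TrivSqZeroExt.fst_add, TrivSqZeroExt.fst_inl, TrivSqZeroExt.fst_inr,
        add_zero, smul_eq_mul, MulOpposite.smul_eq_mul_unop, MulOpposite.unop_op]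
      rw [hδ.leibniz]
      ring
  map_zero' := by simp
  map_add' a b := by
    ext
    · simp
    · simp

theorem exists_tan {V : X.Opens} (hV : IsAffineOpen V) (x : Spec (CommRingCat.of k) ⟶ X) (hx : x ≫ pX = 𝟙 _)
    (e : ⊤ ≤ x ⁻¹ᵁ V) {δ : Γ(X, V) →+ k} (hδ : IsPtDer pX (evPt x e) δ) :
    ∃ (v : T k ⟶ X) (ev : ⊤ ≤ v ⁻¹ᵁ V), v ≫ pX = tT k ∧ pt k ≫ v = x ∧
      ∀ a, toDual (v.appLE V ⊤ ev a) = TrivSqZeroExt.inl (evPt x e a) + TrivSqZeroExt.inr (δ a) := by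
  let ρ : Γ(X, V) ⟶ Γ(T k, ⊤) := CommRingCat.ofHom (ptHom hδ) ≫
    (Scheme.ΓSpecIso (CommRingCat.of (DualNumber k))).inv
  have hρ : ∀ a, toDual (ρ a) = TrivSqZeroExt.inl (evPt x e a) + TrivSqZeroExt.inr (δ a) := fun a =>
    congr($((Scheme.ΓSpecIso (CommRingCat.of (DualNumber k))).inv_hom_id) (ptHom hδ a))
  have ev := le_toAff hV ρ
  have hv : ∀ a, (toAff hV ρ).appLE V ⊤ ev a = ρ a := fun a => congr($(toAff_appLE hV ρ ev) a)
  refine ⟨toAff hV ρ, ev, ?_, ?_, fun a => by rw [hv, hρ]⟩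
  · refine hom_ext_of_appLE (isAffineOpen_top (Spec (CommRingCat.of k))) le_top le_top fun c => ?_
    apply toDual_injective
    have h1 := appLE_comp (toAff hV ρ) pX (V := ⊤) (W := V) (W' := ⊤) le_top ev le_top c
    rw [← h1, hv, hρ, hδ.zero, evPt_base x pX hx e]
    have h2 := tT_appTop c
    have h3 : (tT k).appLE ⊤ ⊤ le_top c = (tT k).appTop c :=
      congr($(((tT k).app_eq_appLE (U := ⊤)).symm) c)
    rw [h3]
    refine Eq.trans ?_ h2.symm
    rw [TrivSqZeroExt.inr_zero, add_zero]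
    rfl
  · have e' : ⊤ ≤ (pt k ≫ toAff hV ρ) ⁻¹ᵁ V := by
      rw [Scheme.Hom.comp_preimage]
      intro y _
      exact ev (show (pt k) y ∈ (⊤ : (T k).Opens) from trivial)
    refine hom_ext_of_appLE hV e' e fun a => ?_
    have h1 := appLE_comp (pt k) (toAff hV ρ) (V := V) (W := ⊤) (W' := ⊤) ev le_top e' a
    rw [← h1, hv]
    have h3 : (pt k).appLE ⊤ ⊤ le_top (ρ a) = (pt k).appTop (ρ a) :=
      congr($(((pt k).app_eq_appLE (U := ⊤)).symm) (ρ a))
    rw [h3, pt_appTop, hρ, TrivSqZeroExt.fst_add, TrivSqZeroExt.fst_inl, TrivSqZeroExt.fst_inr, add_zero]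
    exact congr($((Scheme.ΓSpecIso (CommRingCat.of k)).hom_inv_id) (x.appLE V ⊤ e a))

theorem fst_toDual_appLE {V : X.Opens} (v : T k ⟶ X) (ev : ⊤ ≤ v ⁻¹ᵁ V) (x : Spec (CommRingCat.of k) ⟶ X)
    (hx : pt k ≫ v = x) (e : ⊤ ≤ x ⁻¹ᵁ V) (a : Γ(X, V)) :
    (toDual (v.appLE V ⊤ ev a)).fst = evPt x e a := by
  subst hx
  have h1 := appLE_comp (pt k) v (V := V) (W := ⊤) (W' := ⊤) ev le_top e a
  have h3 : (pt k).appLE ⊤ ⊤ le_top (v.appLE V ⊤ ev a) = (pt k).appTop (v.appLE V ⊤ ev a) :=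
    congr($(((pt k).app_eq_appLE (U := ⊤)).symm) _)
  change _ = (Scheme.ΓSpecIso (CommRingCat.of k)).hom ((pt k ≫ v).appLE V ⊤ e a)
  rw [← h1, h3, pt_appTop]
  exact congr($((Scheme.ΓSpecIso (CommRingCat.of k)).inv_hom_id) _).symm

/-- The derivation of a tangent vector. -/
noncomputable def tanDer {V : X.Opens} (v : T k ⟶ X) (ev : ⊤ ≤ v ⁻¹ᵁ V) : Γ(X, V) →+ k where
  toFun a := (toDual (v.appLE V ⊤ ev a)).snd
  map_zero' := by rw [map_zero, map_zero, TrivSqZeroExt.snd_zero]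
  map_add' a b := by rw [map_add, map_add, TrivSqZeroExt.snd_add]

theorem isPtDer_tan {V : X.Opens} (v : T k ⟶ X) (ev : ⊤ ≤ v ⁻¹ᵁ V) (x : Spec (CommRingCat.of k) ⟶ X)
    (hx : pt k ≫ v = x) (hv : v ≫ pX = tT k) (e : ⊤ ≤ x ⁻¹ᵁ V) : IsPtDer pX (evPt x e) (tanDer v ev) where
  leibniz a b := by
    change (toDual (v.appLE V ⊤ ev (a * b))).snd = _ * (toDual (v.appLE V ⊤ ev b)).snd +
      _ * (toDual (v.appLE V ⊤ ev a)).snd
    rw [map_mul, map_mul, TrivSqZeroExt.snd_mul, fst_toDual_appLE v ev x hx e, fst_toDual_appLE v ev x hx e]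
    simp only [smul_eq_mul, MulOpposite.smul_eq_mul_unop, MulOpposite.unop_op]
    ring
  zero c := by
    change (toDual (v.appLE V ⊤ ev (pX.appLE ⊤ V le_top c))).snd = 0
    have h1 := appLE_comp v pX (V := ⊤) (W := V) (W' := ⊤) le_top ev le_top c
    rw [h1, congr_appLE hv le_top le_top c]
    have h3 : (tT k).appLE ⊤ ⊤ le_top c = (tT k).appTop c :=
      congr($(((tT k).app_eq_appLE (U := ⊤)).symm) c)
    rw [h3]
    have h2 : toDual ((tT k).appTop c) = algebraMap k (DualNumber k) _ := tT_appTop c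
    rw [h2]
    rfl

end K921.TanVec
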