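import Groth.Agent.MorSch.K921.VectField
import Groth.Agent.MorSch.K921.TanVec
import Groth.Agent.Divis.StalkMod
import Groth.Agent.FormalB.PullCoh
import Groth.Prelude.Def_MorSch

/-!
# First order deformations of rational curves and free curves

`X` smooth over the field `k`, `f : P^1_k ⟶ X` over `k`, `t` a rational point of `P^1`.

* `isFree_of_lift` (D1): if every tangent vector `v : Spec k[ε] ⟶ X` of `X` at `f(t)` is `(τ, id) ≫ h` for a deformation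
  `h : P^1_{k[ε]} ⟶ X` of `f` and a tangent vector `τ` of `P^1` at `t`, then `f` is free;
* `isVeryFree_of_lift` (D2): if moreover, for a rational point `s ≠ t`, `h` and a tangent vector `σ` at `s` can be chosen
  with `(σ, id) ≫ h` constant, then `f` is very free.
-/

set_option autoImplicit false
universe u

open CategoryTheory CategoryTheory.Limits AlgebraicGeometry TopologicalSpace Opposite OmegaSh

namespace K921.TanLift

open Groth.Agent Groth.Agent.Fdesc.LocGen Groth.Agent.VarietyB K583.DerAffine K583.DerFunct K583.AlgUniv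
open K921.DerLoc K921.FreeGen K921.FreeMor K921.P1Ideal K921.PtIdeal K921.P1Tan K921.VectField RefHull
open K921.EpsDer K921.DefDer K921.TanVec

variable {k : Type u} [Field k] {X : Scheme.{u}} {pX : X ⟶ Spec (CommRingCat.of k)}
  {Ω : X.Modules} {d : Der pX Ω}

/-- For `X` smooth and separated over a field, the sheaf of differentials is finite locally free. -/
theorem isFinLocFree_omega (pX : X ⟶ Spec (CommRingCat.of k)) [Smooth pX] [IsSeparated pX] :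
    FlatMod.IsFinLocFree (Omega.sheaf pX) := by
  have : IsLocallyNoetherian X := LocallyOfFiniteType.isLocallyNoetherian pX
  exact fun x => Divis.StalkMod.exists_free_nhd (CurvesB.OmegaInv.isCoh_omega pX) x
    (CurvesB.OmegaInv.free_stalk_omega pX x)

theorem ev_add {Y : Scheme.{u}} {f : Y ⟶ X} {L : Y.Modules} (ψ ψ' : (Scheme.Modules.pullback f).obj Ω ⟶ L)
    {V : X.Opens} {W : Y.Opens} (e : W ≤ f ⁻¹ᵁ V) (a : Γ(X, V)) :
    ev (ψ + ψ') d e a = ev ψ d e a + ev ψ' d e a := rfl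

/-- The morphism `f^* Ω ⟶ O` of a deformation and a vector field, and its values at rational points. -/
theorem exists_hom (hd : IsUniversal d) (h : PT (pP k) ⟶ X) (w : pr (pP k) ≫ pP k = h ≫ pX)
    (θ : Der (pP k) (Coh.structureModule (P1 k))) :
    ∃ ψ : (Scheme.Modules.pullback (i0 (pP k) ≫ h)).obj Ω ⟶ Coh.structureModule (P1 k),
      ∀ (V : X.Opens) (W : (P1 k).Opens) (_ : IsAffineOpen W) (e : W ≤ (i0 (pP k) ≫ h) ⁻¹ᵁ V)
        (τ : T k ⟶ P1 k) (_ : τ ≫ pP k = tT k) (eτ : ⊤ ≤ τ ⁻¹ᵁ W) (t : Spec (CommRingCat.of k) ⟶ P1 k)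
        (_ : pt k ≫ τ = t) (et : ⊤ ≤ t ⁻¹ᵁ W)
        (_ : ∀ b : Γ(P1 k, W), evPt t et (fnSect _ _ (θ.app W b)) = tanDer τ eτ b)
        (v : T k ⟶ X) (_ : ∀ hh, pullback.lift τ (𝟙 _) hh ≫ h = v) (ev' : ⊤ ≤ v ⁻¹ᵁ V) (a : Γ(X, V)),
        evPt t et (fnSect _ _ (ev ψ d e a)) = tanDer v ev' a := by
  have w2 : pP k ≫ 𝟙 _ = (i0 (pP k) ≫ h) ≫ pX := by
    rw [Category.assoc, ← w, i0_pr_assoc, Category.comp_id]
  let D2 : Der pX ((Scheme.Modules.pushforward (i0 (pP k) ≫ h)).obj (Coh.structureModule (P1 k))) :=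
    pushDer (f := pX) (f' := pP k) (h := i0 (pP k) ≫ h) (b := 𝟙 _) w2 θ
  refine ⟨homOf hd (defDer (pP k) h w) + homOf hd D2, ?_⟩
  intro V W hW e τ hτ eτ t ht et hθ v hv ev' a
  have h1 : fnSect _ _ (ev (homOf hd (defDer (pP k) h w) + homOf hd D2) d e a) =
      defVal (pP k) h e a + fnSect _ _ (θ.app W ((i0 (pP k) ≫ h).appLE V W e a)) := by
    rw [ev_add, map_add]
    congr 1
    · rw [ev_homOf]
      rfl
    · rw [ev_homOf]
      congr 1
      exact (app_map θ e _).symm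
  have h2 := eps_eval (pP k) h hW e τ hτ eτ v (hv _) ev' a
  have h3 := congrArg TrivSqZeroExt.snd h2
  rw [h1, map_add, hθ]
  change _ = (toDual (v.appLE V ⊤ ev' a)).snd
  rw [h3, TrivSqZeroExt.snd_add, TrivSqZeroExt.snd_mul, DualNumber.fst_eps, DualNumber.snd_eps,
    fst_toDual_appLE τ eτ t ht et, zero_smul, zero_add, MulOpposite.smul_eq_mul_unop, MulOpposite.unop_op,
    add_comm]
  congr 1
  exact (one_mul _).symm

theorem top_le_of_mem {Y : Scheme.{u}} (t : Spec (CommRingCat.of k) ⟶ Y) {W : Y.Opens}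
    (h : t (IsLocalRing.closedPoint k) ∈ W) : ⊤ ≤ t ⁻¹ᵁ W := by
  intro x _
  have : x = IsLocalRing.closedPoint k := Subsingleton.elim (α := PrimeSpectrum k) _ _
  rw [this]
  exact h

theorem top_le_of_pt {Y : Scheme.{u}} (τ : T k ⟶ Y) {W : Y.Opens}
    (h : (pt k ≫ τ) (IsLocalRing.closedPoint k) ∈ W) : ⊤ ≤ τ ⁻¹ᵁ W := by
  intro x _
  obtain ⟨y, rfl⟩ := (pt k).surjective x
  exact top_le_of_mem (pt k ≫ τ) h (show y ∈ (⊤ : (Spec (CommRingCat.of k)).Opens) from trivial)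

theorem mem_basicOpen_of_isUnit {Y : Scheme.{u}} (t : Spec (CommRingCat.of k) ⟶ Y) {W : Y.Opens}
    (e : ⊤ ≤ t ⁻¹ᵁ W) (a : Γ(Y, W)) (h : IsUnit (evPt t e a)) :
    t (IsLocalRing.closedPoint k) ∈ Y.basicOpen a := by
  have h1 : IsUnit (t.appLE W ⊤ e a) := by
    have h2 := h.map (Scheme.ΓSpecIso (CommRingCat.of k)).inv.hom
    have h3 : (Scheme.ΓSpecIso (CommRingCat.of k)).inv.hom (evPt t e a) = t.appLE W ⊤ e a :=
      congr($((Scheme.ΓSpecIso (CommRingCat.of k)).hom_inv_id) _)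
    rwa [h3] at h2
  have h2 := Scheme.basicOpen_of_isUnit _ h1
  rw [Scheme.basicOpen_appLE] at h2
  have h3 : IsLocalRing.closedPoint k ∈ (⊤ : (Spec (CommRingCat.of k)).Opens) := trivial
  rw [← h2] at h3
  exact h3.2

theorem exists_affines {Y : Scheme.{u}} (f : Y ⟶ X) (y : Y) (U : Y.Opens) (hy : y ∈ U) :
    ∃ (V : X.Opens) (W : Y.Opens), IsAffineOpen V ∧ IsAffineOpen W ∧ y ∈ W ∧ W ≤ f ⁻¹ᵁ V ∧ W ≤ U := by
  obtain ⟨V, hV, hxV, -⟩ := exists_isAffineOpen_mem_and_subset (U := ⊤) (x := f y) trivial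
  obtain ⟨W, hW, hxW, hWV⟩ := exists_isAffineOpen_mem_and_subset (U := f ⁻¹ᵁ V ⊓ U) (x := y) ⟨hxV, hy⟩
  have hWV' : W ≤ f ⁻¹ᵁ V ⊓ U := hWV
  exact ⟨V, W, hV, hW, hxW, hWV'.trans inf_le_left, hWV'.trans inf_le_right⟩

/-- (D1) -/
theorem isFree_of_lift [Smooth pX] [IsSeparated pX] (f : P1 k ⟶ X) (hf : f ≫ pX = pP k)
    (t : Spec (CommRingCat.of k) ⟶ P1 k) (ht : t ≫ pP k = 𝟙 _)
    (H : ∀ v : T k ⟶ X, v ≫ pX = tT k → pt k ≫ v = t ≫ f → ∃ (h : PT (pP k) ⟶ X) (τ : T k ⟶ P1 k),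
      h ≫ pX = pr (pP k) ≫ pP k ∧ i0 (pP k) ≫ h = f ∧ τ ≫ pP k = tT k ∧ pt k ≫ τ = t ∧
      ∀ hh, pullback.lift τ (𝟙 _) hh ≫ h = v) : MorSch.IsFree pX f := by
  have hd : IsUniversal (OmegaSh.dOmega pX) := S5005.result pX
  obtain ⟨e0⟩ := PullDual.nonempty_pullback_dual f (isFinLocFree_omega pX)
  refine isGG_of_iso e0.symm ?_
  obtain ⟨V, W, hV, hW, htW, e, -⟩ := exists_affines f (t (IsLocalRing.closedPoint k)) ⊤ trivial
  obtain ⟨f1, f2⟩ := OmegaProj.finite_projective_pullback f hd hV hW e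
  have et : ⊤ ≤ t ⁻¹ᵁ W := top_le_of_mem t htW
  have etf : ⊤ ≤ (t ≫ f) ⁻¹ᵁ V := et.trans (t.preimage_mono e)
  have hXn : IsLocallyNoetherian X := LocallyOfFiniteType.isLocallyNoetherian pX
  have hE : Coh.IsQCoh (homSh ((Scheme.Modules.pullback f).obj (Omega.sheaf pX))
      (Coh.structureModule (P1 k))) := K476.HomSh3.isQCoh_homSh (K476.HomSh3.isFP_of_isCoh
        (FormalB.PullCoh.isCoh_pullback f (CurvesB.OmegaInv.isCoh_omega pX)))
        (Fdesc.StructMod.isQCoh_structureModule _)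
  refine isGloballyGenerated_of_point (p := pX) (f := f) (d := OmegaSh.dOmega pX) e
    (isClosed_of_ne k) (subsingleton_H1 k) hd hV hW hE (lamO W) (evPt t et) (t (IsLocalRing.closedPoint k))
    (fun a ha => mem_basicOpen_of_isUnit t et a ha) fun δ hδ => ?_
  have hδ' : IsPtDer pX (evPt (t ≫ f) etf) δ := ⟨fun a b => by
    rw [← evPt_comp t f e et, ← evPt_comp t f e et]
    exact hδ.leibniz a b, hδ.zero⟩
  obtain ⟨v, ev', hv1, hv2, hv3⟩ := exists_tan hV (t ≫ f) (by rw [Category.assoc, hf, ht]) etf hδ'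
  obtain ⟨h, τ, hh1, hh2, hτ1, hτ2, hh⟩ := H v hv1 hv2
  have eτ : ⊤ ≤ τ ⁻¹ᵁ W := top_le_of_pt τ (by rw [hτ2]; exact htW)
  obtain ⟨θ, hθ⟩ := exists_vf hW t ht et (isPtDer_tan τ eτ t hτ2 hτ1 et)
  obtain ⟨ψ, hψ⟩ := exists_hom hd h hh1.symm θ
  subst hh2
  refine ⟨ψ, fun a => ?_⟩
  have h1 := hψ V W hW e τ hτ1 eτ t hτ2 et hθ v hh ev' a
  refine h1.trans ?_
  change (toDual (v.appLE V ⊤ ev' a)).snd = δ a
  rw [hv3, TrivSqZeroExt.snd_add, TrivSqZeroExt.snd_inl, TrivSqZeroExt.snd_inr, zero_add]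

end K921.TanLift
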