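import Groth.Agent.MorSch.K921.P1Tan
import Groth.Agent.MorSch.K921.FreeMor
import Groth.Agent.MorSch.K921.OmegaProj
import Groth.Agent.MorSch.K921.DefDer
import Groth.Agent.MorSch.K921.PtIdeal
import Groth.Agent.S5005
import Groth.Agent.CurvesB.OmegaInv
import Groth.Agent.Sga5.ProjSmooth

/-!
# Vector fields on the projective line with prescribed values

* `exists_vf`: every derivation of `Γ(P^1, W)` at `t` is the value of a global vector field;
* `exists_vf_ker`: the same with a vector field vanishing at another rational point `s`.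
-/

set_option autoImplicit false
universe u

open CategoryTheory CategoryTheory.Limits AlgebraicGeometry TopologicalSpace Opposite OmegaSh

namespace K921.VectField

open Groth.Agent Groth.Agent.Fdesc.LocGen Groth.Agent.VarietyB K583.DerAffine K583.DerFunct K583.AlgUniv
open K921.DerLoc K921.FreeGen K921.FreeMor K921.P1Ideal K921.PtIdeal K921.P1Tan RefHull

variable {k : Type u} [Field k]

/-- `Ω` of the projective line. -/
noncomputable abbrev Ω1 (k : Type u) [Field k] : (P1 k).Modules := Omega.sheaf (pP k)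

/-- The universal derivation of the projective line. -/
noncomputable abbrev d1 (k : Type u) [Field k] : Der (pP k) (Ω1 k) := OmegaSh.dOmega (pP k)

theorem isUniversal_d1 : IsUniversal (d1 k) := S5005.result (pP k)

/-- `𝟙^* Ω ≅ Ω`. -/
noncomputable def idIso : (Scheme.Modules.pullback (𝟙 (P1 k))).obj (Ω1 k) ≅ Ω1 k :=
  (Scheme.Modules.pullbackId (P1 k)).app (Ω1 k)

theorem id_appLE {Y : Scheme.{u}} (W : Y.Opens) (e : W ≤ (𝟙 Y : Y ⟶ Y) ⁻¹ᵁ W) (a : Γ(Y, W)) :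
    (𝟙 Y : Y ⟶ Y).appLE W W e a = a := by
  have h : (𝟙 Y : Y ⟶ Y).appLE W W e = 𝟙 _ := Y.presheaf.map_id _
  exact congr($h a)

/-- The derivation defined by a morphism out of `𝟙^* Ω`. -/
theorem exists_der_of_hom {Y S : Scheme.{u}} {p : Y ⟶ S} {Ω : Y.Modules} (d : Der p Ω) {L : Y.Modules}
    (ψ : (Scheme.Modules.pullback (𝟙 Y)).obj Ω ⟶ L) :
    ∃ θ : Der p L, ∀ (U : Y.Opens) (a : Γ(Y, U)), θ.app U a =
      ev ψ d (show U ≤ (𝟙 Y : Y ⟶ Y) ⁻¹ᵁ U from le_refl U) a := by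
  refine ⟨mkDer p L (fun U => ev ψ d (show U ≤ (𝟙 Y : Y ⟶ Y) ⁻¹ᵁ U from le_refl U))
    (fun U a b => ?_) (fun U V e a => ?_) (fun V c => ?_), fun U a => ?_⟩
  · have h := (isLocDer_ev ψ (d := d) (show U ≤ (𝟙 Y : Y ⟶ Y) ⁻¹ᵁ U from le_refl U)).leibniz a b
    rw [id_appLE, id_appLE] at h
    exact h
  · exact (ev_res ψ (show U ≤ (𝟙 Y : Y ⟶ Y) ⁻¹ᵁ U from le_refl U)
      (show V ≤ (𝟙 Y : Y ⟶ Y) ⁻¹ᵁ V from le_refl V) e e a).symm
  · rw [ev_apply, app_base, map_zero, map_zero]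
  · exact mkDer_app _ _ _ _ _ _

/-- Vector fields with a prescribed value at a rational point: general form. -/
theorem exists_der {L : (P1 k).Modules} (hL : Coh.IsQCoh L)
    (hg : Curv2.IsGloballyGenerated (homSh (Ω1 k) L)) {W : (P1 k).Opens} (hW : IsAffineOpen W)
    (lam : Γ(L, W) ≃ₗ[Γ(P1 k, W)] Γ(P1 k, W))
    (t : Spec (CommRingCat.of k) ⟶ P1 k) (ht : t ≫ pP k = 𝟙 _) (e : ⊤ ≤ t ⁻¹ᵁ W)
    {δ : Γ(P1 k, W) →+ k} (hδ : IsPtDer (pP k) (evPt t e) δ) :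
    ∃ θ : Der (pP k) L, ∀ a : Γ(P1 k, W), evPt t e (lam (θ.app W a)) = δ a := by
  have hd := isUniversal_d1 (k := k)
  have hsm : Smooth (pP k) := SmoothOfRelativeDimension.smooth 1 _
  obtain ⟨f1, f2⟩ := OmegaProj.finite_projective_pullback (𝟙 (P1 k)) hd hW hW (le_refl W)
  have hΩ : Coh.IsCoh (Ω1 k) := CurvesB.OmegaInv.isCoh_omega (pP k)
  have hE : Coh.IsQCoh (homSh ((Scheme.Modules.pullback (𝟙 (P1 k))).obj (Ω1 k)) L) :=
    K476.HomSh3.isQCoh_homSh (K476.HomSh3.isFP_of_isCoh (VarietyA.EulerFinite.isCoh_of_iso idIso.symm hΩ)) hL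
  obtain ⟨ψ, hψ⟩ := exists_hom_of_ptDer (p := pP k) (f := 𝟙 (P1 k)) (V := W)
    (show W ≤ (𝟙 (P1 k) : P1 k ⟶ P1 k) ⁻¹ᵁ W from le_refl W) hd hW hW lam hE
    (isGG_of_iso (K476.HomSh1.isoLeft idIso L).symm hg) (evPt t e) (evPt_surjective t (pP k) ht e)
    (δ := δ) ⟨fun a b => by
      rw [hδ.leibniz, RingHom.comp_apply, RingHom.comp_apply]
      erw [id_appLE, id_appLE], hδ.zero⟩
  obtain ⟨θ, hθ⟩ := exists_der_of_hom (d1 k) ψ
  exact ⟨θ, fun a => by rw [hθ, ← hψ a]⟩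

/-- `Γ(O_Y, W) = Γ(Y, W)`. -/
noncomputable def lamO {Y : Scheme.{u}} (W : Y.Opens) : Γ(Coh.structureModule Y, W) ≃ₗ[Γ(Y, W)] Γ(Y, W) where
  toFun := fnSect Y W
  invFun := strSect Y W
  map_add' _ _ := rfl
  map_smul' _ _ := rfl
  left_inv _ := rfl
  right_inv _ := rfl

/-- Global vector fields with a prescribed value at a rational point. -/
theorem exists_vf {W : (P1 k).Opens} (hW : IsAffineOpen W) (t : Spec (CommRingCat.of k) ⟶ P1 k)
    (ht : t ≫ pP k = 𝟙 _) (e : ⊤ ≤ t ⁻¹ᵁ W) {δ : Γ(P1 k, W) →+ k} (hδ : IsPtDer (pP k) (evPt t e) δ) :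
    ∃ θ : Der (pP k) (Coh.structureModule (P1 k)),
      ∀ a : Γ(P1 k, W), evPt t e (fnSect _ _ (θ.app W a)) = δ a :=
  exists_der (Fdesc.StructMod.isQCoh_structureModule _) (isGG_tan k (Iso.refl _)) hW (lamO W) t ht e hδ

/-- Global vector fields vanishing at a rational point, with a prescribed value at another one. -/
theorem exists_vf_ker {W : (P1 k).Opens} (hW : IsAffineOpen W) (t : Spec (CommRingCat.of k) ⟶ P1 k)
    (ht : t ≫ pP k = 𝟙 _) (e : ⊤ ≤ t ⁻¹ᵁ W) {δ : Γ(P1 k, W) →+ k} (hδ : IsPtDer (pP k) (evPt t e) δ)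
    (s : Spec (CommRingCat.of k) ⟶ P1 k) (hs : s ≫ pP k = 𝟙 _) (hsW : s (IsLocalRing.closedPoint k) ∉ W) :
    ∃ θ : Der (pP k) (Coh.structureModule (P1 k)),
      (∀ a : Γ(P1 k, W), evPt t e (fnSect _ _ (θ.app W a)) = δ a) ∧
      ∀ (W' : (P1 k).Opens) (_ : IsAffineOpen W') (e' : ⊤ ≤ s ⁻¹ᵁ W') (a : Γ(P1 k, W')),
        evPt s e' (fnSect _ _ (θ.app W' a)) = 0 := by
  have : IsClosedImmersion s := Picfga.PtEval.isClosedImmersion_of_section hs
  obtain ⟨θ, hθ⟩ := exists_der (k := k) (K533.PtTwist.isCoh_aux (isInvertible_ker k s hs)).1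
    (isGG_tan_ker k (Iso.refl _) s hs) hW (lamI s hW hsW) t ht e hδ
  refine ⟨θ.postcomp (ClSub.idealModι s.ker).val, fun a => hθ a, fun W' hW' e' a => ?_⟩
  rw [← mem_ideal_iff s hW' e']
  exact Dix.IdealModCartier.val_mem s.ker ⟨W', hW'⟩ (θ.app W' a)

end K921.VectField
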